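import Cfsg.Agent.Components.BGN.PSL

/-!
`PSL₂(pⁿ)` for any prime: Sylow `p`-subgroups generate in pairs, are elementary abelian; the centre is trivial.
-/

set_option autoImplicit false
set_option linter.unusedSectionVars false
set_option linter.style.haveILetI false

namespace Cfsg.Lib.BGN.P

open Matrix Subgroup Cfsg.Lib.Known.AutPSL2 Cfsg.Lib.BGN
open scoped Pointwise

variable {F : Type*} [Field F] [Fintype F] {p : ℕ} [hp : Fact p.Prime]

local notation "S" => Matrix.SpecialLinearGroup (Fin 2) F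
local notation "P" => Matrix.ProjectiveSpecialLinearGroup (Fin 2) F

theorem exists_conj_eq {n : ℕ} (hn : 1 ≤ n) (hF : Fintype.card F = p ^ n) (R : Sylow p P) :
    ∃ g : P, (R : Subgroup P) = (u (F := F)).range.map (MulAut.conj g).toMonoidHom := by
  haveI : CharP F p := charP_of_card_eq_prime_pow hF
  obtain ⟨U, hU⟩ := exists_sylow_u p hn hF
  obtain ⟨g, rfl⟩ := MulAction.exists_smul_eq P U R
  exact ⟨g, by rw [Sylow.coe_subgroup_smul, hU, ← conj_map]⟩

/-- two Sylow `p`-subgroups generate -/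
theorem psl_sylow_sup {n : ℕ} (hn : 1 ≤ n) (hF : Fintype.card F = p ^ n) (R R' : Sylow p P)
    (hne : (R : Subgroup P) ≠ R') : (R : Subgroup P) ⊔ R' = ⊤ := by
  obtain ⟨g, hg⟩ := exists_conj_eq hn hF R
  obtain ⟨g', hg'⟩ := exists_conj_eq hn hF R'
  obtain ⟨m, hm⟩ := QuotientGroup.mk_surjective (g⁻¹ * g')
  set U := (u (F := F)).range
  have e : (MulAut.conj g).toMonoidHom.comp (MulAut.conj (g⁻¹ * g')).toMonoidHom = (MulAut.conj g').toMonoidHom := by
    ext z; simp [mul_assoc]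
  rw [hg, hg', ← e, ← Subgroup.map_map, ← Subgroup.map_sup]
  rcases conj_u_range m with h | ⟨x, h⟩
  · refine absurd ?_ hne
    rw [hg, hg', ← e, ← Subgroup.map_map, show g⁻¹ * g' = π m from hm.symm, h]
  · rw [show g⁻¹ * g' = π m from hm.symm, h, ← map_top_of_surjective (MulAut.conj g).toMonoidHom (MulAut.conj g).surjective]
    congr 1
    refine closure_eq_top _ (fun y => mem_sup_left ⟨Multiplicative.ofAdd y, rfl⟩) fun y => ?_
    have hu : π (uS x) ∈ U ⊔ (v (F := F)).range.map (MulAut.conj (π (uS x))).toMonoidHom :=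
      mem_sup_left ⟨Multiplicative.ofAdd x, rfl⟩
    have h1 : π (uS x) * π (vS y) * (π (uS x))⁻¹ ∈
        U ⊔ (v (F := F)).range.map (MulAut.conj (π (uS x))).toMonoidHom :=
      mem_sup_right ⟨π (vS y), ⟨Multiplicative.ofAdd y, rfl⟩, rfl⟩
    simpa [mul_assoc] using mul_mem (mul_mem (inv_mem hu) h1) hu

/-- exponent `p` -/
theorem psl_sylow_pow {n : ℕ} (hn : 1 ≤ n) (hF : Fintype.card F = p ^ n) (R : Sylow p P) {a : P}
    (ha : a ∈ (R : Subgroup P)) : a ^ p = 1 := by
  haveI : CharP F p := charP_of_card_eq_prime_pow hF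
  obtain ⟨g, hg⟩ := exists_conj_eq hn hF R
  rw [hg] at ha
  obtain ⟨_, ⟨x, rfl⟩, rfl⟩ := ha
  rw [← map_pow, ← map_pow, show x ^ p = 1 from Multiplicative.toAdd.injective (by
    rw [toAdd_pow, toAdd_one, nsmul_eq_mul, CharP.cast_eq_zero, zero_mul]), map_one, map_one]

/-- Sylow subgroups are abelian -/
theorem psl_sylow_comm {n : ℕ} (hn : 1 ≤ n) (hF : Fintype.card F = p ^ n) (R : Sylow p P) {a b : P}
    (ha : a ∈ (R : Subgroup P)) (hb : b ∈ (R : Subgroup P)) : a * b = b * a := by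
  obtain ⟨g, hg⟩ := exists_conj_eq hn hF R
  rw [hg] at ha hb
  obtain ⟨_, ⟨x, rfl⟩, rfl⟩ := ha
  obtain ⟨_, ⟨y, rfl⟩, rfl⟩ := hb
  rw [← map_mul, ← map_mul, ← map_mul, ← map_mul, mul_comm x y]

/-- trivial centre -/
theorem psl_center_eq_bot : center P = ⊥ := by
  rw [eq_bot_iff]
  intro z hz
  obtain ⟨M, rfl⟩ := QuotientGroup.mk'_surjective (center S) z
  have key : ∀ N : S, ∃ c : F, c * c = 1 ∧
      (M : Matrix (Fin 2) (Fin 2) F) * N = c • ((N : Matrix (Fin 2) (Fin 2) F) * M) := by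
    intro N
    obtain ⟨c, hc, h⟩ := π_eq (M := N * M) (N := M * N) (by
      rw [map_mul, map_mul]; exact mem_center_iff.1 hz _)
    rw [cmul, cmul] at h
    exact ⟨c, hc, h⟩
  obtain ⟨c, hc, h1⟩ := key (uS 1)
  obtain ⟨c', hc', h2⟩ := key (vS 1)
  set a := (M : Matrix (Fin 2) (Fin 2) F) 0 0 with ha
  set b := (M : Matrix (Fin 2) (Fin 2) F) 0 1 with hb
  set q := (M : Matrix (Fin 2) (Fin 2) F) 1 0 with hq
  set d := (M : Matrix (Fin 2) (Fin 2) F) 1 1 with hd
  have hdet : a * d - b * q = 1 := by rw [ha, hb, hq, hd, ← det_fin_two]; exact M.2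
  have u00 : a = c * (a + q) := by
    simpa [coe_uS, Matrix.mul_apply, Matrix.vecMul, dotProduct, Fin.sum_univ_two, Matrix.smul_apply, ha, hb, hq, hd] using congrFun (congrFun h1 0) 0
  have u10 : q = c * q := by
    simpa [coe_uS, Matrix.mul_apply, Matrix.vecMul, dotProduct, Fin.sum_univ_two, Matrix.smul_apply, ha, hb, hq, hd] using congrFun (congrFun h1 1) 0
  have u01 : a + b = c * (b + d) := by
    simpa [coe_uS, Matrix.mul_apply, Matrix.vecMul, dotProduct, Fin.sum_univ_two, Matrix.smul_apply, ha, hb, hq, hd] using congrFun (congrFun h1 0) 1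
  have v11 : d = c' * (b + d) := by
    simpa [coe_vS, Matrix.mul_apply, Matrix.vecMul, dotProduct, Fin.sum_univ_two, Matrix.smul_apply, ha, hb, hq, hd] using congrFun (congrFun h2 1) 1
  have v01 : b = c' * b := by
    simpa [coe_vS, Matrix.mul_apply, Matrix.vecMul, dotProduct, Fin.sum_univ_two, Matrix.smul_apply, ha, hb, hq, hd] using congrFun (congrFun h2 0) 1
  have hq0 : q = 0 := by
    by_contra hne
    have hc1 : c = 1 := mul_right_cancel₀ hne (by rw [one_mul]; exact u10.symm)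
    rw [hc1, one_mul] at u00
    exact hne (by linear_combination -u00)
  have hb0 : b = 0 := by
    by_contra hne
    have hc1 : c' = 1 := mul_right_cancel₀ hne (by rw [one_mul]; exact v01.symm)
    rw [hc1, one_mul] at v11
    exact hne (by linear_combination -v11)
  have hane : a ≠ 0 := fun h => by rw [h, hb0] at hdet; simp at hdet
  rw [hq0, add_zero] at u00
  have hc1 : c = 1 := mul_right_cancel₀ hane (by rw [one_mul]; exact u00.symm)
  rw [hb0, hc1, one_mul, zero_add, add_zero] at u01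
  rw [mem_bot]
  refine (QuotientGroup.eq_one_iff M).2 (Matrix.SpecialLinearGroup.mem_center_iff.2 ⟨a, ?_, ?_⟩)
  · rw [hb0, ← u01, zero_mul, sub_zero] at hdet
    rw [Fintype.card_fin, sq]; exact hdet
  · ext i j
    fin_cases i <;> fin_cases j <;>
      simp [Matrix.scalar_apply, ← ha, ← hb, ← hq, ← hd, hb0, hq0, ← u01]

end Cfsg.Lib.BGN.P
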