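import Cfsg.Agent.Components.BGNP.Natural
import Cfsg.Prelude.Def_LocalEven

/-!
Sections on which the elements of `p'`-order act trivially, natural sections, and the chief factors.
-/

set_option autoImplicit false
set_option linter.unusedSectionVars false
set_option linter.style.haveILetI false

namespace Cfsg.Lib.BGN.P

open Subgroup Matrix Cfsg.Lib.BGN Cfsg.Lib.Known.AutPSL2
open scoped commutatorElement

universe u v

variable {p : ℕ} [hp : Fact p.Prime] {G : Type u} [Group G] [Finite G]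

/-- the elements fixing `M` modulo a normal subgroup -/
def fixN (M N : Subgroup G) [N.Normal] : Subgroup G where
  carrier := {g | ∀ z ∈ M, ⁅z, g⁆ ∈ N}
  one_mem' := fun z _ => by rw [commutatorElement_one_right]; exact one_mem _
  mul_mem' := fun {a b} ha hb z hz => by
    rw [show ⁅z, a * b⁆ = ⁅z, a⁆ * (a * ⁅z, b⁆ * a⁻¹) by simp only [commutatorElement_def]; group]
    exact mul_mem (ha z hz) (Normal.conj_mem inferInstance _ (hb z hz) a)
  inv_mem' := fun {a} ha z hz => by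
    rw [show ⁅z, a⁻¹⁆ = a⁻¹ * ⁅z, a⁆⁻¹ * a⁻¹⁻¹ by simp only [commutatorElement_def]; group]
    exact Normal.conj_mem inferInstance _ (inv_mem (ha z hz)) a⁻¹

theorem mem_fixN {M N : Subgroup G} [N.Normal] {g : G} : g ∈ fixN M N ↔ ∀ z ∈ M, ⁅z, g⁆ ∈ N := Iff.rfl

instance fixN_normal {M N : Subgroup G} [hM : M.Normal] [N.Normal] : (fixN M N).Normal := ⟨fun g hg x z hz => by
  have hz' : x⁻¹ * z * x ∈ M := by simpa using hM.conj_mem z hz x⁻¹
  rw [show ⁅z, x * g * x⁻¹⁆ = x * ⁅x⁻¹ * z * x, g⁆ * x⁻¹ by simp only [commutatorElement_def]; group]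
  exact Normal.conj_mem inferInstance _ (hg _ hz') x⟩

/-- the elements of `p'`-order fix the section -/
def Triv (p : ℕ) (N M : Subgroup G) : Prop :=
  ∀ g : G, (orderOf g).Coprime p → ∀ x ∈ M, ⁅x, g⁆ ∈ N

/-- a coprime element fixing a quotient and the subgroup below fixes an element -/
theorem coprime_fix {g x : G} (hg : (orderOf g).Coprime p) {c : G} (hc : g * x * g⁻¹ = c * x)
    (hgc : g * c = c * g) (hcp : ∃ k, c ^ p ^ k = 1) : c = 1 := by
  have hit : ∀ m : ℕ, g ^ m * x * (g ^ m)⁻¹ = c ^ m * x := by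
    intro m
    induction m with
    | zero => simp
    | succ m ihm =>
      calc g ^ (m + 1) * x * (g ^ (m + 1))⁻¹ = g * (g ^ m * x * (g ^ m)⁻¹) * g⁻¹ := by rw [pow_succ']; group
        _ = (g * c ^ m) * x * g⁻¹ := by rw [ihm]; group
        _ = c ^ m * (g * x * g⁻¹) := by rw [((show Commute g c from hgc).pow_right m).eq]; group
        _ = c ^ (m + 1) * x := by rw [hc, pow_succ, mul_assoc]
  have h1 := hit (orderOf g)
  rw [pow_orderOf_eq_one, one_mul, inv_one, mul_one, right_eq_mul] at h1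
  obtain ⟨k, hk⟩ := hcp
  exact orderOf_eq_one_iff.1 (Nat.eq_one_of_dvd_coprimes (hg.pow_right k) (orderOf_dvd_of_pow_eq_one h1)
    (orderOf_dvd_of_pow_eq_one hk))

/-- a coprime element fixing a series fixes the top -/
theorem coprime_centralize {M N : Subgroup G} (hNp : IsPGroup p N) {g : G} (hg : (orderOf g).Coprime p)
    (h : ∀ x ∈ M, ⁅x, g⁆ ∈ N) (hN : ∀ x ∈ N, g * x = x * g) : ∀ x ∈ M, g * x = x * g := by
  intro x hx
  have hcN : ⁅g, x⁆ ∈ N := by rw [← commutatorElement_inv]; exact inv_mem (h x hx)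
  obtain ⟨k, hk⟩ := hNp ⟨⁅g, x⁆, hcN⟩
  exact commutatorElement_eq_one_iff_mul_comm.1 (coprime_fix (x := x) (c := ⁅g, x⁆) hg
    (by rw [commutatorElement_def]; group) (hN _ hcN) ⟨k, by simpa using congrArg Subtype.val hk⟩)

theorem Triv.trans {N₁ N₂ M : Subgroup G} [N₁.Normal] [N₂.Normal] (hN₂ : IsPGroup p N₂) (h₁ : Triv p N₁ N₂)
    (h₂ : Triv p N₂ M) : Triv p N₁ M := by
  intro g hg x hx
  set q := QuotientGroup.mk' N₁
  have hq : (orderOf (q g)).Coprime p := hg.coprime_dvd_left (orderOf_map_dvd q g)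
  have hcN : ⁅g, x⁆ ∈ N₂ := by rw [← commutatorElement_inv]; exact inv_mem (h₂ g hg x hx)
  have hc1 : q ⁅g, x⁆ = 1 := by
    obtain ⟨k, hk⟩ := hN₂ ⟨⁅g, x⁆, hcN⟩
    refine coprime_fix (x := q x) hq ?_ ?_ ⟨k, by
      rw [← map_pow, show ⁅g, x⁆ ^ p ^ k = 1 by simpa using congrArg Subtype.val hk, map_one]⟩
    · rw [← map_inv, ← map_mul, ← map_mul, ← map_mul]
      congr 1
      rw [commutatorElement_def]; group
    · rw [← commutatorElement_eq_one_iff_mul_comm, ← map_commutatorElement, ← commutatorElement_inv, map_inv,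
        inv_eq_one]
      exact (QuotientGroup.eq_one_iff _).2 (h₁ g hg _ hcN)
  have := inv_mem ((QuotientGroup.eq_one_iff _).1 hc1 : ⁅g, x⁆ ∈ N₁)
  rwa [commutatorElement_inv] at this

namespace Sit

variable {F : Type v} [Field F] [Fintype F] (d : Sit p G F)

include d

/-- a subgroup normalised by a Sylow subgroup, with the `p'`-elements fixing its section -/
theorem normal_of_between {M N K : Subgroup G} [M.Normal] [N.Normal] (hNK : N ≤ K) (hKM : K ≤ M)
    (hS : d.S ≤ normalizer (K : Set G)) (h : Triv p N M) : K.Normal := by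
  haveI : (fixN M N).Normal := inferInstance
  rw [← normalizer_eq_top_iff, eq_top_iff, ← Cfsg.Lib.PushUp.sup_sylow_eq_top (fixN M N) d.c.S h]
  refine sup_le (le_normalizer_of_forall fun g hg => ?_) hS
  rintro _ ⟨k, hk, rfl⟩
  change g * k * g⁻¹ ∈ K
  have hk' : k ∈ K := hk
  rw [show g * k * g⁻¹ = k * (k⁻¹ * ⁅k, g⁆⁻¹ * k⁻¹⁻¹) by simp only [commutatorElement_def]; group]
  exact mul_mem hk' (hNK (Normal.conj_mem inferInstance _ (inv_mem (hg k (hKM hk'))) k⁻¹))

theorem iter_le_S {M : Subgroup G} (hM : M ≤ d.S) : ∀ k, Cfsg.iterCommutator M d.S k ≤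
    (Subgroup.lowerCentralSeries (⊤ : Subgroup ↥d.S) k).map d.S.subtype := by
  intro k
  induction k with
  | zero =>
    rw [Subgroup.lowerCentralSeries_zero, ← MonoidHom.range_eq_map, range_subtype]
    exact hM
  | succ k ih =>
    show ⁅Cfsg.iterCommutator M d.S k, d.S⁆ ≤ _
    rw [show Subgroup.lowerCentralSeries (⊤ : Subgroup ↥d.S) (k + 1) =
      ⁅Subgroup.lowerCentralSeries (⊤ : Subgroup ↥d.S) k, (⊤ : Subgroup ↥d.S)⁆ from rfl, map_commutator,
      ← MonoidHom.range_eq_map, range_subtype]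
    exact commutator_mono ih le_rfl

/-- a section fixed by the `p'`-elements is hypercentral -/
theorem hyper {M N : Subgroup G} [M.Normal] [N.Normal] (hMS : M ≤ d.S) (hNM : N ≤ M) (h : Triv p N M) :
    ∃ k, Cfsg.iterCommutator M ⊤ k ≤ N := by
  have key : ∀ k, Cfsg.iterCommutator M ⊤ k ≤ N ⊔ Cfsg.iterCommutator M d.S k ∧
      N ⊔ Cfsg.iterCommutator M d.S k ≤ M ∧
      d.S ≤ normalizer ((Cfsg.iterCommutator M d.S k : Subgroup G) : Set G) := by
    intro k
    induction k with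
    | zero => exact ⟨le_sup_right, sup_le hNM le_rfl, le_top.trans (normalizer_eq_top (H := M)).ge⟩
    | succ k ih =>
      obtain ⟨h1, h2, h3⟩ := ih
      set I := Cfsg.iterCommutator M d.S k
      set I' := ⁅I, d.S⁆ with hI'
      have hI'M : N ⊔ I' ≤ M := by
        refine sup_le hNM (commutator_le.2 fun a ha b _ => ?_)
        rw [commutatorElement_def, mul_assoc, mul_assoc]
        have ha' : a ∈ M := h2 (mem_sup_right ha)
        exact mul_mem ha' (by simpa [mul_assoc] using Normal.conj_mem (inferInstance : M.Normal) _ (inv_mem ha') b)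
      have hn' : d.S ≤ normalizer (I' : Set G) := le_normalizer_of_forall fun s hs => by
        rw [hI', cj_comm, cj_eq_of_mem (h3 hs), cj_eq_of_mem (le_normalizer hs)]
      refine ⟨?_, hI'M, hn'⟩
      haveI : (N ⊔ I').Normal := d.normal_of_between le_sup_left hI'M
        (le_normalizer_of_forall fun s hs => by
          rw [cj_sup, cj_eq_of_mem ((normalizer_eq_top (H := N)).ge (mem_top s)), cj_eq_of_mem (hn' hs)]) h
      show ⁅Cfsg.iterCommutator M ⊤ k, (⊤ : Subgroup G)⁆ ≤ N ⊔ I'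
      refine (commutator_mono h1 le_rfl).trans (commutator_le.2 fun z hz g _ => ?_)
      have hNIM : N ⊔ I ≤ M := h2
      have hq : ⁅N ⊔ I, d.S⁆ ≤ N ⊔ I' := by
        set q := QuotientGroup.mk' (N ⊔ I')
        have e : (⁅N ⊔ I, d.S⁆).map q = ⊥ := by
          rw [map_commutator, Subgroup.map_sup, (Subgroup.map_eq_bot_iff N).2
            (le_sup_left.trans (QuotientGroup.ker_mk' (N ⊔ I')).ge), bot_sup_eq, ← map_commutator, ← hI',
            Subgroup.map_eq_bot_iff]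
          exact le_sup_right.trans (QuotientGroup.ker_mk' (N ⊔ I')).ge
        rw [Subgroup.map_eq_bot_iff, QuotientGroup.ker_mk'] at e
        exact e
      have hS : d.S ≤ fixN (N ⊔ I) (N ⊔ I') := fun s hs w hw => hq (commutator_mem_commutator hw hs)
      haveI : (N ⊔ I).Normal := d.normal_of_between le_sup_left hNIM
        (le_normalizer_of_forall fun s hs => by
          rw [cj_sup, cj_eq_of_mem ((normalizer_eq_top (H := N)).ge (mem_top s)), cj_eq_of_mem (h3 hs)]) h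
      have hall : (⊤ : Subgroup G) ≤ fixN (N ⊔ I) (N ⊔ I') := by
        rw [← Cfsg.Lib.PushUp.sup_sylow_eq_top (fixN (N ⊔ I) (N ⊔ I')) d.c.S
          (fun g hg w hw => mem_sup_left (h g hg w (hNIM hw)))]
        exact sup_le le_rfl hS
      exact hall (mem_top g) z hz
  haveI : Group.IsNilpotent ↥d.S := d.c.S.2.isNilpotent
  obtain ⟨k, hk⟩ := Subgroup.nilpotent_iff_lowerCentralSeries.1 this
  refine ⟨k, (key k).1.trans (sup_le le_rfl ((d.iter_le_S hMS k).trans ?_))⟩
  rw [hk, Subgroup.map_bot]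
  exact bot_le

theorem central_of_triv {U W : Subgroup G} [U.Normal] [W.Normal] (hch : Cfsg.IsChiefFactor U W) (hUS : U ≤ d.S)
    (h : Triv p W U) : ⁅U, (⊤ : Subgroup G)⁆ ≤ W := by
  obtain ⟨hlt, -, -, hN⟩ := hch
  obtain ⟨k, hk⟩ := d.hyper hUS hlt.le h
  haveI : (⁅U, (⊤ : Subgroup G)⁆ ⊔ W).Normal := inferInstance
  have hle : ⁅U, (⊤ : Subgroup G)⁆ ≤ U := commutator_le_left _ _
  rcases hN _ inferInstance (le_sup_right : W ≤ ⁅U, (⊤ : Subgroup G)⁆ ⊔ W) (sup_le hle hlt.le) with e | e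
  · exact le_sup_left.trans e.le
  exfalso
  set q := QuotientGroup.mk' W
  have hq : ∀ j, (Cfsg.iterCommutator U ⊤ j).map q = U.map q := by
    intro j
    induction j with
    | zero => rfl
    | succ j ih =>
      show (⁅Cfsg.iterCommutator U ⊤ j, (⊤ : Subgroup G)⁆).map q = _
      conv_rhs => rw [← e, Subgroup.map_sup, QuotientGroup.map_mk'_self, sup_bot_eq]
      rw [map_commutator, map_commutator, ih]
  have h2 : U.map q = ⊥ := by
    rw [← hq k, Subgroup.map_eq_bot_iff, QuotientGroup.ker_mk']; exact hk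
  rw [Subgroup.map_eq_bot_iff, QuotientGroup.ker_mk'] at h2
  exact not_le_of_gt hlt h2

/-- a trivial section is skipped by a noncentral chief factor -/
theorem factor_skip {U W M N : Subgroup G} [U.Normal] [W.Normal] [M.Normal] (hch : Cfsg.IsChiefFactor U W)
    (hUS : U ≤ d.S) (hnc : ¬ ⁅U, (⊤ : Subgroup G)⁆ ≤ W) (h : Triv p N M) (hN : U ⊓ N ≤ W) : U ⊓ M ≤ W := by
  by_contra hne
  obtain ⟨hlt, -, -, hmin⟩ := hch
  rcases hmin ((U ⊓ M) ⊔ W) inferInstance le_sup_right (sup_le inf_le_left hlt.le) with e | e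
  · exact hne (le_sup_left.trans e.le)
  refine hnc (d.central_of_triv ⟨hlt, inferInstance, inferInstance, hmin⟩ hUS fun g hg x hx => ?_)
  rw [← e, ← SetLike.mem_coe, coe_mul_of_left_le_normalizer_right _ _
    (fun y _ => (normalizer_eq_top (H := W)).ge (mem_top y))] at hx
  obtain ⟨a, ha, w, hw, rfl⟩ := hx
  rw [show ⁅a * w, g⁆ = (a * ⁅w, g⁆ * a⁻¹) * ⁅a, g⁆ by simp only [commutatorElement_def]; group]
  refine mul_mem (Normal.conj_mem inferInstance _ ?_ a) (hN ⟨?_, h g hg a ha.2⟩)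
  · rw [commutatorElement_def, mul_assoc, mul_assoc]
    exact mul_mem hw (by simpa [mul_assoc] using Normal.conj_mem (inferInstance : W.Normal) _ (inv_mem hw) g)
  · rw [commutatorElement_def, mul_assoc, mul_assoc]
    exact mul_mem ha.1 (by simpa [mul_assoc] using Normal.conj_mem (inferInstance : U.Normal) _ (inv_mem ha.1) g)

end Sit

section Natural

variable {F : Type v} [Field F] {ρ : G →* Matrix.SpecialLinearGroup (Fin 2) F}

/-- `SL₂` is transitive on nonzero vectors -/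
theorem exists_mulVec {w : Fin 2 → F} (hw : w ≠ 0) :
    ∃ M : Matrix.SpecialLinearGroup (Fin 2) F, (M : Matrix (Fin 2) (Fin 2) F) *ᵥ ![1, 0] = w := by
  rcases eq_or_ne (w 0) 0 with h | h
  · have h1 : w 1 ≠ 0 := fun h1 => hw (by funext i; fin_cases i <;> assumption)
    refine ⟨⟨!![0, -(w 1)⁻¹; w 1, 0], by simp [det_fin_two, h1]⟩, ?_⟩
    funext i; fin_cases i <;> simp [Matrix.mulVec, dotProduct, Fin.sum_univ_two, h]
  · refine ⟨⟨!![w 0, 0; w 1, (w 0)⁻¹], by simp [det_fin_two, h]⟩, ?_⟩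
    funext i; fin_cases i <;> simp [Matrix.mulVec, dotProduct, Fin.sum_univ_two]

theorem inv_addSubgroup (hρ : Function.Surjective ρ) {K : AddSubgroup (Fin 2 → F)}
    (hK : ∀ g w, w ∈ K → (ρ g : Matrix (Fin 2) (Fin 2) F) *ᵥ w ∈ K) {w₀ : Fin 2 → F} (hw : w₀ ∈ K)
    (hne : w₀ ≠ 0) (w : Fin 2 → F) : w ∈ K := by
  rcases eq_or_ne w 0 with rfl | h
  · exact zero_mem K
  obtain ⟨M₀, hM₀⟩ := exists_mulVec hne
  obtain ⟨M, hM⟩ := exists_mulVec h
  obtain ⟨g, hg⟩ := hρ (M * M₀⁻¹)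
  have h2 := hK g w₀ hw
  rwa [hg, ← hM₀, Matrix.mulVec_mulVec, ← cmul, inv_mul_cancel_right, hM] at h2

theorem Nat'.transfer {M N U W : Subgroup G} [U.Normal] [M.Normal] [W.Normal] (hn : Nat' ρ M N) (hρ : Function.Surjective ρ) (hWU : W < U)
    (hU : U ≤ (U ⊓ M) ⊔ W) (hUN : U ⊓ N ≤ W) (hWM : W ⊓ M ≤ N) : Nat' ρ U W := by
  classical
  obtain ⟨l, hadd, hsurj, hker, hequi⟩ := hn
  have hl1 : l 1 = 0 := by
    have h := hadd 1 (one_mem _) 1 (one_mem _)
    rw [mul_one, left_eq_add] at h; exact h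
  have hdec : ∀ u : G, ∃ k, u ∈ U → k ∈ U ⊓ M ∧ k⁻¹ * u ∈ W := by
    intro u
    by_cases hu : u ∈ U
    · have h := hU hu
      rw [← SetLike.mem_coe, coe_mul_of_left_le_normalizer_right _ _
        (fun y _ => (normalizer_eq_top (H := W)).ge (mem_top y))] at h
      obtain ⟨k, hk, w, hw, rfl⟩ := h
      exact ⟨k, fun _ => ⟨hk, by simpa using hw⟩⟩
    · exact ⟨1, fun h => absurd h hu⟩
  choose κ hκ using hdec
  have key : ∀ u ∈ U, ∀ k ∈ U ⊓ M, k⁻¹ * u ∈ W → l (κ u) = l k := by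
    intro u hu k hk hkW
    obtain ⟨hκ1, hκ2⟩ := hκ u hu
    have h1 : (κ u)⁻¹ * k ∈ W ⊓ M := ⟨by
      have := mul_mem hκ2 (inv_mem hkW)
      simpa [mul_assoc] using this, M.mul_mem (M.inv_mem hκ1.2) hk.2⟩
    have h2 := hadd _ hκ1.2 _ h1.2
    rwa [mul_inv_cancel_left, (hker _ h1.2).2 (hWM h1), add_zero, eq_comm] at h2
  refine ⟨fun u => l (κ u), fun a ha b hb => ?_, fun w => ?_, fun a ha => ?_, fun g a ha => ?_⟩
  · obtain ⟨a1, a2⟩ := hκ a ha
    obtain ⟨b1, b2⟩ := hκ b hb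
    show l (κ (a * b)) = _
    rw [key (a * b) (mul_mem ha hb) (κ a * κ b) (mul_mem a1 b1) (by
      rw [show (κ a * κ b)⁻¹ * (a * b) = (κ b)⁻¹ * ((κ a)⁻¹ * a) * (κ b)⁻¹⁻¹ * ((κ b)⁻¹ * b) by group]
      exact mul_mem (Normal.conj_mem inferInstance _ a2 _) b2)]
    exact hadd _ a1.2 _ b1.2
  · let K : AddSubgroup (Fin 2 → F) :=
      { carrier := l '' ((U ⊓ M : Subgroup G) : Set G)
        zero_mem' := ⟨1, one_mem _, hl1⟩
        add_mem' := by
          rintro _ _ ⟨a, ha, rfl⟩ ⟨b, hb, rfl⟩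
          exact ⟨a * b, mul_mem ha hb, hadd a ha.2 b hb.2⟩
        neg_mem' := by
          rintro _ ⟨a, ha, rfl⟩
          refine ⟨a⁻¹, inv_mem ha, ?_⟩
          have h := hadd a ha.2 a⁻¹ (inv_mem ha.2)
          rw [mul_inv_cancel, hl1] at h
          exact eq_neg_of_add_eq_zero_right h.symm }
    obtain ⟨k₀, hk₀, hne⟩ : ∃ k ∈ U ⊓ M, l k ≠ 0 := by
      by_contra h
      push Not at h
      refine not_le_of_gt hWU (hU.trans (sup_le (fun k hk => hUN ⟨hk.1, (hker k hk.2).1 (h k hk)⟩) le_rfl))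
    have hK : w ∈ K := inv_addSubgroup (K := K) hρ (by
      rintro g _ ⟨a, ha, rfl⟩
      exact ⟨g * a * g⁻¹, Normal.conj_mem inferInstance a ha g, hequi g a ha.2⟩) ⟨k₀, hk₀, rfl⟩ hne w
    obtain ⟨k, hk, e⟩ := hK
    exact ⟨k, hk.1, (key k hk.1 k hk (by rw [inv_mul_cancel]; exact one_mem _)).trans e⟩
  · obtain ⟨h1, h2⟩ := hκ a ha
    constructor
    · intro h
      have hκW : κ a ∈ W := hUN ⟨h1.1, (hker _ h1.2).1 h⟩
      have := mul_mem hκW h2
      rwa [mul_inv_cancel_left] at this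
    · intro h
      show l (κ a) = 0
      rw [key a ha 1 (one_mem _) (by rw [inv_one, one_mul]; exact h)]
      exact hl1
  · obtain ⟨h1, h2⟩ := hκ a ha
    show l (κ (g * a * g⁻¹)) = _
    rw [key _ (Normal.conj_mem inferInstance a ha g) (g * κ a * g⁻¹) (Normal.conj_mem inferInstance _ h1 g) (by
      rw [show (g * κ a * g⁻¹)⁻¹ * (g * a * g⁻¹) = g * ((κ a)⁻¹ * a) * g⁻¹ by group]
      exact Normal.conj_mem inferInstance _ h2 g)]
    exact hequi g _ h1.2

theorem Nat'.chief {M N : Subgroup G} [hM : M.Normal] [hN : N.Normal] (hn : Nat' ρ M N) (hρ : Function.Surjective ρ)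
    (hNM : N ≤ M) : Cfsg.IsChiefFactor M N ∧ ¬ ⁅M, (⊤ : Subgroup G)⁆ ≤ N := by
  obtain ⟨l, hadd, hsurj, hker, hequi⟩ := hn
  obtain ⟨e₁, he₁, hl₁⟩ := hsurj ![1, 0]
  have h10 : (![1, 0] : Fin 2 → F) ≠ 0 := fun h => by have := congrFun h 0; simp at this
  have hl1 : l 1 = 0 := by
    have h := hadd 1 (one_mem _) 1 (one_mem _)
    rw [mul_one, left_eq_add] at h; exact h
  have hne : e₁ ∉ N := fun h => h10 (by rw [← hl₁]; exact (hker _ he₁).2 h)
  refine ⟨⟨lt_of_le_of_ne hNM (fun h => hne (h ▸ he₁)), hM, hN, fun K hK hNK hKM => ?_⟩, fun h => ?_⟩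
  · refine or_iff_not_imp_left.2 fun hKN => le_antisymm hKM fun m hm => ?_
    obtain ⟨k, hk, hkN⟩ := SetLike.not_le_iff_exists.1 fun h => hKN (le_antisymm h hNK)
    let A : AddSubgroup (Fin 2 → F) :=
      { carrier := l '' (K : Set G)
        zero_mem' := ⟨1, one_mem _, hl1⟩
        add_mem' := by
          rintro _ _ ⟨a, ha, rfl⟩ ⟨b, hb, rfl⟩
          exact ⟨a * b, mul_mem ha hb, hadd a (hKM ha) b (hKM hb)⟩
        neg_mem' := by
          rintro _ ⟨a, ha, rfl⟩
          refine ⟨a⁻¹, inv_mem ha, ?_⟩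
          have h := hadd a (hKM ha) a⁻¹ (inv_mem (hKM ha))
          rw [mul_inv_cancel, hl1] at h
          exact eq_neg_of_add_eq_zero_right h.symm }
    have hA : l m ∈ A := inv_addSubgroup (K := A) hρ (by
      rintro g _ ⟨a, ha, rfl⟩
      exact ⟨g * a * g⁻¹, hK.conj_mem a ha g, hequi g a (hKM ha)⟩) ⟨k, hk, rfl⟩
      (fun h => hkN ((hker k (hKM hk)).1 h)) (l m)
    obtain ⟨k', hk', e⟩ := hA
    have h1 : k'⁻¹ * m ∈ N := by
      refine (hker _ (mul_mem (inv_mem (hKM hk')) hm)).1 ?_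
      have h := hadd k' (hKM hk') (k'⁻¹ * m) (mul_mem (inv_mem (hKM hk')) hm)
      rw [mul_inv_cancel_left, e, left_eq_add] at h
      exact h
    have := mul_mem hk' (hNK h1)
    rwa [mul_inv_cancel_left] at this
  · obtain ⟨g, hg⟩ := hρ ⟨!![1, 0; 1, 1], by simp [det_fin_two]⟩
    have h1 : ⁅e₁, g⁆ ∈ N := h (commutator_mem_commutator he₁ (mem_top g))
    have hge : g * e₁ * g⁻¹ ∈ M := hM.conj_mem _ he₁ g
    have h2 : (g * e₁ * g⁻¹)⁻¹ * e₁ ∈ N := by
      have := hN.conj_mem _ h1 e₁⁻¹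
      simpa [commutatorElement_def, mul_assoc] using this
    have h3 := hadd _ hge _ (mul_mem (inv_mem hge) he₁)
    rw [mul_inv_cancel_left, (hker _ (mul_mem (inv_mem hge) he₁)).2 h2, add_zero, hequi g e₁ he₁, hg, hl₁] at h3
    have := congrFun h3 1
    simp [Matrix.mulVec, dotProduct, Fin.sum_univ_two] at this

theorem Nat'.natural {U W : Subgroup G} [U.Normal] [hW : W.Normal] (hn : Nat' ρ U W) (hρ : Function.Surjective ρ) :
    Cfsg.IsNaturalSL2Module F (U.map (QuotientGroup.mk' W)) (⊤ : Subgroup (G ⧸ W)) := by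
  classical
  obtain ⟨l, hadd, hsurj, hker, hequi⟩ := hn
  set q := QuotientGroup.mk' W
  haveI : (U.map q).Normal := (inferInstance : U.Normal).map _ (QuotientGroup.mk'_surjective _)
  refine ⟨(normalizer_eq_top (H := U.map q)).ge, ?_⟩
  have hl1 : l 1 = 0 := by
    have h := hadd 1 (one_mem _) 1 (one_mem _)
    rw [mul_one, left_eq_add] at h; exact h
  have hWker : W ≤ ρ.ker := by
    intro w hw
    rw [MonoidHom.mem_ker]
    refine sl_ext (Matrix.ext fun i j => ?_)
    obtain ⟨a, ha, e⟩ := hsurj (Pi.single j 1)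
    have hga : w * a * w⁻¹ ∈ U := Normal.conj_mem inferInstance a ha w
    have h1 : l (w * a * w⁻¹) = l a := by
      have h2 : a⁻¹ * (w * a * w⁻¹) ∈ W := by
        have := mul_mem (Normal.conj_mem hW w hw a⁻¹) (inv_mem hw)
        simpa [mul_assoc] using this
      have h := hadd a ha _ (mul_mem (inv_mem ha) hga)
      rwa [mul_inv_cancel_left, (hker _ (mul_mem (inv_mem ha) hga)).2 h2, add_zero] at h
    have h := congrFun ((hequi w a ha).symm.trans h1) i
    rw [e] at h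
    simpa [cone, Matrix.one_apply, Pi.single_apply] using h
  let ρq : G ⧸ W →* Matrix.SpecialLinearGroup (Fin 2) F := QuotientGroup.lift W ρ hWker
  have hrep : ∀ v : ↥(U.map q), ∃ a ∈ U, q a = (v : G ⧸ W) := fun v => v.2
  choose a haU haq using hrep
  have key : ∀ (v : ↥(U.map q)) (b : G), b ∈ U → q b = (v : G ⧸ W) → l (a v) = l b := by
    intro v b hb e
    have h2 : b⁻¹ * a v ∈ W := QuotientGroup.eq.1 (e.trans (haq v).symm)
    have h := hadd b hb _ (mul_mem (inv_mem hb) (haU v))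
    rwa [mul_inv_cancel_left, (hker _ (mul_mem (inv_mem hb) (haU v))).2 h2, add_zero] at h
  let Φ : Additive ↥(U.map q) →+ (Fin 2 → F) :=
    AddMonoidHom.mk' (fun v => l (a v.toMul)) fun v w => by
      rw [← hadd _ (haU _) _ (haU _)]
      exact key _ _ (mul_mem (haU _) (haU _)) (by rw [map_mul, haq, haq]; rfl)
  have hΦ : Function.Bijective Φ := by
    refine ⟨(injective_iff_map_eq_zero Φ).2 fun v hv => ?_, fun w => ?_⟩
    · have : q (a v.toMul) = 1 := (QuotientGroup.eq_one_iff _).2 ((hker _ (haU _)).1 hv)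
      rw [haq] at this
      exact Subtype.ext this
    · obtain ⟨b, hb, e⟩ := hsurj w
      exact ⟨Additive.ofMul ⟨q b, mem_map_of_mem q hb⟩, (key _ b hb rfl).trans e⟩
  refine ⟨ρq.comp (⊤ : Subgroup (G ⧸ W)).subtype, AddEquiv.ofBijective Φ hΦ, fun M => ?_, ?_, fun g v => ?_⟩
  · obtain ⟨g, rfl⟩ := hρ M
    exact ⟨⟨q g, mem_top _⟩, rfl⟩
  · ext ⟨x, -⟩
    obtain ⟨g, rfl⟩ := QuotientGroup.mk'_surjective W x
    rw [MonoidHom.mem_ker, mem_subgroupOf]
    show ρ g = 1 ↔ q g ∈ centralizer ((U.map q : Subgroup (G ⧸ W)) : Set (G ⧸ W))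
    constructor
    · intro hg
      rw [mem_centralizer_iff]
      rintro _ ⟨b, hb, rfl⟩
      have hgb : g * b * g⁻¹ ∈ U := Normal.conj_mem inferInstance b hb g
      have h0 := hequi g b hb
      rw [hg, cone, Matrix.one_mulVec] at h0
      have h2 := hadd b hb _ (mul_mem (inv_mem hb) hgb)
      rw [mul_inv_cancel_left, h0, left_eq_add] at h2
      have h3 : q b = q (g * b * g⁻¹) := QuotientGroup.eq.2 ((hker _ (mul_mem (inv_mem hb) hgb)).1 h2)
      rw [map_mul, map_mul, map_inv] at h3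
      conv_lhs => rw [h3]
      group
    · intro hg
      refine sl_ext (Matrix.ext fun i j => ?_)
      obtain ⟨b, hb, e⟩ := hsurj (Pi.single j 1)
      have h3 : q (g * b * g⁻¹) = q b := by
        rw [map_mul, map_mul, map_inv, ← mem_centralizer_iff.1 hg _ (mem_map_of_mem q hb), mul_inv_cancel_right]
      have h1 : l (g * b * g⁻¹) = l b :=
        ((key ⟨q b, mem_map_of_mem q hb⟩ _ (Normal.conj_mem inferInstance b hb g) h3).symm).trans
          (key ⟨q b, mem_map_of_mem q hb⟩ b hb rfl)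
      have h := congrFun ((hequi g b hb).symm.trans h1) i
      rw [e] at h
      simpa [cone, Matrix.one_apply, Pi.single_apply] using h
  · obtain ⟨g₀, hg₀⟩ := QuotientGroup.mk'_surjective W (g : G ⧸ W)
    have hb : g₀ * a v * g₀⁻¹ ∈ U := Normal.conj_mem inferInstance _ (haU v) g₀
    refine ⟨⟨q (g₀ * a v * g₀⁻¹), mem_map_of_mem q hb⟩, by show q (g₀ * a v * g₀⁻¹) = _; rw [map_mul, map_mul, map_inv, haq, hg₀], ?_⟩
    show l (a _) = _
    rw [key _ _ hb rfl, hequi g₀ _ (haU v)]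
    show _ = ((ρq (g : G ⧸ W) : Matrix.SpecialLinearGroup (Fin 2) F) : Matrix (Fin 2) (Fin 2) F) *ᵥ l (a v)
    rw [← hg₀]
    rfl

end Natural

end Cfsg.Lib.BGN.P
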