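import Cfsg.Agent.Components.BGNP.Two

/-!
Pushing up for a rank-one quotient: the two cases combined.
-/

set_option autoImplicit false
set_option linter.unusedSectionVars false

namespace Cfsg.Lib.BGN.P

open Subgroup Matrix Cfsg.Lib.BGN
open scoped commutatorElement

universe u v

variable {p : ℕ} [hp : Fact p.Prime] {G : Type u} [Group G] [Finite G]

theorem exists_sit {F : Type v} [Field F] [Fintype F] (S : Sylow p G)
    (hE₁ : centralizer (Cfsg.pCore p G : Set G) ≤ Cfsg.pCore p G)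
    (hE₂ : ∃! M : Subgroup G, IsCoatom M ∧ (S : Subgroup G) ≤ M) (K : Subgroup G) [K.Normal] (n : ℕ)
    (hn : 1 ≤ n) (hF : Fintype.card F = p ^ n)
    (hE₃ : Nonempty (G ⧸ K ≃* Matrix.ProjectiveSpecialLinearGroup (Fin 2) F))
    (hd : ∀ T : Subgroup ↥(S : Subgroup G), T ≠ ⊥ → T.Characteristic → ¬ (T.map (S : Subgroup G).subtype).Normal) :
    ∃ d : Sit p G F, d.c.S = S ∧ NoChar d.c := by
  obtain ⟨c, rfl⟩ := Cfsg.Lib.PushUp.exists_ctx S hE₁ hE₂ K n hn hF hE₃
  have hT : NoChar c := fun C hC hne => hd C hne hC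
  refine ⟨⟨c, fun hn => hT ⊤ inferInstance (fun h => ?_) ?_, NoChar.exists_case c hT⟩, rfl, hT⟩
  · exact NoChar.S_ne_bot' c (eq_bot_iff.2 fun s hs => by
      have := h.le (mem_top (⟨s, hs⟩ : ↥(c.S : Subgroup G)))
      rw [mem_bot] at this ⊢
      exact congrArg Subtype.val this)
  · rw [← MonoidHom.range_eq_map, range_subtype]; exact hn

namespace Sit

variable {F : Type v} [Field F] [Fintype F] (d : Sit p G F)

include d

/-- the quotient and the factors -/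
theorem quotient_factors (hd : NoChar d.c) : ∃ ρ : G →* Matrix.SpecialLinearGroup (Fin 2) F, Function.Surjective ρ ∧
    ρ.ker = Cfsg.pCore p G ∧ ∀ (U W : Subgroup G) [U.Normal] [W.Normal], U ≤ Cfsg.pCore p G →
      Cfsg.IsChiefFactor U W → ¬ ⁅U, (⊤ : Subgroup G)⁆ ≤ W → Nat' ρ U W := by
  rcases d.exists_split hd with ⟨A, hA⟩ | ⟨a, y, n, ha, t⟩
  · obtain ⟨fr, ρ, hρ, hn, hfol⟩ := d.exists_rho
    exact ⟨ρ, hρ, d.out_ker hA hn, fun U W _ _ hU hch hnc => d.out_factors hA hρ hn hU hch hnc⟩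
  · obtain ⟨e, hs⟩ := d.exists_dist2 ha t
    obtain ⟨fr, ρ, hρ, hnW, hnM, hfol⟩ := d.exists_rho₂ e
    exact ⟨ρ, hρ, d.ker_two e hρ hnW hnM hfol hs, fun U W _ _ hU hch hnc =>
      d.two_factors e hρ hnW hnM hfol hs hU hch hnc⟩

end Sit

end Cfsg.Lib.BGN.P
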