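import Cfsg.Agent.Components.BGNP.Path
import Cfsg.Agent.Components.BGNP.PSL
import Cfsg.Agent.Components.BGN.Main
import Cfsg.Agent.Coprime.SolvableBasics

/-!
Pushing up for a rank-one quotient at any prime: the situation and its embedding in the symmetric group.
-/

set_option autoImplicit false
set_option linter.unusedSectionVars false
set_option linter.style.haveILetI false

namespace Cfsg.Lib.BGN.P

open Subgroup Cfsg.Lib.BGN
open scoped commutatorElement

universe u v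

variable {p : ℕ} [hp : Fact p.Prime] {G : Type u} [Group G] [Finite G]

/-- a coprime element commuting modulo an elementary central subgroup commutes -/
theorem commute_of_central {g w : G} (hg : (orderOf g).Coprime p) (hcp : ⁅g, w⁆ ^ p = 1) (hc : ⁅g, w⁆ ∈ center G) :
    g * w = w * g := by
  have hit : ∀ m : ℕ, g ^ m * w * (g ^ m)⁻¹ = ⁅g, w⁆ ^ m * w := by
    intro m
    induction m with
    | zero => simp
    | succ m ihm =>
      calc g ^ (m + 1) * w * (g ^ (m + 1))⁻¹ = g * (g ^ m * w * (g ^ m)⁻¹) * g⁻¹ := by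
            rw [pow_succ']; group
        _ = (g * ⁅g, w⁆ ^ m) * w * g⁻¹ := by rw [ihm]; group
        _ = ⁅g, w⁆ ^ m * (g * w * g⁻¹ * w⁻¹) * w := by
            rw [mem_center_iff.1 (pow_mem hc m) g]; group
        _ = ⁅g, w⁆ ^ (m + 1) * w := by rw [pow_succ, commutatorElement_def]
  have h1 := hit (orderOf g)
  rw [pow_orderOf_eq_one, one_mul, inv_one, mul_one, right_eq_mul] at h1
  exact commutatorElement_eq_one_iff_mul_comm.1 (orderOf_eq_one_iff.1 (Nat.eq_one_of_dvd_coprimes hg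
    (orderOf_dvd_of_pow_eq_one h1) (orderOf_dvd_of_pow_eq_one hcp)))

/-- no characteristic subgroup of the Sylow subgroup is normal -/
def NoChar {F : Type v} [Field F] [Fintype F] (c : Cfsg.Lib.PushUp.Ctx p G F) : Prop :=
  ∀ C : Subgroup ↥(c.S : Subgroup G), C.Characteristic → C ≠ ⊥ →
    ¬ ((C.map (c.S : Subgroup G).subtype).Normal)

namespace NoChar

variable {F : Type v} [Field F] [Fintype F] (c : Cfsg.Lib.PushUp.Ctx p G F)

theorem S_ne_bot' : (c.S : Subgroup G) ≠ ⊥ := by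
  intro h
  have hQ : Cfsg.pCore p G = ⊥ := le_bot_iff.1 (h ▸ c.core_le)
  have hc := c.hc
  rw [hQ] at hc
  refine c.hMne (top_le_iff.1 (le_trans (fun g _ => hc (mem_centralizer_iff.2 fun z hz => ?_)) bot_le))
  rw [show z = 1 from mem_bot.1 hz, one_mul, mul_one]

/-- invariance under the normalizer in the symmetric group -/
theorem faith (hT : NoChar c) (K : Subgroup (Equiv.Perm G)) (hK : K ≤ (c.S : Subgroup G).map ι)
    (h1 : (⊤ : Subgroup G).map ι ≤ normalizer (K : Set (Equiv.Perm G)))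
    (h2 : normalizer ((c.S : Subgroup G).map ι : Set (Equiv.Perm G)) ≤ normalizer (K : Set (Equiv.Perm G))) : K = ⊥ := by
  set K₀ := K.comap ι with hK₀
  have hle : K₀ ≤ (c.S : Subgroup G) := fun x hx => by
    obtain ⟨s, hs, he⟩ := hK hx
    rwa [← ι_inj he]
  haveI hn : K₀.Normal := ⟨fun x hx g => by
    have := (mem_normalizer_iff.1 (h1 (mem_map_of_mem ι (mem_top g))) (ι x)).1 hx
    rw [← map_inv, ← map_mul, ← map_mul] at this
    exact this⟩
  set C := K₀.subgroupOf (c.S : Subgroup G) with hC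
  have hchar : C.Characteristic := by
    rw [characteristic_iff_map_le]
    intro α
    rintro _ ⟨s, hs, rfl⟩
    obtain ⟨σ, hσ, he⟩ := exists_perm (c.S : Subgroup G) α
    have := (mem_normalizer_iff.1 (h2 hσ) _).1 (show ι (s : G) ∈ K from hs)
    rw [he] at this
    exact this
  have hmap : C.map (c.S : Subgroup G).subtype = K₀ := by rw [hC, subgroupOf_map_subtype, inf_eq_left.2 hle]
  have hCb : C = ⊥ := by_contra fun h => hT C hchar h (by rw [hmap]; exact hn)
  rw [hCb, Subgroup.map_bot] at hmap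
  rw [eq_bot_iff]
  intro k hk
  obtain ⟨s, hs, rfl⟩ := hK hk
  have : s ∈ (⊥ : Subgroup G) := hmap.ge hk
  rw [mem_bot] at this
  rw [this, map_one]
  exact one_mem _

theorem normalizer_map_comm {σ : Equiv.Perm G} (hσ : σ ∈ normalizer ((c.S : Subgroup G).map ι : Set (Equiv.Perm G)))
    {w : Equiv.Perm G} (hw : w ∈ centralizer ((c.S : Subgroup G).map ι : Set (Equiv.Perm G))) :
    σ * w * σ⁻¹ ∈ centralizer ((c.S : Subgroup G).map ι : Set (Equiv.Perm G)) := by
  refine mem_centralizer_iff.2 fun s hs => ?_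
  have h1 : σ⁻¹ * s * σ ∈ (c.S : Subgroup G).map ι := by
    simpa using (mem_normalizer_iff.1 (inv_mem hσ) s).1 hs
  have e := mem_centralizer_iff.1 hw _ h1
  calc s * (σ * w * σ⁻¹) = σ * ((σ⁻¹ * s * σ) * w) * σ⁻¹ := by group
    _ = σ * (w * (σ⁻¹ * s * σ)) * σ⁻¹ := by rw [e]
    _ = σ * w * σ⁻¹ * s := by group

theorem Zs_ne_bot : c.Zs ≠ ⊥ := by
  intro h
  haveI : Nontrivial ↥(c.S : Subgroup G) := (nontrivial_iff_ne_bot _).2 (S_ne_bot' c)
  obtain ⟨z, hz⟩ := @exists_ne _ (IsPGroup.center_nontrivial c.S.2) 1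
  refine hz (Subtype.ext (Subtype.ext ?_))
  have : ((z : ↥(c.S : Subgroup G)) : G) ∈ c.Zs := ⟨z.1.2, mem_centralizer_iff.2 fun s hs =>
    congrArg Subtype.val (mem_center_iff.1 z.2 ⟨s, hs⟩)⟩
  rw [h, mem_bot] at this
  exact this

theorem exists_case (hT : NoChar c) : ∃ A, c.Case A := by
  rcases c.cases with h | h | h
  · exfalso
    refine Zs_ne_bot c ?_
    have hb := faith c hT (c.Zs.map ι) (map_mono inf_le_left) ?_ ?_
    · exact (map_eq_bot_iff_of_injective _ ι_inj).1 hb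
    · refine le_normalizer_of_forall fun g hg => ?_
      obtain ⟨g, -, rfl⟩ := hg
      rintro _ ⟨_, ⟨z, hz, rfl⟩, rfl⟩
      refine ⟨z, hz, ?_⟩
      change ι z = ι g * ι z * (ι g)⁻¹
      rw [← map_mul, mem_center_iff.1 (h hz) g, map_mul, mul_inv_cancel_right]
    · refine le_normalizer_of_forall fun σ hσ => ?_
      rintro _ ⟨_, ⟨z, hz, rfl⟩, rfl⟩
      obtain ⟨w, hw, he⟩ := (mem_normalizer_iff.1 hσ _).1 (mem_map_of_mem ι hz.1)
      refine ⟨w, ⟨hw, mem_centralizer_iff.2 fun s hs => ι_inj ?_⟩, he⟩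
      rw [map_mul, map_mul, he]
      refine mem_centralizer_iff.1 (normalizer_map_comm c hσ (mem_centralizer_iff.2 ?_)) _ (mem_map_of_mem ι hs)
      rintro _ ⟨t, ht, rfl⟩
      rw [← map_mul, ← map_mul, mem_centralizer_iff.1 hz.2 t ht]
  · exfalso
    haveI := h
    set C := (c.S : Subgroup G) ⊓ centralizer (c.Zj : Set G) with hC
    have hZC : c.Zs ≤ C := fun z hz => ⟨hz.1, mem_centralizer_iff.2 fun j hj =>
      mem_centralizer_iff.1 hz.2 j (Cfsg.Lib.Fusion.thompsonAOf_le _ hj.1)⟩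
    have hb := faith c hT (C.map ι) (map_mono inf_le_left) ?_ ?_
    · exact Zs_ne_bot c (le_bot_iff.1 (hZC.trans ((map_eq_bot_iff_of_injective _ ι_inj).1 hb).le))
    · exact (map_mono (normalizer_eq_top (H := C)).ge).trans (le_normalizer_map _)
    · refine le_normalizer_of_forall fun σ hσ => ?_
      have hinj : Set.InjOn (MulAut.conj σ).toMonoidHom ((c.S : Subgroup G).map ι : Subgroup (Equiv.Perm G)) :=
        (MulAut.conj σ).injective.injOn
      have hj1 := Cfsg.Lib.ZJ.centerThompsonAOf_map_injOn (f := (ι : G →* Equiv.Perm G)) (D := (c.S : Subgroup G)) ι_inj.injOn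
      have hj2 := Cfsg.Lib.ZJ.centerThompsonAOf_map_injOn hinj
      have hSσ : ((c.S : Subgroup G).map ι).map (MulAut.conj σ).toMonoidHom = (c.S : Subgroup G).map ι := cj_eq_of_mem hσ
      rw [hSσ, ← hj1] at hj2
      rintro _ ⟨_, ⟨z, hz, rfl⟩, rfl⟩
      obtain ⟨w, hw, he⟩ := (mem_normalizer_iff.1 hσ _).1 (mem_map_of_mem ι hz.1)
      refine ⟨w, ⟨hw, mem_centralizer_iff.2 fun j hj => ι_inj ?_⟩, he⟩
      rw [map_mul, map_mul, he]
      obtain ⟨_, ⟨j', hj', rfl⟩, hjeq⟩ := hj2.ge (mem_map_of_mem ι hj)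
      rw [← hjeq]
      change σ * ι j' * σ⁻¹ * (σ * ι z * σ⁻¹) = σ * ι z * σ⁻¹ * (σ * ι j' * σ⁻¹)
      calc σ * ι j' * σ⁻¹ * (σ * ι z * σ⁻¹) = σ * ι (j' * z) * σ⁻¹ := by rw [map_mul]; group
        _ = σ * ι (z * j') * σ⁻¹ := by rw [mem_centralizer_iff.1 hz.2 j' hj']
        _ = _ := by rw [map_mul]; group
  · exact h

end NoChar

/-- the Sylow subgroup is not normal and some largest abelian subgroup of it lies outside the core -/
structure Sit (p : ℕ) (G : Type u) [Group G] (F : Type v) [Field F] [Fintype F] where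
  c : Cfsg.Lib.PushUp.Ctx p G F
  not_normal : ¬ (c.S : Subgroup G).Normal
  exists_case : ∃ A, c.Case A

namespace Sit

variable {F : Type v} [Field F] [Fintype F] (d : Sit p G F)

include d

/-- shorthand -/
abbrev S : Subgroup G := (d.c.S : Subgroup G)

/-- a conjugate of `S` generating with it -/
def Far (x : G) : Prop := d.S ⊔ cj x d.S = ⊤

/-- the image of a conjugate -/
abbrev im (x : G) : Subgroup (Matrix.ProjectiveSpecialLinearGroup (Fin 2) F) := (cj x d.S).map d.c.ψ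

theorem fin : Finite (Matrix.ProjectiveSpecialLinearGroup (Fin 2) F) := Finite.of_surjective d.c.ψ d.c.hψ

theorem exists_im (x : G) : ∃ R : Sylow p (Matrix.ProjectiveSpecialLinearGroup (Fin 2) F), d.im x = (R : Subgroup _) := by
  haveI := d.fin
  exact ⟨(MulAut.conj x • d.c.S).mapSurjective d.c.hψ, by rw [Sylow.coe_mapSurjective]; rfl⟩

theorem im_conj (g x : G) : d.im (g * x) = cj (d.c.ψ g) (d.im x) := by
  rw [im, cj_mul]
  ext z
  constructor
  · rintro ⟨_, ⟨w, hw, rfl⟩, rfl⟩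
    exact ⟨d.c.ψ w, mem_map_of_mem _ hw, by
      show d.c.ψ g * d.c.ψ w * (d.c.ψ g)⁻¹ = d.c.ψ (g * w * g⁻¹)
      rw [map_mul, map_mul, map_inv]⟩
  · rintro ⟨_, ⟨w, hw, rfl⟩, rfl⟩
    exact ⟨g * w * g⁻¹, conj_mem_cj hw, by
      show d.c.ψ (g * w * g⁻¹) = d.c.ψ g * d.c.ψ w * (d.c.ψ g)⁻¹
      rw [map_mul, map_mul, map_inv]⟩

theorem im_sup {x z : G} (h : d.im x ≠ d.im z) : d.im x ⊔ d.im z = ⊤ := by
  haveI := d.fin
  obtain ⟨R, hR⟩ := d.exists_im x
  obtain ⟨R', hR'⟩ := d.exists_im z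
  rw [hR, hR'] at h ⊢
  exact psl_sylow_sup d.c.hn d.c.hF R R' h

theorem im_comm {x : G} {a b : Matrix.ProjectiveSpecialLinearGroup (Fin 2) F} (ha : a ∈ d.im x)
    (hb : b ∈ d.im x) : a * b = b * a := by
  haveI := d.fin
  obtain ⟨R, hR⟩ := d.exists_im x
  exact psl_sylow_comm d.c.hn d.c.hF R (hR.le ha) (hR.le hb)

theorem im_inf {x z : G} (h : d.im x ≠ d.im z) : d.im x ⊓ d.im z = ⊥ := by
  rw [eq_bot_iff]
  intro a ha
  rw [← psl_center_eq_bot (F := F)]
  refine mem_center_iff.2 fun w => ?_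
  have hle : d.im x ⊔ d.im z ≤ centralizer ({a} : Set (Matrix.ProjectiveSpecialLinearGroup (Fin 2) F)) :=
    sup_le (fun b hb => mem_centralizer_singleton_iff.2 (d.im_comm hb ha.1))
      (fun b hb => mem_centralizer_singleton_iff.2 (d.im_comm hb ha.2))
  exact mem_centralizer_singleton_iff.1 (hle ((d.im_sup h).ge (mem_top w)))

theorem im_ne_top : d.im 1 ≠ ⊤ := by
  intro h
  refine d.c.hMne (top_le_iff.1 (le_trans ?_ d.c.ker_le))
  intro g _
  rw [MonoidHom.mem_ker, ← mem_bot, ← psl_center_eq_bot (F := F)]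
  exact mem_center_iff.2 fun w => d.im_comm (h.ge (mem_top w)) (h.ge (mem_top _))

theorem sup_ker_le : d.S ⊔ d.c.ψ.ker ≤ d.c.M := by
  refine d.c.le_M _ (fun h => d.im_ne_top ?_) le_sup_left
  rw [im, cj_one, ← map_top_of_surjective d.c.ψ d.c.hψ, ← h, Subgroup.map_sup,
    (Subgroup.map_eq_bot_iff _).2 le_rfl, sup_bot_eq]

theorem far_iff {x : G} : d.Far x ↔ d.im x ≠ d.im 1 := by
  constructor
  · intro h he
    have h1 := congrArg (Subgroup.map d.c.ψ) h
    rw [Subgroup.map_sup, map_top_of_surjective _ d.c.hψ] at h1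
    refine d.im_ne_top ?_
    rw [← h1, im, cj_one, sup_eq_left.2]
    have := he.le
    rwa [im, im, cj_one] at this
  · intro h
    by_contra hne
    have h1 := d.c.le_M _ hne le_sup_left
    refine d.c.hMne (top_le_iff.1 ?_)
    rw [← comap_top d.c.ψ, ← d.im_sup h, im, im, cj_one, ← Subgroup.map_sup, comap_map_eq, sup_comm (cj x d.S)]
    exact sup_le h1 d.c.ker_le

theorem far_iff' {a b : G} : d.Far (a⁻¹ * b) ↔ d.im a ≠ d.im b := by
  rw [far_iff, not_iff_not]
  constructor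
  · intro h
    have := congrArg (cj (d.c.ψ a)) h
    rwa [← d.im_conj, ← d.im_conj, mul_inv_cancel_left, mul_one, eq_comm] at this
  · intro h
    rw [d.im_conj, ← h, ← d.im_conj, inv_mul_cancel]

theorem card_im (x : G) : Nat.card (d.im x) = p ^ d.c.n := by
  haveI := d.fin
  obtain ⟨R, hR⟩ := d.exists_im x
  haveI : CharP F p := charP_of_card_eq_prime_pow d.c.hF
  obtain ⟨U, hU⟩ := Cfsg.Lib.Known.AutPSL2.exists_sylow_u p d.c.hn d.c.hF
  rw [hR, R.card_eq_multiplicity, ← U.card_eq_multiplicity, hU,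
    ← Nat.card_congr (MonoidHom.ofInjective (Cfsg.Lib.Known.AutPSL2.u_injective (F := F))).toEquiv,
    Nat.card_congr Multiplicative.toAdd, Nat.card_eq_fintype_card, d.c.hF]

theorem one_lt_q : 1 < p ^ d.c.n := lt_of_lt_of_le hp.out.one_lt d.c.p_le_q

theorem S_ne_bot : d.S ≠ ⊥ := by
  intro h
  have h1 := d.card_im 1
  rw [im, cj_one, h, Subgroup.map_bot, card_bot] at h1
  exact d.one_lt_q.ne h1

theorem exists_far : ∃ y : G, d.Far y := by
  by_contra h
  push Not at h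
  have hn : normalClosure (d.S : Set G) ≤ d.c.M := by
    haveI : ((d.im 1).comap d.c.ψ).Normal := ⟨fun z hz g => by
      have hg : d.im g = d.im 1 := by_contra fun hne => h g (d.far_iff.2 hne)
      rw [mem_comap, map_mul, map_mul, map_inv]
      rw [← hg, ← mul_one g, d.im_conj, mul_one]
      exact conj_mem_cj (mem_comap.1 hz)⟩
    refine le_trans (normalClosure_le_normal (N := (d.im 1).comap d.c.ψ) ?_) ?_
    · rw [im, cj_one]
      exact Subgroup.le_comap_map _ _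
    · rw [im, cj_one, comap_map_eq]
      exact d.sup_ker_le
  have hSQ : d.S = Cfsg.pCore p G :=
    le_antisymm (by_contra fun h' => d.c.closure_not_le le_rfl h' hn) d.c.core_le
  exact d.not_normal (show d.S.Normal by rw [hSQ]; exact d.c.core_normal)

theorem core_le_cj (x : G) : Cfsg.pCore p G ≤ cj x d.S := by
  haveI := d.c.core_normal
  exact (cj_eq_of_mem ((normalizer_eq_top (H := Cfsg.pCore p G)).ge (mem_top x))).ge.trans (cj_mono x d.c.core_le)

theorem core_le_ker : Cfsg.pCore p G ≤ d.c.ψ.ker := by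
  obtain ⟨y, hy⟩ := d.exists_far
  rw [← Subgroup.map_eq_bot_iff, eq_bot_iff, ← d.im_inf (d.far_iff.1 hy)]
  exact le_inf (map_mono (d.core_le_cj y)) (map_mono (d.core_le_cj 1))

theorem inf_ker (x : G) : cj x d.S ⊓ d.c.ψ.ker ≤ Cfsg.pCore p G := by
  intro z hz
  haveI := d.c.core_normal
  have h1 : x⁻¹ * z * x ∈ Cfsg.pCore p G := d.c.inf_ker_le ⟨mem_cj.1 hz.1, by
    simpa using (inferInstance : d.c.ψ.ker.Normal).conj_mem z hz.2 x⁻¹⟩
  simpa [mul_assoc] using Normal.conj_mem inferInstance _ h1 x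

theorem card_S : Nat.card d.S = p ^ d.c.n * Nat.card (Cfsg.pCore p G) := by
  have h := d.card_im 1
  rw [im, cj_one] at h
  rw [Cfsg.Lib.FF.card_eq_map_mul d.c.ψ d.S, h]
  congr 2
  rw [le_antisymm d.c.inf_ker_le (le_inf d.c.core_le d.core_le_ker)]

theorem comm_mem {a b : G} (ha : a ∈ d.S) (hb : b ∈ d.S) : ⁅a, b⁆ ∈ Cfsg.pCore p G := by
  refine d.c.inf_ker_le ⟨d.S.mul_mem (d.S.mul_mem (d.S.mul_mem ha hb) (d.S.inv_mem ha)) (d.S.inv_mem hb), ?_⟩
  have h : ∀ {z : G}, z ∈ d.S → d.c.ψ z ∈ d.im 1 := fun {z} hz => mem_map_of_mem _ (by rw [cj_one]; exact hz)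
  refine MonoidHom.mem_ker.2 ?_
  rw [map_commutatorElement, commutatorElement_eq_one_iff_mul_comm]
  exact d.im_comm (h ha) (h hb)

theorem pow_mem_core {a : G} (ha : a ∈ d.S) : a ^ p ∈ Cfsg.pCore p G := by
  haveI := d.fin
  refine d.c.inf_ker_le ⟨pow_mem ha p, ?_⟩
  obtain ⟨R, hR⟩ := d.exists_im 1
  refine MonoidHom.mem_ker.2 ?_
  rw [map_pow]
  exact psl_sylow_pow d.c.hn d.c.hF R (hR.le (mem_map_of_mem _ (by rw [cj_one]; exact ha)))

/-- only the core fixes a second conjugate -/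
theorem mem_core_of_fix {a x : G} (ha : a ∈ d.S) (hx : d.Far x) (h : d.im (a * x) = d.im x) :
    a ∈ Cfsg.pCore p G := by
  haveI := d.fin
  refine d.c.inf_ker_le ⟨ha, ?_⟩
  obtain ⟨R, hR⟩ := d.exists_im x
  have ha1 : d.c.ψ a ∈ d.im 1 := mem_map_of_mem _ (by rw [cj_one]; exact ha)
  obtain ⟨R1, hR1⟩ := d.exists_im 1
  have hn : d.c.ψ a ∈ normalizer (d.im x : Set _) := by
    rw [d.im_conj] at h
    refine mem_normalizer_iff.2 fun z => ⟨fun hz => h.le (conj_mem_cj hz), fun hz => ?_⟩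
    have := mem_cj.1 (h.ge hz)
    simpa [mul_assoc] using this
  have h1 : IsPGroup p (d.im x ⊔ zpowers (d.c.ψ a) : Subgroup _) :=
    IsPGroup.to_sup_of_normal_left' (hR ▸ R.2) (R1.2.to_le (hR1 ▸ zpowers_le.2 ha1)) (zpowers_le.2 hn)
  have h2 : d.c.ψ a ∈ d.im x := by
    rw [hR] at h1 ⊢
    exact (R.3 h1 le_sup_left).le (mem_sup_right (mem_zpowers _))
  exact (d.im_inf (d.far_iff.1 hx)).le ⟨h2, ha1⟩

theorem sep {y v : G} (hy : d.Far y) (hv : v ∈ cj y d.S) (hvQ : v ∉ Cfsg.pCore p G) : d.Far v⁻¹ := by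
  rw [far_iff]
  intro h
  apply hvQ
  haveI := d.c.core_normal
  have hy' : d.Far (y⁻¹ * 1) := d.far_iff'.2 (d.far_iff.1 hy)
  rw [mul_one] at hy'
  have ha : y⁻¹ * v⁻¹ * y ∈ d.S := by
    have := inv_mem (mem_cj.1 hv)
    simpa [mul_assoc] using this
  have := d.mem_core_of_fix ha hy' (by
    rw [show y⁻¹ * v⁻¹ * y * y⁻¹ = y⁻¹ * v⁻¹ by group, d.im_conj, h, ← d.im_conj, mul_one])
  have := inv_mem (Normal.conj_mem inferInstance _ this y)
  simpa [mul_assoc] using this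

/-- `Ω₁` of the closure of `Z(S)` -/
abbrev W : Subgroup G := Cfsg.Lib.PushUp.omegaSub p d.c.Vc d.c.Vc_comm

theorem W_pow {w : G} (hw : w ∈ d.W) : w ^ p = 1 := hw.2

theorem W_comm {a b : G} (ha : a ∈ d.W) (hb : b ∈ d.W) : a * b = b * a :=
  Cfsg.Lib.PushUp.comm_of d.c.Vc_comm ha.1 hb.1

theorem W_normal : d.W.Normal := d.exists_case.choose_spec.W_normal

theorem W_le_core : d.W ≤ Cfsg.pCore p G := fun _ hw => (d.c.Vc_le hw.1).1

theorem W_le_S : d.W ≤ d.S := d.W_le_core.trans d.c.core_le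

theorem core_le_centralizer : Cfsg.pCore p G ≤ centralizer (d.W : Set G) := fun q hq =>
  mem_centralizer_iff.2 fun w hw => (mem_centralizer_iff.1 (d.c.Vc_le hw.1).2 q hq).symm

/-- the fixed points of `S` -/
abbrev Z : Subgroup G := d.W ⊓ centralizer (d.S : Set G)

theorem card_W : Nat.card d.W = p ^ d.c.n * Nat.card d.Z := by
  obtain ⟨A, hA⟩ := d.exists_case
  have e : d.Z = d.W ⊓ d.c.Zs :=
    le_antisymm (fun w hw => ⟨hw.1, d.W_le_S hw.1, hw.2⟩) (fun w hw => ⟨hw.1, hw.2.2⟩)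
  rw [e]
  exact hA.main.2.1

theorem cj_inf_centralizer (x : G) : cj x d.S ⊓ centralizer (d.W : Set G) ≤ Cfsg.pCore p G := by
  obtain ⟨A, hA⟩ := d.exists_case
  haveI := d.W_normal
  haveI := d.c.core_normal
  haveI : (centralizer (d.W : Set G)).Normal := inferInstance
  intro z hz
  have h1 : x⁻¹ * z * x ∈ Cfsg.pCore p G := d.c.inf_le_core _ hA.W_cent ⟨mem_cj.1 hz.1, by
    simpa using (inferInstance : (centralizer (d.W : Set G)).Normal).conj_mem z hz.2 x⁻¹⟩
  simpa [mul_assoc] using Normal.conj_mem inferInstance _ h1 x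

theorem fix_le {a : G} (ha : a ∈ d.S) (haQ : a ∉ Cfsg.pCore p G) :
    d.W ⊓ centralizer ({a} : Set G) ≤ centralizer (d.S : Set G) := by
  obtain ⟨A, hA⟩ := d.exists_case
  haveI := d.W_normal
  have hb := d.c.elem_bound d.W hA.W_elem hA.W_cent ha haQ
  rw [d.card_W] at hb
  have hle : d.Z ≤ d.W ⊓ centralizer ({a} : Set G) := fun w hw =>
    ⟨hw.1, mem_centralizer_singleton_iff.2 (mem_centralizer_iff.1 hw.2 a ha).symm⟩
  rw [← Subgroup.eq_of_le_of_card_ge hle (Nat.le_of_mul_le_mul_left hb (pow_pos hp.out.pos _))]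
  exact inf_le_right

theorem comm_W {w : G} (hw : w ∈ d.W) (g : G) : ⁅w, g⁆ ∈ d.W := by
  rw [commutatorElement_def, mul_assoc, mul_assoc]
  exact mul_mem hw (by simpa [mul_assoc] using Normal.conj_mem d.W_normal _ (inv_mem hw) g)

theorem comm_mul_right {v a b : G} : ⁅v, a * b⁆ = ⁅v, a⁆ * (a * ⁅v, b⁆ * a⁻¹) := by
  simp only [commutatorElement_def]; group

theorem comm_mul_left {v w a : G} (hv : v ∈ d.W) (hw : w ∈ d.W) : ⁅v * w, a⁆ = ⁅v, a⁆ * ⁅w, a⁆ := by
  have e := d.W_comm hv (d.comm_W hw a)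
  calc ⁅v * w, a⁆ = v * ⁅w, a⁆ * v⁻¹ * ⁅v, a⁆ := by simp only [commutatorElement_def]; group
    _ = ⁅w, a⁆ * ⁅v, a⁆ := by rw [e]; group
    _ = ⁅v, a⁆ * ⁅w, a⁆ := d.W_comm (d.comm_W hw a) (d.comm_W hv a)

theorem Z_fix {z a : G} (hz : z ∈ d.Z) (ha : a ∈ d.S) : a * z * a⁻¹ = z := by
  rw [mem_centralizer_iff.1 hz.2 a ha, mul_inv_cancel_right]

/-- the second fixed points -/
def W1 : Subgroup G where
  carrier := {v | v ∈ d.W ∧ ∀ a ∈ d.S, ⁅v, a⁆ ∈ d.Z}
  one_mem' := ⟨one_mem _, fun a _ => by rw [commutatorElement_one_left]; exact one_mem _⟩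
  mul_mem' := fun {v w} hv hw => ⟨mul_mem hv.1 hw.1, fun a ha => by
    rw [d.comm_mul_left hv.1 hw.1]; exact mul_mem (hv.2 a ha) (hw.2 a ha)⟩
  inv_mem' := fun {v} hv => ⟨inv_mem hv.1, fun a ha => by
    have h := d.comm_mul_left (a := a) hv.1 (inv_mem hv.1)
    rw [mul_inv_cancel, commutatorElement_one_left] at h
    rw [eq_inv_of_mul_eq_one_right h.symm]
    exact inv_mem (hv.2 a ha)⟩

theorem comm_le : ⁅d.W, d.S⁆ ≤ centralizer (d.S : Set G) := by
  suffices h : d.W ≤ d.W1 from commutator_le.2 fun v hv a ha => ((h hv).2 a ha).2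
  by_contra hne
  haveI := d.W_normal
  haveI := d.c.core_normal
  have hS1 : ∀ a ∈ d.S, cj a d.Z = d.Z := fun a ha => cj_eq_of_mem (mem_normalizer_iff.2 fun z =>
    ⟨fun hz => by rw [d.Z_fix hz ha]; exact hz, fun hz => by
      have := d.Z_fix hz (inv_mem ha)
      rw [show a⁻¹ * (a * z * a⁻¹) * a⁻¹⁻¹ = z by group] at this
      rwa [this]⟩)
  have hn1 : d.S ≤ normalizer (d.W1 : Set G) := by
    refine le_normalizer_of_forall fun a ha => ?_
    rintro _ ⟨v, hv, rfl⟩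
    change a * v * a⁻¹ ∈ d.W1
    refine ⟨Normal.conj_mem inferInstance _ hv.1 a, fun b hb => ?_⟩
    have h1 := hv.2 _ (mul_mem (mul_mem (inv_mem ha) hb) ha)
    rw [show ⁅a * v * a⁻¹, b⁆ = a * ⁅v, a⁻¹ * b * a⁆ * a⁻¹ by simp only [commutatorElement_def]; group,
      d.Z_fix h1 ha]
    exact h1
  -- a fixed point of `S` on the quotient
  obtain ⟨v, hv, hv1, hva⟩ : ∃ v ∈ d.W, v ∉ d.W1 ∧ ∀ a ∈ d.S, ⁅v, a⁆ ∈ d.W1 := by
    set N := d.W1.subgroupOf d.S
    haveI : N.Normal := normal_subgroupOf_of_le_normalizer hn1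
    set K := (d.W.subgroupOf d.S).map (QuotientGroup.mk' N)
    haveI : K.Normal := (inferInstance : (d.W.subgroupOf d.S).Normal).map _ (QuotientGroup.mk'_surjective N)
    have hKne : K ≠ ⊥ := by
      intro h
      rw [Subgroup.map_eq_bot_iff, QuotientGroup.ker_mk'] at h
      exact hne fun w hw => mem_subgroupOf.1 (h (show (⟨w, d.W_le_S hw⟩ : ↥d.S) ∈ d.W.subgroupOf d.S from hw))
    obtain ⟨x, ⟨hx1, hx2⟩, hx⟩ := ((bot_or_exists_ne_one _).resolve_left
      (haveI := (d.c.S.2.to_quotient N).isNilpotent; Cfsg.Lib.Coprime.inf_center_ne_bot K hKne))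
    obtain ⟨⟨v, hvS⟩, hv, rfl⟩ := hx1
    refine ⟨v, hv, fun h => hx ((QuotientGroup.eq_one_iff _).2 h), fun a ha => ?_⟩
    have := mem_center_iff.1 hx2 (QuotientGroup.mk' N ⟨a, ha⟩)
    rw [← commutatorElement_eq_one_iff_mul_comm, ← map_commutatorElement] at this
    have h2 := inv_mem (mem_subgroupOf.1 ((QuotientGroup.eq_one_iff _).1 this) : ⁅a, v⁆ ∈ d.W1)
    have h3 : ⁅a, v⁆⁻¹ ∈ d.W1 := h2
    rwa [commutatorElement_inv] at h3
  -- the map to the second quotient
  set M := d.Z.subgroupOf d.S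
  haveI : M.Normal := normal_subgroupOf_of_le_normalizer
    (le_normalizer_of_forall fun a ha => (hS1 a ha).le)
  let f : ↥d.S →* ↥d.S ⧸ M :=
    { toFun := fun a => QuotientGroup.mk ⟨⁅v, (a : G)⁆, d.W_le_S (d.comm_W hv _)⟩
      map_one' := by
        refine (QuotientGroup.eq_one_iff _).2 (mem_subgroupOf.2 ?_)
        simp
      map_mul' := fun a b => by
        rw [← QuotientGroup.mk_mul, QuotientGroup.eq, mem_subgroupOf]
        simp only [Subgroup.coe_mul, Subgroup.coe_inv]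
        have h := (hva b b.2).2 _ a.2
        have h' : ⁅⁅v, (b : G)⁆, (a : G)⁆ ∈ d.Z := h
        have e := d.W_comm (d.comm_W hv (b : G)) (Normal.conj_mem d.W_normal _ (inv_mem (d.comm_W hv (b : G))) (a : G))
        rw [comm_mul_right d, show (⁅v, (a : G)⁆ * ((a : G) * ⁅v, (b : G)⁆ * (a : G)⁻¹))⁻¹ *
            (⁅v, (a : G)⁆ * ⁅v, (b : G)⁆) = ((a : G) * ⁅v, (b : G)⁆⁻¹ * (a : G)⁻¹) * ⁅v, (b : G)⁆ by group,
          ← e]
        rwa [commutatorElement_def, mul_assoc, mul_assoc, ← mul_assoc (a : G)] at h' }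
  have hQker : (Cfsg.pCore p G).subgroupOf d.S ≤ f.ker := fun q hq => by
    refine (QuotientGroup.eq_one_iff _).2 (mem_subgroupOf.2 ?_)
    show ⁅v, (q : G)⁆ ∈ d.Z
    rw [commutatorElement_eq_one_iff_mul_comm.2
      (mem_centralizer_iff.1 (d.core_le_centralizer (mem_subgroupOf.1 hq)) v hv)]
    exact one_mem _
  have hker : f.ker = (Cfsg.pCore p G).subgroupOf d.S := by
    refine le_antisymm (fun a ha => ?_) hQker
    by_contra haQ
    have ha' : ⁅v, (a : G)⁆ ∈ d.Z := mem_subgroupOf.1 ((QuotientGroup.eq_one_iff _).1 ha)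
    refine hv1 ⟨hv, fun b hb => ?_⟩
    have hbW := d.comm_W hv b
    refine ⟨hbW, d.fix_le a.2 (fun h => haQ (mem_subgroupOf.2 h))
      ⟨hbW, mem_centralizer_singleton_iff.2 ?_⟩⟩
    set x := ⁅v, (a : G)⁆
    have hq : ⁅(a : G), b⁆ ∈ Cfsg.pCore p G := d.comm_mem a.2 hb
    have hc := mem_centralizer_iff.1 (d.core_le_centralizer hq) v hv
    have e1 : ⁅v, (a : G) * b⁆ = ⁅v, b * (a : G)⁆ := by
      rw [show (a : G) * b = ⁅(a : G), b⁆ * (b * a) by simp only [commutatorElement_def]; group,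
        comm_mul_right d, commutatorElement_eq_one_iff_mul_comm.2 hc, one_mul]
      have := mem_centralizer_iff.1 (d.core_le_centralizer hq) _ (d.comm_W hv (b * a))
      rw [← this]; group
    rw [comm_mul_right d, comm_mul_right d, d.Z_fix ha' hb] at e1
    have e2 : (a : G) * ⁅v, b⁆ * (a : G)⁻¹ = ⁅v, b⁆ := by
      have h3 := e1.trans (d.W_comm hbW ha'.1)
      exact mul_left_cancel h3
    calc ⁅v, b⁆ * a = (a * ⁅v, b⁆ * (a : G)⁻¹) * a := by rw [e2]
      _ = a * ⁅v, b⁆ := by group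
  -- count
  have h1 : Nat.card f.range * Nat.card f.ker = Nat.card d.S := by rw [← index_ker, index_mul_card]
  rw [hker, Nat.card_congr (subgroupOfEquivOfLe d.c.core_le).toEquiv, d.card_S] at h1
  have h2 := Nat.eq_of_mul_eq_mul_right Nat.card_pos h1
  have hle : f.range ≤ (d.W1.subgroupOf d.S).map (QuotientGroup.mk' M) := by
    rintro _ ⟨a, rfl⟩
    exact mem_map_of_mem _ (mem_subgroupOf.2 (hva a a.2))
  have h3 := h2.ge.trans (Nat.card_mono (Set.toFinite _) (SetLike.coe_subset_coe.2 hle))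
  have hZ1 : d.Z ≤ d.W1 := fun z hz => ⟨hz.1, fun a ha => by
    rw [commutatorElement_eq_one_iff_mul_comm.2 (mem_centralizer_iff.1 hz.2 a ha).symm]; exact one_mem _⟩
  have h4 := Cfsg.Lib.FF.card_eq_map_mul (QuotientGroup.mk' M) (d.W1.subgroupOf d.S)
  rw [QuotientGroup.ker_mk', inf_eq_right.2 (fun z hz => mem_subgroupOf.2 (hZ1 (mem_subgroupOf.1 hz))),
    Nat.card_congr (subgroupOfEquivOfLe (show d.W1 ≤ d.S from fun w hw => d.W_le_S hw.1)).toEquiv,
    Nat.card_congr (subgroupOfEquivOfLe (inf_le_left.trans d.W_le_S)).toEquiv] at h4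
  have h5 : Nat.card d.W ≤ Nat.card d.W1 := by
    rw [d.card_W, h4]
    exact Nat.mul_le_mul_right _ h3
  exact hne (Subgroup.eq_of_le_of_card_ge (show d.W1 ≤ d.W from fun w hw => hw.1) h5).ge

theorem not_comm_central : ¬ ⁅d.W, d.S⁆ ≤ center G := by
  intro h
  haveI := d.W_normal
  set L := Subgroup.comap (QuotientGroup.mk' (center G))
    (centralizer (d.W.map (QuotientGroup.mk' (center G)) : Set (G ⧸ center G))) with hL
  haveI : (d.W.map (QuotientGroup.mk' (center G))).Normal :=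
    (inferInstance : d.W.Normal).map _ (QuotientGroup.mk'_surjective _)
  haveI : L.Normal := inferInstanceAs (Subgroup.comap _ _).Normal
  have hSL : d.S ≤ L := fun s hs => mem_comap.2 (mem_centralizer_iff.2 (by
    rintro _ ⟨w, hw, rfl⟩
    rw [← commutatorElement_eq_one_iff_mul_comm, ← map_commutatorElement]
    exact (QuotientGroup.eq_one_iff _).2 (h (commutator_mem_commutator hw hs))))
  obtain ⟨y, hy⟩ := d.exists_far
  have htop : (⊤ : Subgroup G) ≤ L := by
    rw [← hy]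
    exact sup_le hSL ((cj_mono y hSL).trans (cj_eq_of_mem ((normalizer_eq_top (H := L)).ge (mem_top y))).le)
  obtain ⟨A, hA⟩ := d.exists_case
  haveI : (centralizer (d.W : Set G)).Normal := inferInstance
  have hcop : ∀ g : G, (orderOf g).Coprime p → g ∈ centralizer (d.W : Set G) := fun g hg => by
    refine mem_centralizer_iff.2 fun w hw => ?_
    have h1 := mem_centralizer_iff.1 (mem_comap.1 (htop (mem_top g))) _
      (mem_map_of_mem (QuotientGroup.mk' (center G)) hw)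
    rw [← commutatorElement_eq_one_iff_mul_comm, ← map_commutatorElement] at h1
    have hc : ⁅g, w⁆ ∈ center G := by
      have := inv_mem ((QuotientGroup.eq_one_iff _).1 h1 : ⁅w, g⁆ ∈ center G)
      rwa [commutatorElement_inv] at this
    have hcp : ⁅g, w⁆ ^ p = 1 := by
      rw [← commutatorElement_inv, inv_pow, d.W_pow (d.comm_W hw g), inv_one]
    exact (commute_of_central hg hcp hc).symm
  refine d.c.hMne (top_le_iff.1 ?_)
  rw [← Cfsg.Lib.PushUp.sup_sylow_eq_top _ d.c.S hcop]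
  exact sup_le hA.W_cent (le_sup_left.trans d.sup_ker_le)

/-- the embedded situation -/
theorem exists_amb (hT : NoChar d.c) : ∃ a : Amb (Equiv.Perm G), a.X = (⊤ : Subgroup G).map ι ∧ a.S = d.S.map ι ∧
    a.Q = (Cfsg.pCore p G).map ι ∧ a.V = d.W.map ι ∧ a.q = p ^ d.c.n := by
  haveI := d.c.core_normal
  haveI := d.W_normal
  have hnorm : ∀ (K : Subgroup G), K.Normal →
      (⊤ : Subgroup G).map ι ≤ normalizer (K.map ι : Set (Equiv.Perm G)) := fun K hK => by
    haveI := hK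
    exact (map_mono (normalizer_eq_top (H := K)).ge).trans (le_normalizer_map _)
  have hcent : d.W.map ι ⊓ centralizer (d.S.map ι : Set (Equiv.Perm G)) = d.Z.map ι := by
    refine le_antisymm ?_ (le_inf (map_mono inf_le_left) ?_)
    · rintro _ ⟨⟨w, hw, rfl⟩, hc⟩
      exact ⟨w, ⟨hw, mem_centralizer_iff.2 fun s hs => ι_inj (by
        rw [map_mul, map_mul]; exact mem_centralizer_iff.1 hc _ (mem_map_of_mem ι hs))⟩, rfl⟩
    · rintro _ ⟨w, hw, rfl⟩
      refine mem_centralizer_iff.2 ?_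
      rintro _ ⟨s, hs, rfl⟩
      rw [← map_mul, ← map_mul, mem_centralizer_iff.1 hw.2 s hs]
  have hcj : ∀ (x : G) (K : Subgroup G), cj (ι x) (K.map ι) = (cj x K).map ι := fun x K => by
    ext w
    constructor
    · rintro ⟨_, ⟨k, hk, rfl⟩, rfl⟩
      exact ⟨x * k * x⁻¹, conj_mem_cj hk, by rw [map_mul, map_mul, map_inv]; rfl⟩
    · rintro ⟨_, ⟨k, hk, rfl⟩, rfl⟩
      exact ⟨ι k, mem_map_of_mem ι hk, by
        show ι x * ι k * (ι x)⁻¹ = ι (x * k * x⁻¹)
        rw [map_mul, map_mul, map_inv]⟩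
  refine ⟨{ X := (⊤ : Subgroup G).map ι
            S := d.S.map ι
            Q := (Cfsg.pCore p G).map ι
            V := d.W.map ι
            q := p ^ d.c.n
            hQS := map_mono d.c.core_le
            hSX := map_mono le_top
            hVQ := map_mono d.W_le_core
            nQ := hnorm _ inferInstance
            nV := hnorm _ inferInstance
            hQV := ?_, hC := ?_, hne := ?_, fix_le := ?_, cS := ?_, cV := ?_, sep := ?_
            move := ?_, hR := ?_, nZ := ?_, faith := ?_ }, rfl, rfl, rfl, rfl, rfl⟩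
  · rintro _ ⟨q, hq, rfl⟩
    refine mem_centralizer_iff.2 ?_
    rintro _ ⟨w, hw, rfl⟩
    rw [← map_mul, ← map_mul, mem_centralizer_iff.1 (d.core_le_centralizer hq) w hw]
  · rintro _ ⟨x, -, rfl⟩ z hz
    rw [hcj] at hz
    obtain ⟨g, hgS, rfl⟩ := hz.1
    refine mem_map_of_mem ι (d.cj_inf_centralizer x ⟨hgS, mem_centralizer_iff.2 fun w hw => ι_inj ?_⟩)
    rw [map_mul, map_mul]
    exact mem_centralizer_iff.1 hz.2 _ (mem_map_of_mem ι hw)
  · intro h
    rw [map_eq_bot_iff_of_injective _ ι_inj] at h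
    have := d.card_W
    rw [h, card_bot] at this
    exact d.one_lt_q.ne' (Nat.eq_one_of_mul_eq_one_right this.symm)
  · rintro _ ⟨a, ha, rfl⟩ hna w ⟨hwV, hwc⟩
    obtain ⟨v, hv, rfl⟩ := hwV
    have h1 := d.fix_le ha (fun h => hna (mem_map_of_mem ι h)) ⟨hv, mem_centralizer_singleton_iff.2
      (ι_inj (by rw [map_mul, map_mul]; exact mem_centralizer_singleton_iff.1 hwc))⟩
    exact (hcent.ge (mem_map_of_mem ι ⟨hv, h1⟩)).2
  · rw [card_map_of_injective ι_inj, card_map_of_injective ι_inj, d.card_S]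
  · rw [hcent, card_map_of_injective ι_inj, card_map_of_injective ι_inj, d.card_W]
  · rintro _ ⟨y, -, rfl⟩ hy _ hv hvQ
    rw [hcj] at hv
    obtain ⟨v, hv, rfl⟩ := hv
    rw [hcj, ← Subgroup.map_sup] at hy
    rw [← map_inv, hcj, ← Subgroup.map_sup, d.sep (map_injective ι_inj hy) hv fun h => hvQ (mem_map_of_mem ι h)]
  · obtain ⟨y, hy⟩ := d.exists_far
    exact ⟨ι y, mem_map_of_mem ι (mem_top y), by rw [hcj, ← Subgroup.map_sup, hy]⟩
  · intro h
    refine d.not_comm_central fun g hg => mem_center_iff.2 fun x => ι_inj ?_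
    rw [map_mul, map_mul]
    have : ι g ∈ ⁅d.W.map ι, d.S.map ι⁆ := by rw [← map_commutator]; exact mem_map_of_mem ι hg
    exact mem_centralizer_iff.1 (h this) _ (mem_map_of_mem ι (mem_top x))
  · intro σ hσ
    refine Subgroup.eq_of_le_of_card_ge ?_ (card_cj _ _).ge
    rintro _ ⟨w, hw, rfl⟩
    refine ⟨?_, NoChar.normalizer_map_comm d.c hσ hw.2⟩
    obtain ⟨v, hv, rfl⟩ := hw.1
    obtain ⟨v', hv', he⟩ := (mem_normalizer_iff.1 hσ _).1 (mem_map_of_mem ι (d.W_le_S hv))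
    refine ⟨v', ⟨Subgroup.le_normalClosure ⟨hv', mem_centralizer_iff.2 fun s hs => ι_inj ?_⟩, ι_inj ?_⟩, he⟩
    · rw [map_mul, map_mul, he]
      exact mem_centralizer_iff.1 (NoChar.normalizer_map_comm d.c hσ hw.2) _ (mem_map_of_mem ι hs)
    · rw [map_pow, he, conj_pow, ← map_pow, hv.2, map_one, mul_one, mul_inv_cancel]
  · exact NoChar.faith d.c hT

end Sit

end Cfsg.Lib.BGN.P
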