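import Cfsg.Agent.Known.AutPSL2

/-!
Recognition of the natural `SL₂(q)`-module from two groups of transvections whose torus acts on the lines through
the multiplication of the field.
-/

set_option autoImplicit false
set_option linter.unusedSectionVars false

namespace Cfsg.Lib.BGN.P

open Matrix Cfsg.Lib.Known.AutPSL2

universe u v

variable {F : Type v} [Field F] [Finite F]

/-- the algebra: a regular family which multiplies up to line stabilizers is a field homomorphism -/
theorem mul_hom {Z : Type u} [AddCommGroup Z] (f g : F →+ AddMonoid.End Z) (f1 : f 1 = 1) (g1 : g 1 = 1)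
    (hfg : ∀ x : F, x ≠ 0 → f x * g x⁻¹ = 1) (hgf : ∀ x : F, x ≠ 0 → g x⁻¹ * f x = 1)
    (reg : ∀ z : Z, z ≠ 0 → ∀ z' : Z, ∃ c : F, f c z = z')
    (hk : ∀ a b c : F, a ≠ 0 → b ≠ 0 →
      g (a * b)⁻¹ * f a * f b * f c = f c * (f (a * b) * g a⁻¹ * g b⁻¹)) :
    ∀ a b : F, f (a * b) = f a * f b := by
  -- endomorphisms commuting with the family
  have hD : ∀ δ : AddMonoid.End Z, (∀ c, δ * f c = f c * δ) → δ = 0 ∨ ∀ z, δ z = 0 → z = 0 := by
    intro δ hδ
    refine or_iff_not_imp_right.2 fun h => ?_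
    push Not at h
    obtain ⟨z, hz, hne⟩ := h
    refine AddMonoidHom.ext fun z' => ?_
    obtain ⟨c, rfl⟩ := reg z hne z'
    have := DFunLike.congr_fun (hδ c) z
    show δ (f c z) = 0
    simpa [hz] using this
  have hcancel : ∀ δ : AddMonoid.End Z, (∀ c, δ * f c = f c * δ) → δ ≠ 0 → ∀ X Y, δ * X = δ * Y → X = Y := by
    intro δ hδ hne X Y h
    refine AddMonoidHom.ext fun z => ?_
    have h1 := ((hD δ hδ).resolve_left hne) (X z - Y z) (by
      rw [map_sub, sub_eq_zero]; exact DFunLike.congr_fun h z)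
    exact sub_eq_zero.1 h1
  -- the scalar
  have hα : ∀ a b : F, a ≠ 0 → b ≠ 0 →
      (∀ c, g (a * b)⁻¹ * f a * f b * f c = f c * (g (a * b)⁻¹ * f a * f b)) ∧
      f a * f b = f (a * b) * (g (a * b)⁻¹ * f a * f b) ∧
      f (a * b) = g (a * b)⁻¹ * f a * f b * (f b * f a) := by
    intro a b ha hb
    set α := g (a * b)⁻¹ * f a * f b with hdef
    have e : f (a * b) * g a⁻¹ * g b⁻¹ = α := by
      have := hk a b 1 ha hb
      rw [f1, mul_one, one_mul] at this
      exact this.symm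
    refine ⟨fun c => ?_, ?_, ?_⟩
    · rw [hk a b c ha hb, e]
    · rw [hdef, ← mul_assoc, ← mul_assoc, hfg _ (mul_ne_zero ha hb), one_mul]
    · rw [← e, mul_assoc (f (a * b) * g a⁻¹), ← mul_assoc (g b⁻¹), hgf b hb, one_mul, mul_assoc, hgf a ha, mul_one]
  have hcomm : ∀ a b : F, f a * f b = f b * f a := by
    intro a b
    rcases eq_or_ne a 0 with rfl | ha
    · simp
    rcases eq_or_ne b 0 with rfl | hb
    · simp
    rcases eq_or_ne (a + 1) 0 with h1 | h1
    · rw [eq_neg_of_add_eq_zero_left h1, map_neg, f1]; simp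
    obtain ⟨d, hd, e⟩ : ∃ d, (∀ c, d * f c = f c * d) ∧ f a * f b = d * (f b * f a) := by
      obtain ⟨hc, e1, e2⟩ := hα a b ha hb
      set α := g (a * b)⁻¹ * f a * f b
      refine ⟨α * α, fun c => (((show Commute α (f c) from hc c)).mul_left (hc c)).eq, ?_⟩
      rw [e1, e2, mul_assoc, ← (((show Commute α (f b) from hc b)).mul_right (hc a)).eq, ← mul_assoc]
    obtain ⟨d', hd', e'⟩ : ∃ d, (∀ c, d * f c = f c * d) ∧ f (a + 1) * f b = d * (f b * f (a + 1)) := by
      obtain ⟨hc, e1, e2⟩ := hα (a + 1) b h1 hb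
      set α := g ((a + 1) * b)⁻¹ * f (a + 1) * f b
      refine ⟨α * α, fun c => (((show Commute α (f c) from hc c)).mul_left (hc c)).eq, ?_⟩
      rw [e1, e2, mul_assoc, ← (((show Commute α (f b) from hc b)).mul_right (hc (a + 1))).eq, ← mul_assoc]
    rw [map_add, f1, add_mul, mul_add, one_mul, mul_one, mul_add, e] at e'
    have e3 : (d - d') * (f b * f a) = (d' - 1) * f b := by
      rw [sub_mul, sub_mul, one_mul, sub_eq_sub_iff_add_eq_add, e', add_comm]
    by_cases hdd : d - d' = 0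
    · have h2 : (d' - 1) * f b = 0 := by rw [← e3, hdd, zero_mul]
      have hb1 : f b * g b⁻¹ = 1 := hfg b hb
      have hd1 : d' - 1 = 0 := by
        have := congrArg (· * g b⁻¹) h2
        simpa [mul_assoc, hb1] using this
      rw [e, sub_eq_zero.1 hdd, sub_eq_zero.1 hd1, one_mul]
    · refine hcancel (d - d') (fun c => (((show Commute d (f c) from hd c)).sub_left (hd' c)).eq) hdd _ _ ?_
      have hC : ∀ c, Commute (d' - 1) (f c) := fun c => (show Commute d' (f c) from hd' c).sub_left (Commute.one_left _)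
      have hdC : ∀ c, Commute (d - d') (f c) := fun c => (show Commute d (f c) from hd c).sub_left (hd' c)
      have e4 : f b * ((d - d') * f a) = f b * (d' - 1) := by
        rw [← mul_assoc, ← (hdC b).eq, mul_assoc, e3, (hC b).eq]
      have e5 : (d - d') * f a = d' - 1 := by
        rw [← one_mul ((d - d') * f a), ← hgf b hb, mul_assoc, e4, ← mul_assoc, hgf b hb, one_mul]
      rw [← mul_assoc, e5, e3]
  intro a b
  have hsign : ∀ a b : F, f (a * b) = f a * f b ∨ f (a * b) = -(f a * f b) := by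
    intro a b
    rcases eq_or_ne a 0 with rfl | ha
    · simp
    rcases eq_or_ne b 0 with rfl | hb
    · simp
    obtain ⟨hc, e1, e2⟩ := hα a b ha hb
    set α := g (a * b)⁻¹ * f a * f b
    rw [hcomm b a, e1, ← mul_assoc, ← (show Commute (f (a * b)) α from (show Commute α (f (a * b)) from hc _).symm).eq, mul_assoc] at e2
    have e3 : α * α = 1 := by
      have := congrArg (g (a * b)⁻¹ * ·) e2
      simp only [← mul_assoc] at this
      rw [hgf _ (mul_ne_zero ha hb), one_mul] at this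
      exact this.symm
    have hαc : ∀ c, Commute (α - 1) (f c) := fun c => (show Commute α (f c) from hc c).sub_left (Commute.one_left _)
    rcases eq_or_ne (α - 1) 0 with h | h
    · left; rw [e1, sub_eq_zero.1 h, mul_one]
    · right
      have h2 : α + 1 = 0 := hcancel _ (fun c => (hαc c).eq) h _ _ (by
        rw [mul_zero, sub_mul, mul_add, e3, mul_one, one_mul]; abel)
      rw [e1, eq_neg_of_add_eq_zero_left h2, mul_neg, mul_one, neg_neg]
  by_contra hne
  have hneg : ∀ c, f (a * c) = -(f a * f c) := by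
    intro c
    rcases hsign a c with h | h
    · rcases hsign a (b + c) with h' | h'
      · rw [mul_add, map_add, map_add, mul_add, h, add_left_inj] at h'
        exact absurd h' hne
      · rw [mul_add, map_add, map_add, mul_add, neg_add, (hsign a b).resolve_left hne, add_right_inj] at h'
        exact h'
    · exact h
  apply hne
  have h := hneg 1
  rw [mul_one, f1, mul_one] at h
  rw [hneg b, ← neg_mul, ← h]

/-- the torus element -/
def tor {A : Type u} (u v : F → A → A) (x : F) (a : A) : A :=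
  u x (v (-x⁻¹) (u x (u (-1) (v 1 (u (-1) a)))))

/-- coordinates in which the two groups are those of `SL₂(q)` -/
theorem exists_coords {A : Type u} [AddCommGroup A] [Finite A] (u v : F → A → A)
    (umap : ∀ x a b, u x (a + b) = u x a + u x b) (vmap : ∀ x a b, v x (a + b) = v x a + v x b)
    (uadd : ∀ x y a, u (x + y) a = u x (u y a)) (vadd : ∀ x y a, v (x + y) a = v x (v y a))
    (Z Z' : AddSubgroup A) (hdisj : ∀ a ∈ Z, a ∈ Z' → a = 0) (hA : ∀ a, ∃ z ∈ Z, ∃ z' ∈ Z', z + z' = a)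
    (uZ : ∀ x, ∀ z ∈ Z, u x z = z) (uA : ∀ x a, u x a - a ∈ Z)
    (vZ : ∀ x, ∀ z ∈ Z', v x z = z) (vA : ∀ x a, v x a - a ∈ Z')
    (ureg : ∀ x, ∀ z ∈ Z', z ≠ 0 → u x z = z → x = 0)
    (hcard : Nat.card Z = Nat.card F) (hcard' : Nat.card Z' = Nat.card F)
    (braid : ∀ x : F, x ≠ 0 → ∀ z ∈ Z, u x (v (-x⁻¹) (u x z)) ∈ Z')
    (torus : ∀ a b c : F, a ≠ 0 → b ≠ 0 → ∀ z ∈ Z', ∃ z₁ ∈ Z',
      tor u v a (tor u v b (u c z)) = tor u v (a * b) (u c z₁)) :
    ∃ l : A ≃+ (Fin 2 → F),
      (∀ x a, l (u x a) = (uS x : Matrix (Fin 2) (Fin 2) F) *ᵥ l a) ∧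
      (∀ x a, l (v x a) = (vS x : Matrix (Fin 2) (Fin 2) F) *ᵥ l a) := by
  classical
  haveI := Fintype.ofFinite F
  have u0 : ∀ x, u x 0 = 0 := fun x => by have h := umap x 0 0; rw [add_zero, left_eq_add] at h; exact h
  have v0 : ∀ x, v x 0 = 0 := fun x => by have h := vmap x 0 0; rw [add_zero, left_eq_add] at h; exact h
  let φ : F → (↥Z' →+ ↥Z) := fun x =>
    { toFun := fun z => ⟨u x z - z, uA x z⟩
      map_zero' := Subtype.ext (by simp [u0])
      map_add' := fun a b => Subtype.ext (by simp [umap]; abel) }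
  have hφ : ∀ x (z : ↥Z'), u x (z : A) = (φ x z : A) + z := fun x z => (sub_add_cancel _ _).symm
  have hφadd : ∀ x y z, φ (x + y) z = φ x z + φ y z := fun x y z => Subtype.ext (by
    show u (x + y) (z : A) - z = (φ x z : A) + (φ y z : A)
    rw [uadd, hφ y z, umap, uZ x _ (φ y z).2, hφ x z]; abel)
  have hφinj : ∀ x, x ≠ 0 → Function.Injective (φ x) := fun x hx => by
    rw [injective_iff_map_eq_zero]
    intro z hz
    by_contra hne
    exact hx (ureg x z z.2 (fun h => hne (Subtype.ext h)) (by rw [hφ, hz]; simp))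
  have hbij : ∀ x, x ≠ 0 → Function.Bijective (φ x) := fun x hx =>
    (Nat.bijective_iff_injective_and_card _).2 ⟨hφinj x hx, hcard'.trans hcard.symm⟩
  let e : ↥Z' ≃+ ↥Z := AddEquiv.ofBijective (φ 1) (hbij 1 one_ne_zero)
  let mk : ↥Z → ↥Z → A := fun a b => (a : A) + (e.symm b : A)
  have hmk_inj : ∀ a b a' b', mk a b = mk a' b' → a = a' ∧ b = b' := by
    intro a b a' b' h
    have h1 : (a : A) - a' = (e.symm b' : A) - e.symm b := by
      simp only [mk] at h
      rw [sub_eq_sub_iff_add_eq_add, h, add_comm]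
    have h2 := hdisj _ (Z.sub_mem a.2 a'.2) (h1 ▸ Z'.sub_mem (e.symm b').2 (e.symm b).2)
    refine ⟨Subtype.ext (sub_eq_zero.1 h2), e.symm.injective (Subtype.ext ?_)⟩
    rw [h2, eq_comm, sub_eq_zero] at h1
    exact h1.symm
  have hmk_surj : ∀ a, ∃ z z', mk z z' = a := fun a => by
    obtain ⟨z, hz, z', hz', rfl⟩ := hA a
    exact ⟨⟨z, hz⟩, e ⟨z', hz'⟩, by simp [mk]⟩
  let f : F →+ AddMonoid.End ↥Z :=
    AddMonoidHom.mk' (fun x => (φ x).comp e.symm.toAddMonoidHom)
      (fun x y => AddMonoidHom.ext fun z => hφadd x y _)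
  let χ : F → (↥Z →+ ↥Z') := fun x =>
    { toFun := fun z => ⟨v x z - z, vA x z⟩
      map_zero' := Subtype.ext (by simp [v0])
      map_add' := fun a b => Subtype.ext (by simp [vmap]; abel) }
  have hχ : ∀ x (z : ↥Z), v x (z : A) = (z : A) + χ x z := fun x z => (add_sub_cancel _ _).symm
  let g : F →+ AddMonoid.End ↥Z :=
    AddMonoidHom.mk' (fun x => e.toAddMonoidHom.comp (χ x)) (fun x y => AddMonoidHom.ext fun z => by
      show e (χ (x + y) z) = e (χ x z) + e (χ y z)
      rw [← map_add]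
      congr 1
      refine Subtype.ext ?_
      show v (x + y) (z : A) - z = (χ x z : A) + (χ y z : A)
      rw [vadd, hχ y z, vmap, vZ x _ (χ y z).2, hχ x z]; abel)
  have f1 : f 1 = 1 := AddMonoidHom.ext fun z => by
    show φ 1 (e.symm z) = z
    exact e.apply_symm_apply z
  have hu : ∀ x a b, u x (mk a b) = mk (a + f x b) b := fun x a b => by
    show u x ((a : A) + e.symm b) = ((a + φ x (e.symm b) : ↥Z) : A) + e.symm b
    rw [umap, uZ x _ a.2, hφ, AddSubgroup.coe_add]; abel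
  have hv : ∀ x a b, v x (mk a b) = mk a (b + g x a) := fun x a b => by
    show v x ((a : A) + e.symm b) = (a : A) + e.symm (b + e (χ x a))
    rw [vmap, vZ x _ (e.symm b).2, hχ, map_add, e.symm_apply_apply, AddSubgroup.coe_add]; abel
  have hneg : ∀ (X : AddMonoid.End ↥Z) (z : ↥Z), (-X) z = -(X z) := fun _ _ => rfl
  have hadd : ∀ (X Y : AddMonoid.End ↥Z) (z : ↥Z), (X + Y) z = X z + Y z := fun _ _ _ => rfl
  have hsub : ∀ (X Y : AddMonoid.End ↥Z) (z : ↥Z), (X - Y) z = X z - Y z := fun _ _ _ => rfl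
  have hone : ∀ z : ↥Z, (1 : AddMonoid.End ↥Z) z = z := fun _ => rfl
  have hfg : ∀ x : F, x ≠ 0 → f x * g x⁻¹ = 1 := fun x hx => AddMonoidHom.ext fun z => by
    show f x (g x⁻¹ z) = z
    have h := braid x hx (mk z 0) (by simp [mk])
    rw [hu, map_zero, add_zero, hv, hu, zero_add, map_neg g, hneg, map_neg (f x)] at h
    have h2 := hdisj ((z + -(f x (g x⁻¹ z)) : ↥Z) : A) (SetLike.coe_mem _) (by
      have := Z'.sub_mem h (e.symm (-(g x⁻¹ z))).2
      simpa [mk] using this)
    have h3 : z + -(f x (g x⁻¹ z)) = 0 := Subtype.ext h2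
    exact (eq_of_sub_eq_zero (by rwa [sub_eq_add_neg])).symm
  have g1 : g 1 = 1 := by
    have := hfg 1 one_ne_zero
    rwa [inv_one, f1, one_mul] at this
  have hgf : ∀ x : F, x ≠ 0 → g x⁻¹ * f x = 1 := fun x hx => by
    have hb : Function.Bijective (f x) := (hbij x hx).comp e.symm.bijective
    refine AddMonoidHom.ext fun z => hb.1 ?_
    show f x (g x⁻¹ (f x z)) = f x z
    exact DFunLike.congr_fun (hfg x hx) (f x z)
  have happ : ∀ (X Y : AddMonoid.End ↥Z) (z : ↥Z), X * Y = 1 → X (Y z) = z := fun X Y z h =>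
    DFunLike.congr_fun h z
  have htor : ∀ x, x ≠ 0 → ∀ a b, tor u v x (mk a b) = mk (f x a) (g x⁻¹ b) := by
    intro x hx a b
    simp only [tor, hu, hv, map_neg, f1, g1, hneg, hone, map_add,
      happ _ _ _ (hgf x hx), happ _ _ _ (hfg x hx)]
    congr 1 <;> abel
  have hk : ∀ a b c : F, a ≠ 0 → b ≠ 0 →
      g (a * b)⁻¹ * f a * f b * f c = f c * (f (a * b) * g a⁻¹ * g b⁻¹) := by
    intro a b c ha hb
    refine AddMonoidHom.ext fun z => ?_
    obtain ⟨z₁, hz₁, h⟩ := torus a b c ha hb _ (e.symm z).2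
    have e0 : ∀ w : ↥Z, (e.symm w : A) = mk 0 w := fun w => by simp [mk]
    have e1 : z₁ = mk 0 (e ⟨z₁, hz₁⟩) := by simp [mk]
    rw [e0, e1, hu, hu, zero_add, zero_add, htor b hb, htor a ha, htor _ (mul_ne_zero ha hb)] at h
    obtain ⟨hl, hr⟩ := hmk_inj _ _ _ _ h
    set w := e ⟨z₁, hz₁⟩
    show g (a * b)⁻¹ (f a (f b (f c z))) = f c (f (a * b) (g a⁻¹ (g b⁻¹ z)))
    rw [hl, hr, happ _ _ _ (hgf _ (mul_ne_zero ha hb)), happ _ _ _ (hfg _ (mul_ne_zero ha hb))]
  have hne : ∀ c z, z ≠ 0 → f c z = 0 → c = 0 := by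
    intro c z hz h
    by_contra hc
    exact hz (by simpa [h] using (happ _ _ z (hgf c hc)).symm)
  have reg : ∀ z : ↥Z, z ≠ 0 → ∀ z', ∃ c, f c z = z' := by
    intro z hz
    refine ((Nat.bijective_iff_injective_and_card (fun c => f c z)).2 ⟨?_, hcard.symm⟩).2
    intro c c' h
    refine sub_eq_zero.1 (hne _ z hz ?_)
    rw [map_sub, hsub, sub_eq_zero]
    exact h
  have hmul := mul_hom f g f1 g1 hfg hgf reg hk
  obtain ⟨e₀, he₀⟩ : ∃ z : ↥Z, z ≠ 0 := by
    haveI : Nontrivial ↥Z := Finite.one_lt_card_iff_nontrivial.1 (hcard ▸ Finite.one_lt_card)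
    exact exists_ne _
  let L : (Fin 2 → F) →+ A :=
    AddMonoidHom.mk' (fun w => mk (f (w 0) e₀) (f (w 1) e₀)) (fun w w' => by
      simp only [Pi.add_apply, map_add, hadd, mk, AddSubgroup.coe_add]; abel)
  have hL : Function.Bijective L := by
    refine ⟨fun w w' h => ?_, fun a => ?_⟩
    · obtain ⟨h0, h1⟩ := hmk_inj _ _ _ _ h
      have key : ∀ c c', f c e₀ = f c' e₀ → c = c' := fun c c' hcc => sub_eq_zero.1 (hne _ _ he₀
        (by rw [map_sub, hsub, hcc, sub_self]))
      funext i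
      fin_cases i
      · exact key _ _ h0
      · exact key _ _ h1
    · obtain ⟨z, z', rfl⟩ := hmk_surj a
      obtain ⟨c, rfl⟩ := reg e₀ he₀ z
      obtain ⟨c', rfl⟩ := reg e₀ he₀ z'
      exact ⟨![c, c'], rfl⟩
  refine ⟨(AddEquiv.ofBijective L hL).symm, fun x a => ?_, fun x a => ?_⟩
  · obtain ⟨w, rfl⟩ := hL.2 a
    rw [AddEquiv.symm_apply_eq, show L w = AddEquiv.ofBijective L hL w from rfl, AddEquiv.symm_apply_apply]
    show u x (mk (f (w 0) e₀) (f (w 1) e₀)) = mk _ _
    rw [hu]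
    congr 1
    · rw [show ((uS x : Matrix (Fin 2) (Fin 2) F) *ᵥ w) 0 = w 0 + x * w 1 by
        simp [coe_uS, Matrix.mulVec, dotProduct, Fin.sum_univ_two], map_add, hmul]
      rfl
    · rw [show ((uS x : Matrix (Fin 2) (Fin 2) F) *ᵥ w) 1 = w 1 by
        simp [coe_uS, Matrix.mulVec, dotProduct, Fin.sum_univ_two]]
  · obtain ⟨w, rfl⟩ := hL.2 a
    rw [AddEquiv.symm_apply_eq, show L w = AddEquiv.ofBijective L hL w from rfl, AddEquiv.symm_apply_apply]
    show v x (mk (f (w 0) e₀) (f (w 1) e₀)) = mk _ _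
    rw [hv]
    congr 1
    · rw [show ((vS x : Matrix (Fin 2) (Fin 2) F) *ᵥ w) 0 = w 0 by
        simp [coe_vS, Matrix.mulVec, dotProduct, Fin.sum_univ_two]]
    · rw [show ((vS x : Matrix (Fin 2) (Fin 2) F) *ᵥ w) 1 = x * w 0 + w 1 by
        simp [coe_vS, Matrix.mulVec, dotProduct, Fin.sum_univ_two], map_add, hmul, hadd, add_comm]
      have hgfx : g x = f x := by
        rcases eq_or_ne x 0 with rfl | hx
        · simp
        · have h1 := hmul x x⁻¹
          rw [mul_inv_cancel₀ hx, f1] at h1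
          have h2 : g x * f x⁻¹ = 1 := by
            have := hgf x⁻¹ (inv_ne_zero hx)
            rwa [inv_inv] at this
          calc g x = g x * (f x⁻¹ * f x) := by rw [← hmul, inv_mul_cancel₀ hx, f1, mul_one]
            _ = f x := by rw [← mul_assoc, h2, one_mul]
      rw [hgfx]
      rfl

end Cfsg.Lib.BGN.P
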