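import Cfsg.Agent.Components.BGNP.Main
import Cfsg.Agent.Components.BGNP.Recog
import Cfsg.Agent.PushUp.Main

/-!
Pushing up for a rank-one quotient: the module generated by the central elements of the Sylow subgroup is natural
modulo the fixed points.
-/

set_option autoImplicit false
set_option linter.unusedSectionVars false
set_option linter.style.haveILetI false

namespace Cfsg.Lib.BGN.P

open Subgroup Matrix Cfsg.Lib.BGN Cfsg.Lib.Known.AutPSL2
open scoped commutatorElement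

universe u v

/-- a section which is the natural module for `ρ` -/
def Nat' {G : Type u} [Group G] {F : Type v} [Field F]
    (ρ : G →* Matrix.SpecialLinearGroup (Fin 2) F) (U W : Subgroup G) : Prop :=
  ∃ l : G → (Fin 2 → F), (∀ a ∈ U, ∀ b ∈ U, l (a * b) = l a + l b) ∧ (∀ w, ∃ a ∈ U, l a = w) ∧
    (∀ a ∈ U, l a = 0 ↔ a ∈ W) ∧
    ∀ g, ∀ a ∈ U, l (g * a * g⁻¹) = (ρ g : Matrix (Fin 2) (Fin 2) F) *ᵥ l a

variable {p : ℕ} [hp : Fact p.Prime] {G : Type u} [Group G] [Finite G]

section Matrices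

variable {F : Type v} [Field F]

/-- the element exchanging the axes -/
def wS (x : F) : Matrix.SpecialLinearGroup (Fin 2) F := uS x * vS (-x⁻¹) * uS x

/-- the torus element -/
def tS (x : F) : Matrix.SpecialLinearGroup (Fin 2) F := wS x * (uS (-1) * vS 1 * uS (-1))

theorem coe_wS {x : F} (hx : x ≠ 0) : (wS x : Matrix (Fin 2) (Fin 2) F) = !![0, x; -x⁻¹, 0] := by
  simp only [wS, cmul, coe_uS, coe_vS]
  ext i j; fin_cases i <;> fin_cases j <;> simp [Matrix.mul_apply, Fin.sum_univ_two, hx]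

theorem coe_tS {x : F} (hx : x ≠ 0) : (tS x : Matrix (Fin 2) (Fin 2) F) = !![x, 0; 0, x⁻¹] := by
  simp only [tS, cmul, coe_wS hx, coe_uS, coe_vS]
  ext i j; fin_cases i <;> fin_cases j <;> simp [Matrix.mul_apply, Fin.sum_univ_two]

theorem tS_mul {a b : F} (ha : a ≠ 0) (hb : b ≠ 0) : tS a * tS b = tS (a * b) := by
  refine sl_ext ?_
  rw [cmul, coe_tS ha, coe_tS hb, coe_tS (mul_ne_zero ha hb)]
  ext i j; fin_cases i <;> fin_cases j <;> simp [Matrix.mul_apply, Fin.sum_univ_two, mul_comm]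

theorem wS_mul_uS {x : F} (hx : x ≠ 0) (y : F) : wS x * uS y = vS (-(y * x⁻¹ * x⁻¹)) * wS x := by
  refine sl_ext ?_
  rw [cmul, cmul, coe_wS hx, coe_uS, coe_vS]
  ext i j; fin_cases i <;> fin_cases j <;>
    simp [Matrix.mul_apply, Fin.sum_univ_two, mul_assoc, hx, mul_comm]

theorem wS_conj [Fintype F] {x : F} (hx : x ≠ 0) :
    cj (π (wS x)) (u (F := F)).range = (v (F := F)).range := by
  have key : ∀ y : F, π (wS x) * π (uS y) * (π (wS x))⁻¹ = π (vS (-(y * x⁻¹ * x⁻¹))) := fun y => by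
    rw [← map_mul, wS_mul_uS hx, map_mul, mul_inv_cancel_right]
  ext z
  constructor
  · rintro ⟨_, ⟨y, rfl⟩, rfl⟩
    exact ⟨Multiplicative.ofAdd _, (key y.toAdd).symm⟩
  · rintro ⟨y, rfl⟩
    refine ⟨_, ⟨Multiplicative.ofAdd (-(y.toAdd * x * x)), rfl⟩, ?_⟩
    show π (wS x) * π (uS (-(y.toAdd * x * x))) * (π (wS x))⁻¹ = π (vS y.toAdd)
    rw [key]
    congr 2
    field_simp

end Matrices

namespace Sit

variable {F : Type v} [Field F] [Fintype F] (d : Sit p G F)

include d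

/-- the fixed points of the group -/
abbrev C : Subgroup G := d.W ⊓ center G

theorem C_le : d.C ≤ d.Z := fun _ hz =>
  ⟨hz.1, mem_centralizer_iff.2 fun s _ => mem_center_iff.1 hz.2 s⟩

theorem C_normal : d.C.Normal := Cfsg.Lib.PushUp.normal_of_le_center inf_le_right

theorem C_cj (x : G) : cj x d.C = d.C :=
  haveI := d.C_normal
  cj_eq_of_mem ((normalizer_eq_top (H := d.C)).ge (mem_top x))

theorem W_cj (x : G) : cj x d.W = d.W :=
  haveI := d.W_normal
  cj_eq_of_mem ((normalizer_eq_top (H := d.W)).ge (mem_top x))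

theorem Z_inter {x : G} (hx : d.Far x) : d.Z ⊓ cj x d.Z ≤ d.C := by
  intro w hw
  refine ⟨hw.1.1, mem_center_iff.2 fun g => ?_⟩
  have h2 : cj x d.S ≤ centralizer ({w} : Set G) := by
    rintro _ ⟨s, hs, rfl⟩
    rw [mem_centralizer_singleton_iff]
    change x * s * x⁻¹ * w = w * (x * s * x⁻¹)
    have e := mem_centralizer_iff.1 (mem_cj.1 hw.2).2 s hs
    calc x * s * x⁻¹ * w = x * (s * (x⁻¹ * w * x)) * x⁻¹ := by group
      _ = x * ((x⁻¹ * w * x) * s) * x⁻¹ := by rw [e]
      _ = _ := by group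
  have h1 : d.S ≤ centralizer ({w} : Set G) := fun s hs =>
    mem_centralizer_singleton_iff.2 (mem_centralizer_iff.1 hw.1.2 s hs)
  exact mem_centralizer_singleton_iff.1 (sup_le h1 h2 (hx.ge (mem_top g)))

/-- elements of `p'`-order fixing modulo the fixed points act trivially -/
theorem not_le_central : ¬ (centralizer (d.W.map (QuotientGroup.mk' (center G)) : Set (G ⧸ center G))).comap
    (QuotientGroup.mk' (center G)) = ⊤ := by
  intro h
  refine d.not_comm_central (commutator_le.2 fun w hw s _ => ?_)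
  have h1 := mem_centralizer_iff.1 (mem_comap.1 (h.ge (mem_top s))) _
    (mem_map_of_mem (QuotientGroup.mk' (center G)) hw)
  rw [← commutatorElement_eq_one_iff_mul_comm, ← map_commutatorElement] at h1
  exact (QuotientGroup.eq_one_iff _).1 h1

theorem card_Z : Nat.card d.Z = p ^ d.c.n * Nat.card d.C := by
  obtain ⟨A, hA⟩ := d.exists_case
  haveI := d.W_normal
  haveI := d.C_normal
  obtain ⟨y, hy⟩ := d.exists_far
  have hW := d.card_W
  have hlow : (p ^ d.c.n) ^ 2 * Nat.card d.C ≤ Nat.card d.W := by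
    obtain ⟨a, ha, haQ⟩ := SetLike.not_le_iff_exists.1 (show ¬ d.S ≤ Cfsg.pCore p G from fun h => by
      have := card_le_of_le h
      rw [d.card_S] at this
      exact absurd this (not_le.2 (lt_mul_of_one_lt_left Nat.card_pos d.one_lt_q)))
    refine d.c.quot_bound d.W d.C hA.W_elem d.W_le_S inf_le_left ?_ ?_ ha haQ
    · exact (inf_le_left.trans d.W_le_S).trans (le_sup_left.trans d.sup_ker_le)
    · set K := (centralizer (d.W.map (QuotientGroup.mk' d.C) : Set (G ⧸ d.C))).comap (QuotientGroup.mk' d.C)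
      haveI : (d.W.map (QuotientGroup.mk' d.C)).Normal :=
        (inferInstance : d.W.Normal).map _ (QuotientGroup.mk'_surjective _)
      haveI : K.Normal := inferInstanceAs (Subgroup.comap _ _).Normal
      haveI : (centralizer (d.W : Set G)).Normal := inferInstance
      by_contra hK
      have hcop : ∀ g : G, (orderOf g).Coprime p → g ∈ centralizer (d.W : Set G) := fun g hg => by
        refine mem_centralizer_iff.2 fun w hw => ?_
        have h1 := mem_centralizer_iff.1 (mem_comap.1 (d.c.mem_of_coprime hK hg)) _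
          (mem_map_of_mem (QuotientGroup.mk' d.C) hw)
        rw [← commutatorElement_eq_one_iff_mul_comm, ← map_commutatorElement] at h1
        have hc : ⁅g, w⁆ ∈ center G := by
          have h2 : ⁅w, g⁆ ∈ center G := ((QuotientGroup.eq_one_iff _).1 h1 : ⁅w, g⁆ ∈ d.C).2
          have := inv_mem h2
          rwa [commutatorElement_inv] at this
        have hcp : ⁅g, w⁆ ^ p = 1 := by
          rw [← commutatorElement_inv, inv_pow, d.W_pow (d.comm_W hw g), inv_one]
        exact (P.commute_of_central hg hcp hc).symm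
      refine d.c.hMne (top_le_iff.1 ?_)
      rw [← Cfsg.Lib.PushUp.sup_sylow_eq_top _ d.c.S hcop]
      exact sup_le hA.W_cent (le_sup_left.trans d.sup_ker_le)
  have hup : Nat.card d.Z * Nat.card d.Z ≤ Nat.card d.W * Nat.card d.C := by
    calc Nat.card d.Z * Nat.card d.Z = Nat.card d.Z * Nat.card (cj y d.Z) := by rw [card_cj]
      _ ≤ _ := card_mul_le_sup _ _
      _ ≤ _ := by
        refine Nat.mul_le_mul (Nat.card_mono (Set.toFinite _) (SetLike.coe_subset_coe.2 (sup_le inf_le_left ?_)))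
          (Nat.card_mono (Set.toFinite _) (SetLike.coe_subset_coe.2 (d.Z_inter hy)))
        exact (cj_mono y inf_le_left).trans (d.W_cj y).le
  rw [hW] at hlow hup
  have hq : 0 < p ^ d.c.n := pow_pos hp.out.pos _
  refine le_antisymm ?_ ?_
  · have h : Nat.card d.Z * Nat.card d.Z ≤ p ^ d.c.n * Nat.card d.C * Nat.card d.Z := hup.trans (le_of_eq (by ring))
    exact Nat.le_of_mul_le_mul_right h Nat.card_pos
  · have h : p ^ d.c.n * (p ^ d.c.n * Nat.card d.C) ≤ p ^ d.c.n * Nat.card d.Z := (le_of_eq (by ring)).trans hlow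
    exact Nat.le_of_mul_le_mul_left h hq

/-- a section with a subgroup whose far conjugates meet trivially -/
structure Sect (W C Z : Subgroup G) : Prop where
  nW : W.Normal
  nC : C.Normal
  hCZ : C ≤ Z
  hZW : Z ≤ W
  hinter : ∀ x, d.Far x → Z ⊓ cj x Z ≤ C
  card_W : Nat.card W = p ^ d.c.n * Nat.card Z
  card_Z : Nat.card Z = p ^ d.c.n * Nat.card C

/-- the lines cover -/
theorem sect_cover {W C Z : Subgroup G} (hl : d.Sect W C Z) {y : G} (hy : d.Far y) {u : G} (hu : u ∈ W) :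
    u ∈ Z ∨ ∃ a ∈ d.S, u ∈ cj (a * y) Z := by
  classical
  haveI := hl.nW
  have hWcj : ∀ g, cj g W = W := fun g => cj_eq_of_mem ((normalizer_eq_top (H := W)).ge (mem_top g))
  have hCcj : ∀ g, cj g C = C := fun g =>
    haveI := hl.nC
    cj_eq_of_mem ((normalizer_eq_top (H := C)).ge (mem_top g))
  by_cases huC : u ∈ C
  · exact Or.inl (hl.hCZ huC)
  set N := (Cfsg.pCore p G).subgroupOf d.S
  let rep : Option (↥d.S ⧸ N) → G := fun o => match o with
    | none => 1
    | some a => (a.out : G) * y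
  have hrep : ∀ i j, i ≠ j → d.im (rep i) ≠ d.im (rep j) := by
    have h0 : ∀ a : ↥d.S ⧸ N, d.im ((a.out : G) * y) ≠ d.im 1 := by
      intro a h
      apply d.far_iff.1 hy
      have h1 : d.im (a.out : G) = d.im 1 := by
        rw [im, im, cj_one, cj_eq_of_mem (le_normalizer a.out.2)]
      rw [← h1, d.im_conj, ← mul_one (a.out : G), d.im_conj, mul_one] at h
      exact map_injective (MulAut.conj (d.c.ψ (a.out : G))).injective h
    rintro (_ | a) (_ | b) hij
    · exact absurd rfl hij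
    · exact fun h => h0 b h.symm
    · exact fun h => h0 a h
    · intro h
      apply hij
      congr 1
      rw [← a.out_eq', ← b.out_eq', QuotientGroup.eq, mem_subgroupOf]
      refine d.mem_core_of_fix (mul_mem (inv_mem a.out.2) b.out.2) hy ?_
      change d.im ((a.out : G)⁻¹ * (b.out : G) * y) = d.im y
      rw [mul_assoc, d.im_conj]
      change cj (d.c.ψ (a.out : G)⁻¹) (d.im (rep (some b))) = d.im y
      rw [← h, ← d.im_conj, show (a.out : G)⁻¹ * rep (some a) = y from inv_mul_cancel_left _ _]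
  let Φ : Option (↥d.S ⧸ N) × {z : G // z ∈ (Z : Set G) \ (C : Set G)} →
      {w : G // w ∈ (W : Set G) \ (C : Set G)} := fun p =>
    ⟨rep p.1 * p.2.1 * (rep p.1)⁻¹, Normal.conj_mem inferInstance _ (hl.hZW p.2.2.1) _, fun h => p.2.2.2 (by
      have := (hCcj (rep p.1)⁻¹).le (conj_mem_cj (g := (rep p.1)⁻¹) h)
      simpa [mul_assoc] using this)⟩
  have hinj : Function.Injective Φ := by
    rintro ⟨i, z, hz⟩ ⟨j, w, hw⟩ h
    replace h : rep i * z * (rep i)⁻¹ = rep j * w * (rep j)⁻¹ := congrArg Subtype.val h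
    by_cases hij : i = j
    · subst hij
      have h' := mul_left_cancel (mul_right_cancel h)
      subst h'; rfl
    · refine absurd (hl.hinter ((rep i)⁻¹ * rep j) (d.far_iff'.2 (hrep i j hij)) ⟨hz.1, ?_⟩) hz.2
      refine mem_cj.2 ?_
      have e : ((rep i)⁻¹ * rep j)⁻¹ * z * ((rep i)⁻¹ * rep j) = w := by
        calc _ = (rep j)⁻¹ * (rep i * z * (rep i)⁻¹) * rep j := by group
          _ = w := by rw [h]; group
      rw [e]; exact hw.1
  have hcard : Nat.card {w : G // w ∈ (W : Set G) \ (C : Set G)} ≤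
      Nat.card (Option (↥d.S ⧸ N) × {z : G // z ∈ (Z : Set G) \ (C : Set G)}) := by
    rw [Nat.card_prod, Finite.card_option, Nat.card_coe_set_eq, Nat.card_coe_set_eq,
      Set.ncard_diff (show (C : Set G) ⊆ W from fun _ h => hl.hZW (hl.hCZ h)),
      Set.ncard_diff (show (C : Set G) ⊆ Z from hl.hCZ), ← Nat.card_coe_set_eq, ← Nat.card_coe_set_eq,
      ← Nat.card_coe_set_eq]
    have h2 : Nat.card (↥d.S ⧸ N) = p ^ d.c.n := by
      rw [← index_eq_card]
      refine Nat.eq_of_mul_eq_mul_right (Nat.card_pos (α := ↥(Cfsg.pCore p G))) ?_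
      rw [← d.card_S, ← Nat.card_congr (subgroupOfEquivOfLe d.c.core_le).toEquiv]
      exact index_mul_card N
    rw [h2]
    simp only [SetLike.coe_sort_coe]
    rw [hl.card_W, hl.card_Z]
    have hq : 1 ≤ p ^ d.c.n := d.one_lt_q.le
    rw [Nat.add_mul, one_mul, Nat.mul_sub]
    generalize Nat.card ↥C = c at hq ⊢
    have h1 : c ≤ p ^ d.c.n * c := Nat.le_mul_of_pos_left c hq
    have h2 : p ^ d.c.n * c ≤ p ^ d.c.n * (p ^ d.c.n * c) := Nat.le_mul_of_pos_left _ hq
    generalize p ^ d.c.n * (p ^ d.c.n * c) = b at h2 ⊢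
    generalize p ^ d.c.n * c = a at h1 h2 ⊢
    omega
  have hsurj := ((Nat.bijective_iff_injective_and_card Φ).2 ⟨hinj,
    le_antisymm (Nat.card_le_card_of_injective Φ hinj) hcard⟩).2
  obtain ⟨⟨i, z, hz⟩, hp⟩ := hsurj ⟨u, hu, huC⟩
  have e : rep i * z * (rep i)⁻¹ = u := congrArg Subtype.val hp
  rcases i with _ | a
  · left
    rw [show u = z from e.symm.trans (by simp [rep])]
    exact hz.1
  · right
    exact ⟨a.out, a.out.2, e ▸ conj_mem_cj hz.1⟩

theorem sect_fix {W C Z : Subgroup G} (hl : d.Sect W C Z) {x : G} (hx : ¬ d.Far x) : cj x Z = Z := by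
  refine Subgroup.eq_of_le_of_card_ge (fun w hw => ?_) (card_cj _ _).ge
  haveI := hl.nW
  have hWcj : ∀ g, cj g W = W := fun g => cj_eq_of_mem ((normalizer_eq_top (H := W)).ge (mem_top g))
  have hCcj : ∀ g, cj g C = C := fun g =>
    haveI := hl.nC
    cj_eq_of_mem ((normalizer_eq_top (H := C)).ge (mem_top g))
  obtain ⟨y, hy⟩ := d.exists_far
  have hwW : w ∈ W := (hWcj x).le (cj_mono x hl.hZW hw)
  rcases d.sect_cover hl hy hwW with h | ⟨a, ha, h⟩
  · exact h
  have hfar : d.Far (x⁻¹ * (a * y)) := d.far_iff'.2 fun he => by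
    rw [not_not.1 (fun h' => hx (d.far_iff.2 h'))] at he
    apply d.far_iff.1 hy
    have h1 : d.im a = d.im 1 := by rw [im, im, cj_one, cj_eq_of_mem (le_normalizer ha)]
    rw [← h1, d.im_conj, ← mul_one a, d.im_conj, mul_one] at he
    exact (map_injective (MulAut.conj (d.c.ψ a)).injective he).symm
  have h1 := hl.hinter (x⁻¹ * (a * y)) hfar ⟨mem_cj.1 hw, mem_cj.2 (by
    have := mem_cj.1 h
    convert this using 1
    group)⟩
  have h2 := (hCcj x).le (conj_mem_cj (g := x) h1)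
  exact hl.hCZ (by simpa [mul_assoc] using h2)

theorem sect_line {W C Z : Subgroup G} (hl : d.Sect W C Z) {a b : G} (h : d.im a = d.im b) : cj a Z = cj b Z := by
  have := d.sect_fix hl (x := a⁻¹ * b) fun hf => d.far_iff'.1 hf h
  conv_lhs => rw [← this, ← cj_mul, mul_inv_cancel_left]

theorem sect_reg {W C Z : Subgroup G} (hl : d.Sect W C Z) {u a : G} (hu : u ∈ W) (huZ : u ∉ Z) (ha : a ∈ d.S)
    (hc : ⁅u, a⁆ ∈ C) : a ∈ Cfsg.pCore p G := by
  haveI := hl.nW
  have hWcj : ∀ g, cj g W = W := fun g => cj_eq_of_mem ((normalizer_eq_top (H := W)).ge (mem_top g))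
  have hCcj : ∀ g, cj g C = C := fun g =>
    haveI := hl.nC
    cj_eq_of_mem ((normalizer_eq_top (H := C)).ge (mem_top g))
  obtain ⟨y, hy⟩ := d.exists_far
  rcases d.sect_cover hl hy hu with h | ⟨b, hb, h⟩
  · exact absurd h huZ
  set x := b * y with hxdef
  have hx : d.Far x := d.far_iff.2 fun he => by
    apply d.far_iff.1 hy
    have h1 : d.im b = d.im 1 := by rw [im, im, cj_one, cj_eq_of_mem (le_normalizer hb)]
    rw [← h1, d.im_conj, ← mul_one b, d.im_conj, mul_one] at he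
    exact map_injective (MulAut.conj (d.c.ψ b)).injective he
  refine d.mem_core_of_fix ha hx (by_contra fun hne => huZ ?_)
  have hf : d.Far (x⁻¹ * (a * x)) := d.far_iff'.2 (Ne.symm hne)
  have hcC : ⁅u, a⁆⁻¹ ∈ C := inv_mem hc
  have h1 : x⁻¹ * (a * u * a⁻¹) * x ∈ Z := by
    rw [show x⁻¹ * (a * u * a⁻¹) * x = (x⁻¹ * ⁅u, a⁆⁻¹ * x) * (x⁻¹ * u * x) by
      simp only [commutatorElement_def]; group]
    exact mul_mem (hl.hCZ (mem_cj.1 ((hCcj x).ge hcC))) (mem_cj.1 h)
  have h2 : x⁻¹ * (a * u * a⁻¹) * x ∈ cj (x⁻¹ * (a * x)) Z := by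
    rw [mem_cj]
    convert mem_cj.1 h using 1
    group
  have h3 := (hCcj (a⁻¹ * x)).le (conj_mem_cj (g := a⁻¹ * x) ((hl.hinter _) hf ⟨h1, h2⟩))
  exact hl.hCZ (by simpa [mul_assoc] using h3 : u ∈ C)

theorem sect_W : d.Sect d.W d.C d.Z :=
  ⟨d.W_normal, d.C_normal, d.C_le, inf_le_left, fun _ h => d.Z_inter h, d.card_W, d.card_Z⟩

theorem cover {y : G} (hy : d.Far y) {u : G} (hu : u ∈ d.W) : u ∈ d.Z ∨ ∃ a ∈ d.S, u ∈ cj (a * y) d.Z :=
  d.sect_cover d.sect_W hy hu

theorem mem_core_of_central {u a : G} (hu : u ∈ d.W) (huZ : u ∉ centralizer (d.S : Set G)) (ha : a ∈ d.S)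
    (hc : ⁅u, a⁆ ∈ center G) : a ∈ Cfsg.pCore p G :=
  d.sect_reg d.sect_W hu (fun h => huZ h.2) ha ⟨d.comm_W hu a, hc⟩

/-- irreducibility -/
theorem irred {K : Subgroup G} [K.Normal] (hKW : K ≤ d.W) (hne : ¬ K ≤ center G) : K ⊔ d.C = d.W := by
  haveI := d.C_normal
  set M := K ⊔ d.C with hM
  haveI : M.Normal := inferInstance
  have hMW : M ≤ d.W := sup_le hKW inf_le_left
  refine le_antisymm hMW ?_
  obtain ⟨y, hy⟩ := d.exists_far
  obtain ⟨v, hvM, hvZ⟩ : ∃ v ∈ M, v ∉ centralizer (d.S : Set G) := by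
    by_contra h
    push Not at h
    refine hne fun u hu => (d.Z_inter hy ⟨⟨hKW hu, h u (mem_sup_left hu)⟩, mem_cj.2 ?_⟩).2
    have hv : y⁻¹ * u * y ∈ M := by simpa using Normal.conj_mem (inferInstance : M.Normal) u (mem_sup_left hu) y⁻¹
    exact ⟨hMW hv, h _ hv⟩
  have hv := hMW hvM
  have hcomm : ∀ a ∈ d.S, ⁅v, a⁆ ∈ d.Z ⊓ M := fun a ha => by
    refine ⟨⟨d.comm_W hv a, d.comm_le (commutator_mem_commutator hv ha)⟩, ?_⟩
    rw [commutatorElement_def, mul_assoc, mul_assoc]
    exact mul_mem hvM (by simpa [mul_assoc] using Normal.conj_mem (inferInstance : M.Normal) _ (inv_mem hvM) a)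
  let f : ↥d.S →* G ⧸ d.C :=
    { toFun := fun a => QuotientGroup.mk ⁅v, (a : G)⁆
      map_one' := by simp
      map_mul' := fun a b => by
        rw [← QuotientGroup.mk_mul]
        congr 1
        rw [Subgroup.coe_mul, d.comm_mul_right, d.Z_fix (hcomm b b.2).1 a.2] }
  have hker : f.ker.map d.S.subtype ≤ Cfsg.pCore p G := by
    rintro _ ⟨a, ha, rfl⟩
    exact d.mem_core_of_central hv hvZ a.2 ((QuotientGroup.eq_one_iff _).1 ha : ⁅v, (a : G)⁆ ∈ d.C).2
  have hle : f.range ≤ (d.Z ⊓ M).map (QuotientGroup.mk' d.C) := by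
    rintro _ ⟨a, rfl⟩
    exact mem_map_of_mem _ (hcomm a a.2)
  have h1 : p ^ d.c.n ≤ Nat.card f.range := by
    refine Nat.le_of_mul_le_mul_right (c := Nat.card f.ker) ?_ Nat.card_pos
    rw [← index_ker f, index_mul_card, d.card_S]
    refine Nat.mul_le_mul_left _ ?_
    rw [← card_map_of_injective d.S.subtype_injective]
    exact Nat.card_mono (Set.toFinite _) hker
  have h2 : Nat.card d.Z ≤ Nat.card ↥(d.Z ⊓ M) := by
    rw [d.card_Z, Cfsg.Lib.FF.card_eq_map_mul (QuotientGroup.mk' d.C) (d.Z ⊓ M), QuotientGroup.ker_mk',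
      inf_eq_right.2 (le_inf d.C_le le_sup_right)]
    exact Nat.mul_le_mul_right _ (h1.trans (Nat.card_mono (Set.toFinite _) hle))
  have hZM : d.Z ≤ M := inf_eq_left.1 (Subgroup.eq_of_le_of_card_ge inf_le_left h2)
  intro w hw
  have hcj : ∀ x : G, cj x d.Z ≤ M := fun x =>
    (cj_mono x hZM).trans (cj_eq_of_mem ((normalizer_eq_top (H := M)).ge (mem_top x))).le
  rcases d.cover hy hw with h | ⟨a, -, h⟩
  · exact hZM h
  · exact hcj _ h

/-- coordinates on the quotient adapted to `S` -/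
structure Frame where
  f : G →* Matrix.ProjectiveSpecialLinearGroup (Fin 2) F
  w₀ : G
  surj : Function.Surjective f
  ker : ∀ g, f g = 1 ↔ d.c.ψ g = 1
  hS : d.S.map f = (u (F := F)).range
  hw : cj (f w₀) (u (F := F)).range = (v (F := F)).range
  im_eq : ∀ a b, cj (f a) (u (F := F)).range = cj (f b) (u (F := F)).range → d.im a = d.im b
  far : d.Far w₀

theorem exists_frame : Nonempty d.Frame := by
  haveI := d.fin
  obtain ⟨R, hR⟩ := d.exists_im 1
  obtain ⟨g₀, hg₀⟩ := exists_conj_eq d.c.hn d.c.hF R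
  set U := (u (F := F)).range
  set ψ' : G →* Matrix.ProjectiveSpecialLinearGroup (Fin 2) F :=
    (MulAut.conj g₀⁻¹).toMonoidHom.comp d.c.ψ with hψ'
  have hψs : Function.Surjective ψ' := (MulAut.conj g₀⁻¹).surjective.comp d.c.hψ
  have hψker : ∀ g, ψ' g = 1 ↔ d.c.ψ g = 1 := fun g => map_eq_one_iff _ (MulAut.conj g₀⁻¹).injective
  have himU : d.im 1 = cj g₀ U := hR.trans hg₀
  have hSU : d.S.map ψ' = U := by
    have h := congrArg (cj g₀⁻¹) himU
    rw [cj_inv_left, im, cj_one, cj, Subgroup.map_map] at h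
    exact h
  have himg : ∀ g, d.im g = cj g₀ (cj (ψ' g) U) := fun g => by
    conv_lhs => rw [← mul_one g, d.im_conj, himU]
    rw [← cj_mul, ← cj_mul]
    congr 1
    show _ = g₀ * (g₀⁻¹ * d.c.ψ g * g₀⁻¹⁻¹)
    group
  obtain ⟨w₀, hw₀⟩ := hψs (π (wS 1))
  have hw₀U : cj (ψ' w₀) U = (v (F := F)).range := by rw [hw₀, wS_conj one_ne_zero]
  have hfar : d.Far w₀ := d.far_iff.2 fun h => by
    rw [himg, himg, map_one, cj_one, hw₀U] at h
    have h' := map_injective (MulAut.conj g₀).injective h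
    obtain ⟨x, hx⟩ := h'.le (⟨Multiplicative.ofAdd 1, rfl⟩ : π (vS (1 : F)) ∈ (v (F := F)).range)
    obtain ⟨c, -, hc⟩ := π_eq (show π (uS x.toAdd) = π (vS 1) from hx)
    have := congrFun (congrFun hc 1) 0
    simp [coe_uS, coe_vS] at this
  exact ⟨⟨ψ', w₀, hψs, hψker, hSU, hw₀U, fun a b h => by rw [himg, himg, h], hfar⟩⟩

/-- a section with a line for every conjugate of `S` -/
structure Lines (W C Z : Subgroup G) : Prop extends d.Sect W C Z where
  hab : ∀ a ∈ W, ∀ b ∈ W, ⁅a, b⁆ ∈ C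
  hQ : ∀ w ∈ W, ∀ g ∈ Cfsg.pCore p G, ⁅w, g⁆ ∈ C
  hfix : ∀ z ∈ Z, ∀ s ∈ d.S, ⁅z, s⁆ ∈ C
  hmove : ∀ w ∈ W, ∀ s ∈ d.S, ⁅w, s⁆ ∈ Z

/-- a homomorphism sends the two root groups to the standard ones -/
def Follows (fr : d.Frame) (ρ : G →* Matrix.SpecialLinearGroup (Fin 2) F) : Prop :=
  (∀ x, ∀ s ∈ d.S, fr.f s = π (uS x) → ρ s = uS x) ∧
    ∀ x, ∀ s ∈ cj fr.w₀ d.S, fr.f s = π (vS x) → ρ s = vS x

omit hp in
theorem comm_conj (g a b : G) : g * ⁅a, b⁆ * g⁻¹ = ⁅g * a * g⁻¹, g * b * g⁻¹⁆ := by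
  simp only [commutatorElement_def]; group

/-- a section with lines is a natural module -/
theorem natural_of_lines (fr : d.Frame) {W C Z : Subgroup G} (hl : d.Lines W C Z) :
    ∃ ρ : G →* Matrix.SpecialLinearGroup (Fin 2) F, Function.Surjective ρ ∧ Nat' ρ W C ∧ d.Follows fr ρ := by
  classical
  haveI := d.fin
  haveI hWn := hl.nW
  haveI := hl.nC
  set U := (u (F := F)).range
  set ψ' := fr.f with hψ'def
  have hψker := fr.ker
  have hSU := fr.hS
  set w₀ := fr.w₀ with hw₀def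
  have hw₀U := fr.hw
  have hfar := fr.far
  have hWcj : ∀ g, cj g W = W := fun g => cj_eq_of_mem ((normalizer_eq_top (H := W)).ge (mem_top g))
  have hCcj : ∀ g, cj g C = C := fun g => cj_eq_of_mem ((normalizer_eq_top (H := C)).ge (mem_top g))
  have hline : ∀ a b, cj (ψ' a) U = cj (ψ' b) U → cj a Z = cj b Z := fun a b h =>
    d.sect_line hl.toSect (fr.im_eq a b h)
  have hsu : ∀ x : F, ∃ s ∈ d.S, ψ' s = π (uS x) := fun x => by
    obtain ⟨s, hs, he⟩ := hSU.ge (⟨Multiplicative.ofAdd x, rfl⟩ : π (uS x) ∈ U)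
    exact ⟨s, hs, he⟩
  choose su hsuS hsuψ using hsu
  have htv : ∀ x : F, ∃ s ∈ cj w₀ d.S, ψ' s = π (vS x) := fun x => by
    obtain ⟨z, hz, he⟩ := hw₀U.ge (⟨Multiplicative.ofAdd x, rfl⟩ : π (vS x) ∈ (v (F := F)).range)
    obtain ⟨s, hs, rfl⟩ := hSU.ge hz
    exact ⟨w₀ * s * w₀⁻¹, conj_mem_cj hs, by rw [← he, map_mul, map_mul, map_inv]; rfl⟩
  choose tv htvS htvψ using htv
  -- the module
  set q := QuotientGroup.mk' C
  set B := W.map q with hB
  haveI hBn : B.Normal := (inferInstance : W.Normal).map _ (QuotientGroup.mk'_surjective _)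
  letI : CommGroup ↥B :=
    { (inferInstance : Group ↥B) with
      mul_comm := by
        rintro ⟨_, a, ha, rfl⟩ ⟨_, b, hb, rfl⟩
        exact Subtype.ext (by show q a * q b = q b * q a; rw [← commutatorElement_eq_one_iff_mul_comm, ← map_commutatorElement]; exact (QuotientGroup.eq_one_iff _).2 (hl.hab a ha b hb)) }
  let act : G →* MulAut ↥B := (MulAut.conjNormal (H := B)).comp q
  let mkB : ∀ w ∈ W, ↥B := fun w hw => ⟨q w, mem_map_of_mem q hw⟩
  have hact : ∀ g w (hw : w ∈ W), act g (mkB w hw) = mkB (g * w * g⁻¹) (Normal.conj_mem inferInstance w hw g) :=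
    fun g w hw => Subtype.ext (by simp [act, mkB])
  have hsurjB : ∀ b : ↥B, ∃ w, ∃ hw : w ∈ W, mkB w hw = b := fun ⟨_, w, hw, e⟩ => ⟨w, hw, Subtype.ext e⟩
  have hmkeq : ∀ a (ha : a ∈ W) b (hb : b ∈ W), mkB a ha = mkB b hb ↔ a⁻¹ * b ∈ C := fun a ha b hb =>
    ⟨fun h => QuotientGroup.eq.1 (congrArg Subtype.val h), fun h => Subtype.ext (QuotientGroup.eq.2 h)⟩
  have hQact : ∀ g ∈ Cfsg.pCore p G, ∀ b, act g b = b := fun g hg b => by
    obtain ⟨w, hw, rfl⟩ := hsurjB b
    rw [hact _ _ hw, hmkeq _ (Normal.conj_mem inferInstance _ hw _) _ hw]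
    have h := (hCcj w⁻¹).le (conj_mem_cj (g := w⁻¹) (hl.hQ w hw g hg))
    simpa [commutatorElement_def, mul_assoc] using h
  have hlift : ∀ x, ∀ s ∈ cj x d.S, ∀ s' ∈ cj x d.S, ψ' s = ψ' s' → ∀ b, act s b = act s' b := by
    intro x s hs s' hs' h b
    have h1 : s⁻¹ * s' ∈ Cfsg.pCore p G :=
      d.inf_ker x ⟨(cj x d.S).mul_mem ((cj x d.S).inv_mem hs) hs', MonoidHom.mem_ker.2 ((hψker _).1 (by
        rw [map_mul, map_inv, h, inv_mul_cancel]))⟩
    conv_rhs => rw [show s' = s * (s⁻¹ * s') by group, map_mul, MulAut.mul_apply, hQact _ h1]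
  let line : G → AddSubgroup (Additive ↥B) := fun g =>
    (((cj g Z).map q).subgroupOf B).toAddSubgroup
  have hmem : ∀ g (w : G) (hw : w ∈ W), Additive.ofMul (mkB w hw) ∈ line g ↔ w ∈ cj g Z := by
    intro g w hw
    show q w ∈ (cj g Z).map q ↔ _
    refine ⟨?_, mem_map_of_mem q⟩
    rintro ⟨z, hz, e⟩
    have : z⁻¹ * w ∈ cj g C := (hCcj g).ge (QuotientGroup.eq.1 e)
    have := mul_mem hz (cj_mono g hl.hCZ this)
    rwa [mul_inv_cancel_left] at this
  have hcardl : ∀ g, Nat.card (line g) = Nat.card F := by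
    intro g
    show Nat.card ↥(((cj g Z).map q).subgroupOf B) = _
    rw [Nat.card_congr (subgroupOfEquivOfLe (map_mono ((cj_mono g hl.hZW).trans (hWcj g).le))).toEquiv]
    refine Nat.eq_of_mul_eq_mul_right (Nat.card_pos (α := ↥C)) ?_
    have h := Cfsg.Lib.FF.card_eq_map_mul q (cj g Z)
    rw [QuotientGroup.ker_mk', inf_eq_right.2 ((hCcj g).ge.trans (cj_mono g hl.hCZ)), card_cj, hl.card_Z] at h
    rw [← h, Nat.card_eq_fintype_card (α := F), d.c.hF]
  have hcardB : Nat.card (Additive ↥B) = Nat.card F * Nat.card F := by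
    rw [Nat.card_congr Additive.toMul]
    refine Nat.eq_of_mul_eq_mul_right (Nat.card_pos (α := ↥C)) ?_
    have h := Cfsg.Lib.FF.card_eq_map_mul q W
    rw [QuotientGroup.ker_mk', inf_eq_right.2 (hl.hCZ.trans hl.hZW), hl.card_W, hl.card_Z] at h
    rw [← h, Nat.card_eq_fintype_card (α := F), d.c.hF, mul_assoc]
  have hdisj : ∀ a ∈ line 1, a ∈ line w₀ → a = 0 := by
    intro a h1 h2
    obtain ⟨w, hw, e⟩ := hsurjB a.toMul
    rw [show a = Additive.ofMul (mkB w hw) from by rw [e]; rfl] at h1 h2 ⊢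
    rw [hmem _ _ hw] at h1 h2
    rw [cj_one] at h1
    exact Subtype.ext ((QuotientGroup.eq_one_iff _).2 (hl.hinter _ hfar ⟨h1, h2⟩))
  have hA : ∀ a : Additive ↥B, ∃ z ∈ line 1, ∃ z' ∈ line w₀, z + z' = a := by
    let f : line 1 × line w₀ → Additive ↥B := fun z => (z.1 : Additive ↥B) + z.2
    have hinj : Function.Injective f := by
      rintro ⟨a, b⟩ ⟨a', b'⟩ h
      have h' : (a : Additive ↥B) - a' = (b' : Additive ↥B) - b := by
        rw [sub_eq_sub_iff_add_eq_add, show (a : Additive ↥B) + b = a' + b' from h, add_comm]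
      have h0 := hdisj _ ((line 1).sub_mem a.2 a'.2) (h' ▸ (line w₀).sub_mem b'.2 b.2)
      rw [h0, eq_comm, sub_eq_zero] at h'
      exact Prod.ext (Subtype.ext (sub_eq_zero.1 h0)) (Subtype.ext h'.symm)
    intro a
    obtain ⟨⟨z, z'⟩, e⟩ := ((Nat.bijective_iff_injective_and_card f).2
      ⟨hinj, by rw [Nat.card_prod, hcardl, hcardl, hcardB]⟩).2 a
    exact ⟨z, z.2, z', z'.2, e⟩
  let U' : F → Additive ↥B → Additive ↥B := fun x a => Additive.ofMul (act (su x) a.toMul)
  let V' : F → Additive ↥B → Additive ↥B := fun x a => Additive.ofMul (act (tv x) a.toMul)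
  have hcjw : ∀ x s, s ∈ cj x d.S → ∀ w ∈ W, s * w * s⁻¹ * w⁻¹ ∈ cj x Z := by
    intro x s hs w hw
    have hw' : x⁻¹ * w * x ∈ W := mem_cj.1 ((hWcj x).ge hw)
    have hc : ⁅x⁻¹ * w * x, x⁻¹ * s * x⁆ ∈ Z :=
      hl.hmove _ hw' _ (mem_cj.1 hs)
    rw [mem_cj]
    have := inv_mem hc
    convert this using 1
    simp only [commutatorElement_def]; group
  have hfixl : ∀ x s, s ∈ cj x d.S → ∀ a ∈ line x, act s a.toMul = a.toMul := by
    intro x s hs a ha
    obtain ⟨w, hw, e⟩ := hsurjB a.toMul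
    rw [show a = Additive.ofMul (mkB w hw) from by rw [e]; rfl] at ha
    rw [← e, hact _ _ hw, hmkeq _ (Normal.conj_mem inferInstance _ hw _) _ hw]
    have h := (hCcj x).le (conj_mem_cj (g := x)
      (hl.hfix _ (mem_cj.1 ((hmem _ _ hw).1 ha)) _ (mem_cj.1 hs)))
    rw [d.comm_conj] at h
    have h' := (hCcj w⁻¹).le (conj_mem_cj (g := w⁻¹) h)
    simpa [commutatorElement_def, mul_assoc] using h'
  have hmove : ∀ x s, s ∈ cj x d.S → ∀ a : Additive ↥B, Additive.ofMul (act s a.toMul) - a ∈ line x := by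
    intro x s hs a
    obtain ⟨w, hw, e⟩ := hsurjB a.toMul
    have hW' : s * w * s⁻¹ * w⁻¹ ∈ W := mul_mem (Normal.conj_mem inferInstance _ hw s) (inv_mem hw)
    rw [← e, hact _ _ hw, show Additive.ofMul (mkB (s * w * s⁻¹) (Normal.conj_mem inferInstance _ hw s)) - a = Additive.ofMul (mkB _ hW') from by
      rw [show a = Additive.ofMul (mkB w hw) from by rw [e]; rfl, ← ofMul_div]
      congr 1
      exact Subtype.ext (by show q (s * w * s⁻¹) / q w = q (s * w * s⁻¹ * w⁻¹); rw [div_eq_mul_inv, map_mul q (s * w * s⁻¹) w⁻¹, map_inv q w])]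
    exact (hmem _ _ hW').2 (hcjw x s hs w hw)
  have hS1 : ∀ x, su x ∈ cj 1 d.S := fun x => by rw [cj_one]; exact hsuS x
  have hmap : ∀ g a, a ∈ line 1 → Additive.ofMul (act g a.toMul) ∈ line g := by
    intro g a ha
    obtain ⟨w, hw, e⟩ := hsurjB a.toMul
    rw [show a = Additive.ofMul (mkB w hw) from by rw [e]; rfl, hmem _ _ hw, cj_one] at ha
    rw [← e, hact _ _ hw, hmem _ _ (Normal.conj_mem inferInstance _ hw _)]
    exact conj_mem_cj ha
  have hlines : ∀ a b, ψ' a = ψ' b → line a = line b := fun a b h => by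
    simp only [line]; rw [hline a b (by rw [h])]
  have hcomp : ∀ g h a, act g (act h a) = act (g * h) a := fun g h a => by rw [map_mul, MulAut.mul_apply]
  obtain ⟨l, hlu, hlv⟩ := exists_coords U' V'
    (fun x a b => by simp [U'])
    (fun x a b => by simp [V'])
    (fun x y a => by
      simp only [U', toMul_ofMul]
      rw [hcomp, hlift 1 _ (hS1 _) _ (mul_mem (hS1 x) (hS1 y)) (by rw [map_mul, hsuψ, hsuψ, hsuψ, uS_add, map_mul])])
    (fun x y a => by
      simp only [V', toMul_ofMul]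
      rw [hcomp, hlift w₀ _ (htvS _) _ (mul_mem (htvS x) (htvS y)) (by rw [map_mul, htvψ, htvψ, htvψ, vS_add, map_mul])])
    (line 1) (line w₀) hdisj hA
    (fun x z hz => by simp only [U']; rw [hfixl 1 _ (hS1 x) z hz]; rfl)
    (fun x a => hmove 1 _ (hS1 x) a)
    (fun x z hz => by simp only [V']; rw [hfixl w₀ _ (htvS x) z hz]; rfl)
    (fun x a => hmove w₀ _ (htvS x) a)
    (by
      intro x z hz hne hfix
      obtain ⟨w, hw, e⟩ := hsurjB z.toMul
      have hzw : z = Additive.ofMul (mkB w hw) := by rw [e]; rfl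
      rw [hzw] at hz hne hfix
      have hwC : w ∉ C := fun h => hne (Subtype.ext ((QuotientGroup.eq_one_iff _).2 h))
      have hwZ : w ∉ Z := fun h => hwC (hl.hinter _ hfar ⟨h, (hmem _ _ hw).1 hz⟩)
      simp only [U', toMul_ofMul, EmbeddingLike.apply_eq_iff_eq] at hfix
      rw [hact _ _ hw, hmkeq _ (Normal.conj_mem inferInstance _ hw _) _ hw] at hfix
      have hQ := d.sect_reg hl.toSect hw hwZ (hsuS x) (by
        have h := (hCcj w).le (conj_mem_cj (g := w) hfix)
        simpa [commutatorElement_def, mul_assoc] using h)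
      have h1 : π (uS x) = π (uS 0) := by
        rw [← hsuψ, (hψker _).2 (MonoidHom.mem_ker.1 (d.core_le_ker hQ)), show uS (0 : F) = 1 from sl_ext (by
          rw [coe_uS, cone]; simp [one_fin_two]), map_one]
      exact uS_injective_π h1)
    (hcardl 1) (hcardl w₀)
    (by
      intro x hx z hz
      simp only [U', V', toMul_ofMul]
      rw [hcomp, hcomp]
      set g := su x * tv (-x⁻¹) * su x
      have hg : ψ' g = π (wS x) := by simp only [g, wS, map_mul, hsuψ, htvψ]
      have h := hmap g z hz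
      rw [show line g = line w₀ from by
        simp only [line]; rw [hline g w₀ (by rw [hg, hw₀U, wS_conj hx])]] at h
      exact h)
    (by
      intro a b c ha hb z hz
      let T : F → G := fun x => su x * (tv (-x⁻¹) * (su x * (su (-1) * (tv 1 * su (-1)))))
      have htor : ∀ x y, tor U' V' x y = Additive.ofMul (act (T x) y.toMul) := fun x y => by
        simp only [tor, U', V', toMul_ofMul, hcomp, T]
      have hT : ∀ x, ψ' (T x) = π (tS x) := fun x => by
        simp only [T, tS, wS, map_mul, hsuψ, htvψ, mul_assoc]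
      have e : line (T a * (T b * su c) * w₀) = line (T (a * b) * su c * w₀) := hlines _ _ (by
        simp only [map_mul, hT, ← tS_mul ha hb, mul_assoc])
      set g₁ := T a * (T b * su c)
      set g₂ := T (a * b) * su c
      have hlw : ∀ g : G, ∀ a ∈ line w₀, Additive.ofMul (act g a.toMul) ∈ line (g * w₀) := by
        intro g a ha
        obtain ⟨w, hw, e⟩ := hsurjB a.toMul
        rw [show a = Additive.ofMul (mkB w hw) from by rw [e]; rfl, hmem _ _ hw] at ha
        rw [← e, hact _ _ hw, hmem _ _ (Normal.conj_mem inferInstance _ hw _), cj_mul]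
        exact conj_mem_cj ha
      have h1 := hlw g₁ z hz
      rw [e] at h1
      have h2 := hlw g₂⁻¹ 0 (line w₀).zero_mem
      obtain ⟨w, hw, e'⟩ := hsurjB (act g₁ z.toMul)
      rw [← e', hmem _ _ hw, cj_mul] at h1
      obtain ⟨w₁, hw₁, e₁⟩ := h1
      have hw₁W : w₁ ∈ W := (hWcj w₀).le (cj_mono w₀ hl.hZW hw₁)
      refine ⟨Additive.ofMul (mkB w₁ hw₁W), (hmem _ _ hw₁W).2 hw₁, ?_⟩
      rw [htor, htor, htor]
      simp only [U', toMul_ofMul, hcomp]
      congr 1
      show act g₁ z.toMul = act g₂ _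
      rw [← e', hact _ _ hw₁W, hmkeq _ hw _ (Normal.conj_mem inferInstance _ hw₁W _), show g₂ * w₁ * g₂⁻¹ = w from e₁, inv_mul_cancel]
      exact one_mem _)
  -- the homomorphism
  let Γ : Submonoid G :=
    { carrier := {g | ∃ M : Matrix.SpecialLinearGroup (Fin 2) F, ∀ a : Additive ↥B,
        l (Additive.ofMul (act g a.toMul)) = (M : Matrix (Fin 2) (Fin 2) F) *ᵥ l a}
      one_mem' := ⟨1, fun a => by rw [map_one, cone, Matrix.one_mulVec]; rfl⟩
      mul_mem' := fun {g h} ⟨M, hM⟩ ⟨M', hM'⟩ => ⟨M * M', fun a => by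
        rw [← hcomp, ← toMul_ofMul (act h a.toMul), hM, hM', cmul, Matrix.mulVec_mulVec]⟩ }
  let Γ' : Subgroup G :=
    { Γ with
      inv_mem' := fun {g} hg => by
        have := Γ.pow_mem hg (orderOf g - 1)
        have e : g⁻¹ = g ^ (orderOf g - 1) := inv_eq_of_mul_eq_one_left (by
          rw [← pow_succ, Nat.sub_add_cancel (orderOf_pos g), pow_orderOf_eq_one])
        rw [e]; exact this }
  have hS : d.S ≤ Γ' := fun s hs => by
    obtain ⟨x, hx⟩ : ∃ x, ψ' s = π (uS x) := by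
      obtain ⟨x, hx⟩ := hSU.le (mem_map_of_mem ψ' hs)
      exact ⟨x.toAdd, hx.symm⟩
    refine ⟨uS x, fun a => ?_⟩
    rw [hlift 1 s (by rw [cj_one]; exact hs) _ (hS1 x) (by rw [hx, hsuψ])]
    exact hlu x a
  have hS' : cj w₀ d.S ≤ Γ' := fun s hs => by
    obtain ⟨x, hx⟩ : ∃ x, ψ' s = π (vS x) := by
      have : ψ' s ∈ cj (ψ' w₀) U := by
        rw [mem_cj, show U = d.S.map ψ' from hSU.symm, ← map_inv, ← map_mul, ← map_mul]
        exact mem_map_of_mem ψ' (mem_cj.1 hs)
      obtain ⟨x, hx⟩ := hw₀U.le this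
      exact ⟨x.toAdd, hx.symm⟩
    refine ⟨vS x, fun a => ?_⟩
    rw [hlift w₀ s hs _ (htvS x) (by rw [hx, htvψ])]
    exact hlv x a
  have hall : ∀ g, g ∈ Γ' := fun g => (hfar.ge.trans (sup_le hS hS')) (mem_top g)
  choose ρ₀ hρ using hall
  have huniq : ∀ (g : G) (M : Matrix.SpecialLinearGroup (Fin 2) F),
      (∀ a : Additive ↥B, l (Additive.ofMul (act g a.toMul)) = (M : Matrix (Fin 2) (Fin 2) F) *ᵥ l a) → ρ₀ g = M := by
    intro g M hM
    refine sl_ext (Matrix.ext fun i j => ?_)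
    have h := congrFun ((hρ g (l.symm (Pi.single j 1))).symm.trans (hM _)) i
    simpa using h
  let ρ : G →* Matrix.SpecialLinearGroup (Fin 2) F := MonoidHom.mk' ρ₀ fun g h => huniq _ _ fun a => by
    rw [← hcomp, ← toMul_ofMul (act h a.toMul), hρ, hρ, cmul, Matrix.mulVec_mulVec]
  refine ⟨ρ, ?_, ⟨fun g => if hg : g ∈ W then l (Additive.ofMul (mkB g hg)) else 0, fun a ha b hb => ?_,
    fun w => ?_, fun a ha => ?_, fun g a ha => ?_⟩,
    fun x s hs hx => huniq s (uS x) fun a => by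
      rw [hlift 1 s (by rw [cj_one]; exact hs) _ (hS1 x) (by rw [hx, hsuψ])]; exact hlu x a,
    fun x s hs hx => huniq s (vS x) fun a => by
      rw [hlift w₀ s hs _ (htvS x) (by rw [hx, htvψ])]; exact hlv x a⟩
  · rw [← MonoidHom.range_eq_top]
    refine Cfsg.Lib.Classical.eq_top_of_transvection_mem _ fun i j hij c => ?_
    fin_cases i <;> fin_cases j
    · exact absurd rfl hij
    · refine ⟨su c, huniq _ _ fun a => ?_⟩
      rw [Matrix.SpecialLinearGroup.transvection_coe]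
      show l (U' c a) = _
      rw [hlu, coe_uS]
      congr 1
      ext r s; fin_cases r <;> fin_cases s <;> simp [Matrix.single, Matrix.transvection]
    · refine ⟨tv c, huniq _ _ fun a => ?_⟩
      rw [Matrix.SpecialLinearGroup.transvection_coe]
      show l (V' c a) = _
      rw [hlv, coe_vS]
      congr 1
      ext r s; fin_cases r <;> fin_cases s <;> simp [Matrix.single, Matrix.transvection]
    · exact absurd rfl hij
  · simp only [dif_pos ha, dif_pos hb, dif_pos (mul_mem ha hb), ← map_add, ← ofMul_mul]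
    congr 2
  · obtain ⟨a, ha, e⟩ := hsurjB (l.symm w).toMul
    refine ⟨a, ha, ?_⟩
    simp only [dif_pos ha, e]
    exact l.apply_symm_apply w
  · simp only [dif_pos ha]
    rw [map_eq_zero_iff _ l.injective]
    exact ⟨fun h => (QuotientGroup.eq_one_iff _).1 (congrArg Subtype.val h),
      fun h => Subtype.ext ((QuotientGroup.eq_one_iff _).2 h)⟩
  · simp only [dif_pos ha, dif_pos (Normal.conj_mem (inferInstance : W.Normal) a ha g)]
    rw [← hact g a ha]
    exact hρ g _

theorem lines_W : d.Lines d.W d.C d.Z := by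
  refine
    { d.sect_W with
      hab := fun a ha b hb => ?_, hQ := fun w hw g hg => ?_, hfix := fun z hz s hs => ?_
      hmove := fun w hw s hs => ⟨d.comm_W hw s, d.comm_le (commutator_mem_commutator hw hs)⟩ }
  · rw [commutatorElement_eq_one_iff_mul_comm.2 (d.W_comm ha hb)]; exact one_mem _
  · rw [commutatorElement_eq_one_iff_mul_comm.2 (mem_centralizer_iff.1 (d.core_le_centralizer hg) w hw)]
    exact one_mem _
  · rw [commutatorElement_eq_one_iff_mul_comm.2 (mem_centralizer_iff.1 hz.2 s hs).symm]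
    exact one_mem _

end Sit

end Cfsg.Lib.BGN.P
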