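import Cfsg.Agent.Components.BGNP.Chief

/-!
Pushing up for a rank-one quotient, distance one: one natural factor and class two.
-/

set_option autoImplicit false
set_option linter.unusedSectionVars false
set_option linter.style.haveILetI false

namespace Cfsg.Lib.BGN.P

open Subgroup Matrix Cfsg.Lib.BGN Cfsg.Lib.Known.AutPSL2
open scoped commutatorElement

universe u v

variable {p : ℕ} [hp : Fact p.Prime] {G : Type u} [Group G] [Finite G]

/-- the powers with the given exponent -/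
def pw {H : Type*} [Group H] (p : ℕ) (K : Subgroup H) : Subgroup H := closure ((fun x => x ^ p) '' (K : Set H))

/-- the Frattini subgroup of a `p`-group as a closure -/
def phi {H : Type*} [Group H] (p : ℕ) (K : Subgroup H) : Subgroup H := ⁅K, K⁆ ⊔ pw p K

theorem map_pw {H H' : Type*} [Group H] [Group H'] (f : H →* H') (K : Subgroup H) :
    (pw p K).map f = pw p (K.map f) := by
  rw [pw, MonoidHom.map_closure, pw, coe_map, ← Set.image_comp, ← Set.image_comp]
  congr 1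
  exact Set.image_congr fun x _ => by simp

theorem map_phi {H H' : Type*} [Group H] [Group H'] (f : H →* H') (K : Subgroup H) :
    (phi p K).map f = phi p (K.map f) := by
  rw [phi, Subgroup.map_sup, map_commutator, map_pw, phi]

theorem phi_le {H : Type*} [Group H] (K : Subgroup H) : phi p K ≤ K :=
  sup_le (commutator_le.2 fun a ha b hb => mul_mem (mul_mem (mul_mem ha hb) (inv_mem ha)) (inv_mem hb))
    ((closure_le _).2 (by rintro _ ⟨x, hx, rfl⟩; exact pow_mem hx p))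

theorem mem_phi_comm {H : Type*} [Group H] {K : Subgroup H} {a b : H} (ha : a ∈ K) (hb : b ∈ K) :
    ⁅a, b⁆ ∈ phi p K := mem_sup_left (commutator_mem_commutator ha hb)

theorem mem_phi_pow {H : Type*} [Group H] {K : Subgroup H} {a : H} (ha : a ∈ K) : a ^ p ∈ phi p K :=
  mem_sup_right (subset_closure ⟨a, ha, rfl⟩)

theorem pw_mem {H : Type*} [Group H] {K : Subgroup H} {a : H} (ha : a ∈ K) : a ^ p ∈ pw p K :=
  subset_closure ⟨a, ha, rfl⟩

theorem phi_mono {H : Type*} [Group H] {K L : Subgroup H} (h : K ≤ L) : phi p K ≤ phi p L :=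
  sup_le_sup (commutator_mono h h) (closure_mono (Set.image_mono h))

/-- the power of a product when the commutator is central -/
theorem mul_pow_central {H : Type*} [Group H] {a b z : H} (hz : b * a = z * (a * b)) (hza : Commute z a)
    (hzb : Commute z b) : ∀ n : ℕ, (a * b) ^ n = z ^ (n.choose 2) * (a ^ n * b ^ n) := by
  intro n
  induction n with
  | zero => simp
  | succ n ih =>
    have hb : ∀ m : ℕ, b ^ m * a = z ^ m * (a * b ^ m) := by
      intro m
      induction m with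
      | zero => simp
      | succ m ihm =>
        calc b ^ (m + 1) * a = b * (b ^ m * a) := by rw [pow_succ', mul_assoc]
          _ = z ^ m * (b * a) * b ^ m := by
            rw [ihm, ← mul_assoc, ((hzb.pow_left m).symm).eq, mul_assoc, ← mul_assoc b a, ← mul_assoc]
          _ = z ^ (m + 1) * (a * b ^ (m + 1)) := by rw [hz, pow_succ, pow_succ']; group
    calc (a * b) ^ (n + 1) = z ^ (n.choose 2) * (a ^ n * (b ^ n * a) * b) := by rw [pow_succ, ih]; group
      _ = z ^ (n.choose 2) * z ^ n * (a ^ (n + 1) * b ^ (n + 1)) := by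
        rw [hb, pow_succ, pow_succ, ← mul_assoc (a ^ n), ← ((hza.pow_left n).pow_right n).eq]; group
      _ = _ := by
        rw [← pow_add]
        congr 2
        rw [Nat.choose_succ_succ' n 1, Nat.choose_one_right, add_comm]

namespace Sit

variable {F : Type v} [Field F] [Fintype F] (d : Sit p G F)

include d

theorem char_bot (hd : NoChar d.c) {T : Subgroup ↥d.S} [hT : T.Characteristic] (h : (T.map d.S.subtype).Normal) : T = ⊥ :=
  by_contra fun hne => hd T hT hne h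

theorem top_map : (⊤ : Subgroup ↥d.S).map d.S.subtype = d.S := by
  rw [← MonoidHom.range_eq_map, range_subtype]

/-- an elementary subgroup outside the core -/
structure Out (A : Subgroup G) : Prop where
  le : A ≤ d.S
  norm : d.S ≤ normalizer (A : Set G)
  sup : A ⊔ Cfsg.pCore p G = d.S
  inf : A ⊓ Cfsg.pCore p G ≤ d.Z
  card : Nat.card A = Nat.card d.W
  ab : ∀ a ∈ A, ∀ b ∈ A, a * b = b * a
  pow : ∀ a ∈ A, a ^ p = 1

theorem exists_split (hd : NoChar d.c) : (∃ A, d.Out A) ∨ ∃ (a : Amb (Equiv.Perm G)) (y n : Equiv.Perm G),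
    (a.X = (⊤ : Subgroup G).map ι ∧ a.S = d.S.map ι ∧ a.Q = (Cfsg.pCore p G).map ι ∧ a.V = d.W.map ι ∧
      a.q = p ^ d.c.n) ∧ a.Two y n := by
  obtain ⟨a, hX, hS, hQ, hV, hq⟩ := d.exists_amb hd
  have hRS : ⁅a.V, a.S⁆ ≤ centralizer (a.S : Set (Equiv.Perm G)) := by
    rw [hV, hS, ← map_commutator]
    rintro _ ⟨r, hr, rfl⟩
    refine mem_centralizer_iff.2 ?_
    rintro _ ⟨s, hs, rfl⟩
    rw [← map_mul, ← map_mul, mem_centralizer_iff.1 (d.comm_le hr) s hs]
  rcases a.exists_outside hRS with ⟨m, hm, hne⟩ | ⟨y, n, h⟩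
  swap
  · exact Or.inr ⟨a, y, n, ⟨hX, hS, hQ, hV, hq⟩, h⟩
  left
  have hmS : cj m a.S = a.S := cj_eq_of_mem hm
  have hU : cj m a.V ≤ cj 1 a.S := by
    rw [cj_one]; exact (cj_mono m (a.hVQ.trans a.hQS)).trans hmS.le
  obtain ⟨f1, -, f3⟩ := a.full (one_mem a.X) hU (by rw [hmS]; exact a.hVQ.trans a.hQS) hne
  rw [cj_one] at f1 hU
  rw [a.nZ m hm] at f3
  set U := cj m a.V with hUdef
  have hUle : U ≤ d.S.map ι := hU.trans hS.le
  have hVabel : ∀ u ∈ U, ∃ w ∈ d.W, m * ι w * m⁻¹ = u := fun u hu => by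
    obtain ⟨v, hv, rfl⟩ := hu
    obtain ⟨w, hw, rfl⟩ := hV.le hv
    exact ⟨w, hw, rfl⟩
  refine ⟨U.comap ι, ⟨fun x hx => ?_, ?_, ?_, fun x hx => ?_, ?_, fun x hx z hz => ι_inj ?_, fun x hx => ι_inj ?_⟩⟩
  · obtain ⟨s, hs, he⟩ := hUle hx
    rwa [← ι_inj he]
  · refine le_normalizer_of_forall fun s hs => ?_
    rintro _ ⟨x, hx, rfl⟩
    have hn : a.S ≤ normalizer (U : Set (Equiv.Perm G)) := by
      rw [hUdef, ← hmS]
      exact cj_le_normalizer (a.hSX.trans a.nV) m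
    have := (mem_normalizer_iff.1 (hn (hS.ge (mem_map_of_mem ι hs))) _).1 hx
    rw [mem_comap]
    show ι (s * x * s⁻¹) ∈ U
    rwa [map_mul, map_mul, map_inv]
  · refine map_injective (f := (ι : G →* Equiv.Perm G)) ι_inj ?_
    rw [Subgroup.map_sup, map_comap_eq, inf_eq_right.2 (hUle.trans (map_le_range _ _)), ← hQ, f1, hS]
  · have h := f3 ⟨hx.1, hQ.ge (mem_map_of_mem ι hx.2)⟩
    obtain ⟨w, hw, he⟩ := hV.le h.1
    refine ⟨(ι_inj he) ▸ hw, mem_centralizer_iff.2 fun s hs => ι_inj ?_⟩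
    rw [map_mul, map_mul]
    exact mem_centralizer_iff.1 h.2 _ (hS.ge (mem_map_of_mem ι hs))
  · rw [← card_map_of_injective ι_inj, map_comap_eq, inf_eq_right.2 (hUle.trans (map_le_range _ _)), hUdef,
      card_cj, hV, card_map_of_injective ι_inj]
  · obtain ⟨w₁, hw₁, e₁⟩ := hVabel _ hx
    obtain ⟨w₂, hw₂, e₂⟩ := hVabel _ hz
    rw [map_mul, map_mul, ← e₁, ← e₂]
    have e : ι w₁ * ι w₂ = ι w₂ * ι w₁ := by rw [← map_mul, ← map_mul, d.W_comm hw₁ hw₂]
    calc m * ι w₁ * m⁻¹ * (m * ι w₂ * m⁻¹) = m * (ι w₁ * ι w₂) * m⁻¹ := by group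
      _ = m * (ι w₂ * ι w₁) * m⁻¹ := by rw [e]
      _ = _ := by group
  · obtain ⟨w, hw, e⟩ := hVabel _ hx
    rw [map_pow, ← e, conj_pow, ← map_pow, d.W_pow hw, map_one, mul_one, mul_inv_cancel]

/-- the standard homomorphism -/
theorem exists_rho : ∃ (fr : d.Frame) (ρ : G →* Matrix.SpecialLinearGroup (Fin 2) F),
    Function.Surjective ρ ∧ Nat' ρ d.W d.C ∧ d.Follows fr ρ := by
  obtain ⟨fr⟩ := d.exists_frame
  exact ⟨fr, d.natural_of_lines fr d.lines_W⟩

theorem triv_C : Triv p (⊥ : Subgroup G) d.C := fun g _ x hx => by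
  rw [mem_bot, commutatorElement_eq_one_iff_mul_comm]
  exact (mem_center_iff.1 hx.2 g).symm

theorem rho_core {ρ : G →* Matrix.SpecialLinearGroup (Fin 2) F} (hn : Nat' ρ d.W d.C) :
    Cfsg.pCore p G ≤ ρ.ker := by
  intro g hg
  obtain ⟨l, -, hsurj, -, hequi⟩ := hn
  rw [MonoidHom.mem_ker]
  refine sl_ext (Matrix.ext fun i j => ?_)
  obtain ⟨a, ha, e⟩ := hsurj (Pi.single j 1)
  have h := congrFun (hequi g a ha) i
  rw [← mem_centralizer_iff.1 (d.core_le_centralizer hg) a ha, mul_inv_cancel_right, e] at h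
  simpa [cone, Matrix.one_apply, Pi.single_apply] using h.symm

theorem nat_triv {ρ : G →* Matrix.SpecialLinearGroup (Fin 2) F} {M N : Subgroup G} [hM : M.Normal] [hN : N.Normal]
    (hn : Nat' ρ M N) {g : G} (hg : ρ g = 1) : ∀ x ∈ M, ⁅x, g⁆ ∈ N := by
  intro x hx
  obtain ⟨l, hadd, -, hker, hequi⟩ := hn
  have hgx : g * x * g⁻¹ ∈ M := hM.conj_mem x hx g
  have h1 : l (g * x * g⁻¹) = l x := by rw [hequi g x hx, hg, cone, Matrix.one_mulVec]
  have hm := mul_mem (inv_mem hgx) hx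
  have h2 := hadd _ hgx _ hm
  rw [mul_inv_cancel_left, h1, left_eq_add] at h2
  have h3 := hN.conj_mem _ ((hker _ hm).1 h2) x
  simpa [commutatorElement_def, mul_assoc] using h3

/-- coprime elements centralizing `W/C` and a section above it are trivial -/
theorem ker_eq {ρ : G →* Matrix.SpecialLinearGroup (Fin 2) F} (hn : Nat' ρ d.W d.C)
    (h : ∀ g : G, (orderOf g).Coprime p → ρ g = 1 → ∀ x ∈ Cfsg.pCore p G, g * x = x * g) :
    ρ.ker = Cfsg.pCore p G := by
  refine le_antisymm (d.c.le_core fun g => ?_) (d.rho_core hn)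
  obtain ⟨k, m, hm, hkm⟩ := Nat.exists_eq_pow_mul_and_not_dvd (orderOf_pos (g : G)).ne' p hp.out.ne_one
  refine ⟨k, ?_⟩
  set e := (g : G) ^ p ^ k with he
  have hcop : (orderOf e).Coprime p := by
    have : orderOf e = m := by
      rw [he, orderOf_pow_of_dvd (pow_ne_zero _ hp.out.ne_zero) ⟨m, hkm⟩, hkm,
        Nat.mul_div_cancel_left _ (pow_pos hp.out.pos _)]
    rw [this]
    exact ((hp.out.coprime_iff_not_dvd).2 hm).symm
  have hρ : ρ e = 1 := by rw [he, map_pow, MonoidHom.mem_ker.1 g.2, one_pow]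
  have hQ : e ∈ Cfsg.pCore p G := d.c.hc (mem_centralizer_iff.2 fun x hx => (h e hcop hρ x hx).symm)
  obtain ⟨j, hj⟩ := (Cfsg.Lib.Components.pCore_normal_and_isPGroup (G := G) p).2 ⟨e, hQ⟩
  have h1 : e = 1 := orderOf_eq_one_iff.1 (Nat.eq_one_of_dvd_coprimes (hcop.pow_right j) dvd_rfl
    (orderOf_dvd_of_pow_eq_one (by simpa using congrArg Subtype.val hj)))
  exact Subtype.ext (by simpa [he] using h1)

theorem centralize_W {ρ : G →* Matrix.SpecialLinearGroup (Fin 2) F} (hn : Nat' ρ d.W d.C) {g : G}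
    (hg : (orderOf g).Coprime p) (hρ : ρ g = 1) : ∀ x ∈ d.W, g * x = x * g := by
  haveI := d.W_normal
  haveI := d.C_normal
  exact coprime_centralize (d.c.S.2.to_le (inf_le_left.trans d.W_le_S)) hg (d.nat_triv hn hρ)
    fun x hx => mem_center_iff.1 hx.2 g

/-- one natural section in a noncentral chief factor -/
theorem factor_nat {ρ : G →* Matrix.SpecialLinearGroup (Fin 2) F} (hρ : Function.Surjective ρ) {M N U W : Subgroup G}
    [M.Normal] [N.Normal] [U.Normal] [W.Normal] (hn : Nat' ρ M N) (hNM : N ≤ M) (hch : Cfsg.IsChiefFactor U W)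
    (hUN : U ⊓ N ≤ W) : U ⊓ M ≤ W ∨ Nat' ρ U W := by
  refine or_iff_not_imp_left.2 fun hne => ?_
  obtain ⟨hlt, -, -, hmin⟩ := hch
  have hU : U ≤ (U ⊓ M) ⊔ W := by
    rcases hmin ((U ⊓ M) ⊔ W) inferInstance le_sup_right (sup_le inf_le_left hlt.le) with e | e
    · exact absurd (le_sup_left.trans e.le) hne
    · exact e.ge
  refine hn.transfer hρ hlt hU hUN (by_contra fun h => hne ?_)
  rcases (hn.chief hρ hNM).1.2.2.2 ((W ⊓ M) ⊔ N) inferInstance le_sup_right (sup_le inf_le_right hNM) with e | e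
  · exact absurd (le_sup_left.trans e.le) h
  intro x hx
  have hx' : x ∈ (W ⊓ M) ⊔ N := e.ge hx.2
  rw [← SetLike.mem_coe, coe_mul_of_left_le_normalizer_right _ _
    (fun y _ => (normalizer_eq_top (H := N)).ge (mem_top y))] at hx'
  obtain ⟨k, hk, c, hc, rfl⟩ := hx'
  refine mul_mem hk.1 (hUN ⟨?_, hc⟩)
  have := U.mul_mem (U.inv_mem (hlt.le hk.1)) hx.1
  rwa [inv_mul_cancel_left] at this

section Out

variable {A : Subgroup G} (hA : d.Out A)

include hA

theorem out_Z_le : d.Z ≤ A := by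
  have h1 := card_mul_le_sup A (Cfsg.pCore p G)
  rw [hA.sup, hA.card, d.card_W, d.card_S] at h1
  have h2 : Nat.card d.Z ≤ Nat.card ↥(A ⊓ Cfsg.pCore p G) :=
    Nat.le_of_mul_le_mul_left (le_trans (le_of_eq (by ring)) h1)
      (Nat.mul_pos (pow_pos hp.out.pos d.c.n) (Nat.card_pos (α := ↥(Cfsg.pCore p G))))
  exact (Subgroup.eq_of_le_of_card_ge hA.inf h2).ge.trans inf_le_left

theorem out_comm {a q : G} (ha : a ∈ A) (hq : q ∈ Cfsg.pCore p G) : ⁅q, a⁆ ∈ d.Z := by
  haveI := d.c.core_normal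
  refine hA.inf ⟨?_, ?_⟩
  · rw [commutatorElement_def]
    exact A.mul_mem ((mem_normalizer_iff.1 (hA.norm (d.c.core_le hq)) a).1 ha) (A.inv_mem ha)
  · rw [commutatorElement_def, mul_assoc, mul_assoc]
    exact mul_mem hq (by simpa [mul_assoc] using Normal.conj_mem (inferInstance : (Cfsg.pCore p G).Normal) _ (inv_mem hq) a)

theorem out_triv : Triv p d.W (Cfsg.pCore p G) := by
  haveI := d.c.core_normal
  haveI := d.W_normal
  set N := fixN (Cfsg.pCore p G) d.W
  have hAN : A ≤ N := fun a ha z hz => (d.out_comm hA ha hz).1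
  have hnot : ¬ A ≤ Cfsg.pCore p G := fun h => by
    have hle := card_le_of_le (hA.sup.ge.trans (sup_le h le_rfl))
    rw [d.card_S] at hle
    exact absurd hle (not_le.2 (lt_mul_of_one_lt_left Nat.card_pos d.one_lt_q))
  intro g hg
  exact d.c.mem_of_coprime (N := N)
    (fun h => d.c.closure_not_le hA.le hnot ((normalClosure_le_normal hAN).trans h)) hg

theorem out_ker {ρ : G →* Matrix.SpecialLinearGroup (Fin 2) F} (hn : Nat' ρ d.W d.C) :
    ρ.ker = Cfsg.pCore p G :=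
  d.ker_eq hn fun g hg hρ => coprime_centralize (d.c.S.2.to_le d.W_le_S) hg (fun x hx => d.out_triv hA g hg x hx)
    (d.centralize_W hn hg hρ)

theorem out_factors {ρ : G →* Matrix.SpecialLinearGroup (Fin 2) F} (hρ : Function.Surjective ρ)
    (hn : Nat' ρ d.W d.C) {U W : Subgroup G} [U.Normal] [W.Normal] (hU : U ≤ Cfsg.pCore p G)
    (hch : Cfsg.IsChiefFactor U W) (hnc : ¬ ⁅U, (⊤ : Subgroup G)⁆ ≤ W) : Nat' ρ U W := by
  haveI := d.C_normal
  haveI := d.W_normal
  haveI := d.c.core_normal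
  have hUS := hU.trans d.c.core_le
  have h1 : U ⊓ d.C ≤ W := d.factor_skip hch hUS hnc d.triv_C (by rw [inf_bot_eq]; exact bot_le)
  refine (d.factor_nat hρ hn inf_le_left hch h1).resolve_left fun h2 => ?_
  have h3 := d.factor_skip hch hUS hnc (d.out_triv hA) h2
  rw [inf_eq_left.2 hU] at h3
  exact not_le_of_gt hch.1 h3

theorem out_chain {ρ : G →* Matrix.SpecialLinearGroup (Fin 2) F} (hρ : Function.Surjective ρ)
    (hn : Nat' ρ d.W d.C) : ∃ U W : Subgroup G, W ≤ U ∧ U ≤ (Cfsg.pCore p G) ∧ Cfsg.IsChiefFactor U W ∧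
      ¬ ⁅U, (⊤ : Subgroup G)⁆ ≤ W ∧ (∃ k : ℕ, Cfsg.iterCommutator W ⊤ k = ⊥) ∧
      (∃ k : ℕ, Cfsg.iterCommutator (Cfsg.pCore p G) ⊤ k ≤ U) := by
  haveI := d.C_normal
  haveI := d.W_normal
  haveI := d.c.core_normal
  obtain ⟨h1, h2⟩ := hn.chief hρ inf_le_left
  refine ⟨d.W, d.C, inf_le_left, d.W_le_core, h1, h2, ?_, d.hyper d.c.core_le d.W_le_core (d.out_triv hA)⟩
  obtain ⟨k, hk⟩ := d.hyper (inf_le_left.trans d.W_le_S) bot_le d.triv_C
  exact ⟨k, le_bot_iff.1 hk⟩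

theorem out_mem_S {s : G} (hs : s ∈ d.S) : ∃ a ∈ A, ∃ q ∈ Cfsg.pCore p G, a * q = s := by
  haveI := d.c.core_normal
  rw [← hA.sup, ← SetLike.mem_coe, coe_mul_of_left_le_normalizer_right _ _
    (fun y _ => (normalizer_eq_top (H := Cfsg.pCore p G)).ge (mem_top y))] at hs
  exact hs

/-- class two and the exponent -/
theorem out_structure (hd : NoChar d.c) : d.S.lowerCentralSeries 2 = ⊥ ∧ d.S.lowerCentralSeries 1 ≠ ⊥ ∧
    (p = 2 → Monoid.exponent ↥d.S = 4) ∧ (p ≠ 2 → Monoid.exponent ↥d.S = p) := by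
  haveI := d.c.core_normal
  set Q := Cfsg.pCore p G with hQdef
  have hphiN : (phi p Q).Normal := ⟨fun x hx g => by
    have h := mem_map_of_mem (MulAut.conj g).toMonoidHom hx
    rw [map_phi, show Q.map (MulAut.conj g).toMonoidHom = Q from
      cj_eq_of_mem ((normalizer_eq_top (H := Q)).ge (mem_top g))] at h
    exact h⟩
  haveI := hphiN
  have hZc : ∀ z ∈ d.Z, ∀ s ∈ d.S, Commute z s := fun z hz s hs => (mem_centralizer_iff.1 hz.2 s hs).symm
  have hswap : ∀ a ∈ A, ∀ q ∈ Q, q * a = ⁅q, a⁆ * (a * q) ∧ ⁅q, a⁆ ∈ d.Z := fun a ha q hq =>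
    ⟨by rw [commutatorElement_def]; group, d.out_comm hA ha hq⟩
  -- the Frattini subgroup
  set N₀ := phi p Q ⊔ d.Z with hN₀
  have hpowS : ∀ a ∈ A, ∀ q ∈ Q, (a * q) ^ p = ⁅q, a⁆ ^ (p.choose 2) * q ^ p := fun a ha q hq => by
    obtain ⟨e, hz⟩ := hswap a ha q hq
    rw [mul_pow_central e (hZc _ hz _ (hA.le ha)) (hZc _ hz _ (d.c.core_le hq)) p, hA.pow a ha, one_mul]
  have hphiS : phi p d.S ≤ N₀ := by
    refine sup_le (commutator_le.2 fun s hs t ht => ?_) ((closure_le _).2 ?_)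
    · obtain ⟨a, ha, q, hq, rfl⟩ := d.out_mem_S hA hs
      obtain ⟨b, hb, r, hr, rfl⟩ := d.out_mem_S hA ht
      have e1 : ⁅q, b⁆ ∈ d.Z := d.out_comm hA hb hq
      have e2 : ⁅a, r⁆ ∈ d.Z := by rw [← commutatorElement_inv]; exact inv_mem (d.out_comm hA ha hr)
      have e3 : ⁅a, b⁆ = 1 := commutatorElement_eq_one_iff_mul_comm.2 (hA.ab a ha b hb)
      rw [show ⁅a * q, b * r⁆ = (a * ⁅q, b⁆ * a⁻¹) * ((a * b) * ⁅q, r⁆ * (a * b)⁻¹) *
        (⁅a, b⁆ * (b * ⁅a, r⁆ * b⁻¹)) by simp only [commutatorElement_def]; group, e3, one_mul,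
        d.Z_fix e1 (hA.le ha), d.Z_fix e2 (hA.le hb)]
      exact mul_mem (mul_mem (mem_sup_right e1) (mem_sup_left (hphiN.conj_mem _ (mem_phi_comm hq hr) _)))
        (mem_sup_right e2)
    · rintro _ ⟨s, hs, rfl⟩
      obtain ⟨a, ha, q, hq, rfl⟩ := d.out_mem_S hA hs
      show (a * q) ^ p ∈ N₀
      rw [hpowS a ha q hq]
      exact mul_mem (mem_sup_right (pow_mem (d.out_comm hA ha hq) _)) (mem_sup_left (mem_phi_pow hq))
  have hQA : phi p Q ≤ centralizer (A : Set G) := by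
    refine sup_le (commutator_le.2 fun q hq r hr => ?_) ((closure_le _).2 ?_)
    · refine mem_centralizer_iff.2 fun a ha => ?_
      have h1 : ∀ {q}, q ∈ Q → ∃ z ∈ d.Z, a * q * a⁻¹ = z * q := fun {q} hq =>
        ⟨⁅q, a⁆⁻¹, inv_mem (d.out_comm hA ha hq), by rw [commutatorElement_def]; group⟩
      obtain ⟨z, hz, e⟩ := h1 hq
      obtain ⟨z', hz', e'⟩ := h1 hr
      have h2 : a * ⁅q, r⁆ * a⁻¹ = ⁅q, r⁆ := by
        rw [d.comm_conj, e, e', show ⁅z * q, z' * r⁆ =
          z * (q * z' * q⁻¹) * (⁅q, r⁆ * (r * z⁻¹ * r⁻¹) * ⁅q, r⁆⁻¹) * (⁅q, r⁆ * z'⁻¹ * ⁅q, r⁆⁻¹) * ⁅q, r⁆ by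
            simp only [commutatorElement_def]; group]
        have hqr : ⁅q, r⁆ ∈ d.S := d.c.core_le
          (Q.mul_mem (Q.mul_mem (Q.mul_mem hq hr) (Q.inv_mem hq)) (Q.inv_mem hr))
        rw [d.Z_fix hz' (d.c.core_le hq), d.Z_fix (inv_mem hz) (d.c.core_le hr), d.Z_fix (inv_mem hz) hqr,
          d.Z_fix (inv_mem hz') hqr, (hZc z hz z' (d.W_le_S hz'.1)).eq]
        group
      calc a * ⁅q, r⁆ = a * ⁅q, r⁆ * a⁻¹ * a := by group
        _ = ⁅q, r⁆ * a := by rw [h2]
    · rintro _ ⟨q, hq, rfl⟩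
      refine mem_centralizer_iff.2 fun a ha => ?_
      have hz := inv_mem (d.out_comm hA ha hq)
      have h2 : a * q ^ p * a⁻¹ = q ^ p := by
        rw [← conj_pow, show a * q * a⁻¹ = ⁅q, a⁆⁻¹ * q by rw [commutatorElement_def]; group,
          (hZc _ hz _ (d.c.core_le hq)).mul_pow, d.W_pow hz.1, one_mul]
      calc a * q ^ p = a * q ^ p * a⁻¹ * a := by group
        _ = q ^ p * a := by rw [h2]
  have hN₀Z : ∀ x ∈ N₀, ∃ w ∈ phi p Q, ∃ z ∈ d.Z, w * z = x := by
    intro x hx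
    rw [hN₀, ← SetLike.mem_coe, coe_mul_of_right_le_normalizer_left _ _
      (fun y _ => (normalizer_eq_top (H := phi p Q)).ge (mem_top y))] at hx
    exact hx
  -- class two
  have hcomm : ⁅phi p d.S, d.S⁆ = ⁅phi p Q, Q⁆ := by
    refine le_antisymm (commutator_le.2 fun x hx s hs => ?_) (commutator_mono (phi_mono d.c.core_le) d.c.core_le)
    obtain ⟨w, hw, z, hz, rfl⟩ := hN₀Z x (hphiS hx)
    obtain ⟨a, ha, q, hq, rfl⟩ := d.out_mem_S hA hs
    have ew : ⁅w, a⁆ = 1 :=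
      commutatorElement_eq_one_iff_mul_comm.2 (mem_centralizer_iff.1 (hQA hw) a ha).symm
    haveI : (⁅phi p Q, Q⁆).Normal := inferInstance
    rw [show ⁅w * z, a * q⁆ = (w * ⁅z, a * q⁆ * w⁻¹) * (⁅w, a⁆ * (a * ⁅w, q⁆ * a⁻¹)) by
      simp only [commutatorElement_def]; group, commutatorElement_eq_one_iff_mul_comm.2 (hZc z hz _ hs).eq,
      mul_one, mul_inv_cancel, one_mul, ew, one_mul]
    exact Normal.conj_mem inferInstance _ (commutator_mem_commutator hw hq) a
  have hclass : ⁅phi p d.S, d.S⁆ = ⊥ := by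
    haveI : (⁅phi p (⊤ : Subgroup ↥d.S), (⊤ : Subgroup ↥d.S)⁆).Characteristic :=
      characteristic_iff_map_eq.2 fun φ => by
        rw [map_commutator, map_phi, map_top_of_surjective _ φ.surjective]
    have hmap : (⁅phi p (⊤ : Subgroup ↥d.S), (⊤ : Subgroup ↥d.S)⁆).map d.S.subtype = ⁅phi p d.S, d.S⁆ := by
      rw [map_commutator, map_phi, d.top_map]
    rw [← hmap, d.char_bot hd (T := ⁅phi p (⊤ : Subgroup ↥d.S), (⊤ : Subgroup ↥d.S)⁆) (by rw [hmap, hcomm]; infer_instance),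
      Subgroup.map_bot]
  have hcen : ∀ x ∈ phi p d.S, ∀ s ∈ d.S, Commute x s := fun x hx s hs =>
    commutatorElement_eq_one_iff_mul_comm.1 (mem_bot.1 (hclass ▸ commutator_mem_commutator hx hs))
  -- exponent of the Frattini subgroup
  have hpp : pw p (phi p d.S) = ⊥ := by
    haveI : (pw p (phi p (⊤ : Subgroup ↥d.S))).Characteristic := characteristic_iff_map_eq.2 fun φ => by
      rw [map_pw, map_phi, map_top_of_surjective _ φ.surjective]
    have hmap : (pw p (phi p (⊤ : Subgroup ↥d.S))).map d.S.subtype = pw p (phi p d.S) := by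
      rw [map_pw, map_phi, d.top_map]
    have heq : pw p (phi p d.S) = pw p (phi p Q) := by
      refine le_antisymm ((closure_le _).2 ?_) (closure_mono (Set.image_mono (phi_mono d.c.core_le)))
      rintro _ ⟨x, hx, rfl⟩
      obtain ⟨w, hw, z, hz, rfl⟩ := hN₀Z x (hphiS hx)
      show (w * z) ^ p ∈ pw p (phi p Q)
      rw [(hZc z hz w (d.c.core_le (phi_le Q hw))).symm.mul_pow, d.W_pow hz.1, mul_one]
      exact pw_mem hw
    have hn : (pw p (phi p Q)).Normal := ⟨fun x hx g => by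
      have h := mem_map_of_mem (MulAut.conj g).toMonoidHom hx
      rw [map_pw, map_phi, show Q.map (MulAut.conj g).toMonoidHom = Q from
        cj_eq_of_mem ((normalizer_eq_top (H := Q)).ge (mem_top g))] at h
      exact h⟩
    rw [← hmap, d.char_bot hd (T := pw p (phi p (⊤ : Subgroup ↥d.S))) (by rw [hmap, heq]; exact hn), Subgroup.map_bot]
  have hne : d.S.lowerCentralSeries 1 ≠ ⊥ := by
    intro h
    refine d.not_comm_central ?_
    have h1 : ⁅d.S, d.S⁆ = ⊥ := h
    exact (commutator_mono d.W_le_S le_rfl).trans (h1.le.trans bot_le)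
  refine ⟨?_, hne, fun hp2 => ?_, fun hodd => ?_⟩
  · show ⁅⁅d.S, d.S⁆, d.S⁆ = ⊥
    exact le_bot_iff.1 ((commutator_mono le_sup_left le_rfl).trans hclass.le)
  · subst hp2
    have h4 : Monoid.exponent ↥d.S ∣ 2 ^ 2 := Monoid.exponent_dvd_of_forall_pow_eq_one fun x => Subtype.ext (by
      show (x : G) ^ (2 * 2) = 1
      rw [pow_mul]
      exact mem_bot.1 (hpp ▸ pw_mem (mem_phi_pow x.2)))
    obtain ⟨k, hk, e⟩ := (Nat.dvd_prime_pow Nat.prime_two).1 h4
    rcases (show k = 0 ∨ k = 1 ∨ k = 2 by omega) with rfl | rfl | rfl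
    · exfalso
      refine hne (le_bot_iff.1 (show ⁅d.S, d.S⁆ ≤ ⊥ from commutator_le.2 fun a ha b hb => ?_))
      have h1 : ∀ {z}, z ∈ d.S → z = 1 := fun {z} hz => by
        have := congrArg Subtype.val (e ▸ Monoid.pow_exponent_eq_one (⟨z, hz⟩ : ↥d.S) :
          (⟨z, hz⟩ : ↥d.S) ^ 2 ^ 0 = 1)
        simpa using this
      rw [h1 ha, h1 hb]; simp
    · exfalso
      refine hne (le_bot_iff.1 (show ⁅d.S, d.S⁆ ≤ ⊥ from commutator_le.2 fun a ha b hb => ?_))
      have h2 : ∀ {z}, z ∈ d.S → z⁻¹ = z := fun {z} hz => by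
        have := congrArg Subtype.val (e ▸ Monoid.pow_exponent_eq_one (⟨z, hz⟩ : ↥d.S) :
          (⟨z, hz⟩ : ↥d.S) ^ 2 ^ 1 = 1)
        exact inv_eq_of_mul_eq_one_right (by simpa [pow_two] using this)
      rw [mem_bot, commutatorElement_eq_one_iff_mul_comm]
      have := h2 (mul_mem ha hb)
      rw [_root_.mul_inv_rev, h2 ha, h2 hb] at this
      exact this.symm
    · exact e
  · have hpS : pw p d.S = pw p Q := by
      refine le_antisymm ((closure_le _).2 ?_) (closure_mono (Set.image_mono d.c.core_le))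
      rintro _ ⟨s, hs, rfl⟩
      obtain ⟨a, ha, q, hq, rfl⟩ := d.out_mem_S hA hs
      show (a * q) ^ p ∈ pw p Q
      obtain ⟨j, hj⟩ := hp.out.dvd_choose_self two_ne_zero (lt_of_le_of_ne hp.out.two_le (Ne.symm hodd))
      rw [hpowS a ha q hq, hj, pow_mul, d.W_pow (d.out_comm hA ha hq).1, one_pow, one_mul]
      exact pw_mem hq
    haveI : (pw p (⊤ : Subgroup ↥d.S)).Characteristic := characteristic_iff_map_eq.2 fun φ => by
      rw [map_pw, map_top_of_surjective _ φ.surjective]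
    have hmap : (pw p (⊤ : Subgroup ↥d.S)).map d.S.subtype = pw p d.S := by rw [map_pw, d.top_map]
    have hn : (pw p Q).Normal := ⟨fun x hx g => by
      have h := mem_map_of_mem (MulAut.conj g).toMonoidHom hx
      rw [map_pw, show Q.map (MulAut.conj g).toMonoidHom = Q from
        cj_eq_of_mem ((normalizer_eq_top (H := Q)).ge (mem_top g))] at h
      exact h⟩
    have hbot : pw p (⊤ : Subgroup ↥d.S) = ⊥ := d.char_bot hd (by rw [hmap, hpS]; exact hn)
    rcases (Nat.dvd_prime hp.out).1 (Monoid.exponent_dvd_of_forall_pow_eq_one fun x : ↥d.S =>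
      mem_bot.1 (hbot ▸ pw_mem (mem_top x))) with e | e
    · exfalso
      haveI : Subsingleton ↥d.S := Monoid.exp_eq_one_iff.1 e
      exact d.S_ne_bot (eq_bot_of_subsingleton _)
    · exact e

end Out

end Sit

end Cfsg.Lib.BGN.P
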