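import Cfsg.Agent.Components.BGN.Path

/-!
Pushing up for a rank-one quotient at any prime, inside a finite ambient group: either some conjugate of `V` under
the normalizer of the Sylow subgroup lies outside `Q`, or the critical distance is `2`.
-/

set_option autoImplicit false
set_option linter.unusedSectionVars false

namespace Cfsg.Lib.BGN.P

open Subgroup Cfsg.Lib.BGN
open scoped commutatorElement

universe u

variable {G : Type u} [Group G]

/-- The hypotheses: `X` has the rank-one shape over `Q`, `V` is the natural module, and no subgroup of `S` but `1`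
is normalized by `X` and the normalizer of `S`. -/
structure Amb (G : Type u) [Group G] where
  X : Subgroup G
  S : Subgroup G
  Q : Subgroup G
  V : Subgroup G
  q : ℕ
  hQS : Q ≤ S
  hSX : S ≤ X
  hVQ : V ≤ Q
  nQ : X ≤ normalizer (Q : Set G)
  nV : X ≤ normalizer (V : Set G)
  hQV : Q ≤ centralizer (V : Set G)
  hC : ∀ x ∈ X, cj x S ⊓ centralizer (V : Set G) ≤ Q
  hne : V ≠ ⊥
  fix_le : ∀ a ∈ S, a ∉ Q → V ⊓ centralizer ({a} : Set G) ≤ centralizer (S : Set G)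
  cS : Nat.card S = q * Nat.card Q
  cV : Nat.card V = q * Nat.card ↥(V ⊓ centralizer (S : Set G))
  sep : ∀ y ∈ X, S ⊔ cj y S = X → ∀ v ∈ cj y S, v ∉ Q → S ⊔ cj v⁻¹ S = X
  move : ∃ y ∈ X, S ⊔ cj y S = X
  hR : ¬ ⁅V, S⁆ ≤ centralizer (X : Set G)
  nZ : ∀ m ∈ normalizer (S : Set G), cj m (V ⊓ centralizer (S : Set G)) = V ⊓ centralizer (S : Set G)
  faith : ∀ K : Subgroup G, K ≤ S → X ≤ normalizer (K : Set G) →
    normalizer (S : Set G) ≤ normalizer (K : Set G) → K = ⊥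

namespace Amb

variable [Finite G] (d : Amb G)

include d

/-- paths with `k` steps -/
def P : ℕ → Set G
  | 0 => {1}
  | k + 1 => {g | ∃ x ∈ d.X, ∃ m ∈ normalizer (d.S : Set G), ∃ h ∈ P k, g = x * m * h}

theorem cj_X {x : G} (hx : x ∈ d.X) : cj x d.X = d.X := cj_eq_of_mem (le_normalizer hx)
theorem cj_Q {x : G} (hx : x ∈ d.X) : cj x d.Q = d.Q := cj_eq_of_mem (d.nQ hx)
theorem cj_V {x : G} (hx : x ∈ d.X) : cj x d.V = d.V := cj_eq_of_mem (d.nV hx)

theorem gen_inv {y : G} (hy : y ∈ d.X) (hyS : d.S ⊔ cj y d.S = d.X) : d.S ⊔ cj y⁻¹ d.S = d.X := by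
  have := congrArg (cj y⁻¹) hyS
  rwa [cj_sup, cj_inv_left, d.cj_X (inv_mem hy), sup_comm] at this

theorem QX : d.Q ≤ d.X := d.hQS.trans d.hSX

theorem cjS_le {x : G} (hx : x ∈ d.X) : cj x d.S ≤ d.X := (cj_mono x d.hSX).trans (d.cj_X hx).le

theorem Q_le_cjS {x : G} (hx : x ∈ d.X) : d.Q ≤ cj x d.S := (d.cj_Q hx).ge.trans (cj_mono x d.hQS)

theorem R_le_Z : ⁅d.V, d.S⁆ ≤ d.V := by
  rw [commutator_le]
  intro v hv s hs
  rw [commutatorElement_def, mul_assoc, mul_assoc]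
  exact mul_mem hv (by simpa [mul_assoc] using (mem_normalizer_iff.1 (d.nV (d.hSX hs)) v⁻¹).1 (inv_mem hv))

theorem P_add {k l : ℕ} {g h : G} (hg : g ∈ d.P k) (hh : h ∈ d.P l) : g * h ∈ d.P (k + l) := by
  induction k generalizing g with
  | zero => obtain rfl : g = 1 := hg; simpa using hh
  | succ k ih =>
    obtain ⟨x, hx, m, hm, g', hg', rfl⟩ := hg
    rw [Nat.succ_add]
    exact ⟨x, hx, m, hm, g' * h, ih hg', by group⟩

theorem P_one {x m : G} (hx : x ∈ d.X) (hm : m ∈ normalizer (d.S : Set G)) : x * m ∈ d.P 1 :=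
  ⟨x, hx, m, hm, 1, rfl, (mul_one _).symm⟩

theorem P_pow {x m : G} (hx : x ∈ d.X) (hm : m ∈ normalizer (d.S : Set G)) : ∀ j : ℕ, (x * m) ^ j ∈ d.P j
  | 0 => by rw [pow_zero]; rfl
  | j + 1 => by rw [pow_succ']; exact ⟨x, hx, m, hm, _, P_pow hx hm j, rfl⟩

theorem P_last {k : ℕ} {g : G} (hg : g ∈ d.P (k + 1)) :
    ∃ h ∈ d.P k, ∃ x ∈ d.X, ∃ m ∈ normalizer (d.S : Set G), g = h * x * m := by
  induction k generalizing g with
  | zero =>
    obtain ⟨x, hx, m, hm, h, hh, rfl⟩ := hg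
    obtain rfl : h = 1 := hh
    exact ⟨1, rfl, x, hx, m, hm, by group⟩
  | succ k ih =>
    obtain ⟨x, hx, m, hm, h, hh, rfl⟩ := hg
    obtain ⟨h', hh', x', hx', m', hm', rfl⟩ := ih hh
    exact ⟨x * m * h', ⟨x, hx, m, hm, h', hh', rfl⟩, x', hx', m', hm', by group⟩

theorem P_inv {k : ℕ} {g : G} (hg : g ∈ d.P k) : ∃ h ∈ d.P k, ∃ x ∈ d.X, g⁻¹ = h * x := by
  induction k generalizing g with
  | zero => obtain rfl : g = 1 := hg; exact ⟨1, rfl, 1, one_mem _, by simp⟩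
  | succ k ih =>
    obtain ⟨x, hx, m, hm, g', hg', rfl⟩ := hg
    obtain ⟨h, hh, x', hx', he⟩ := ih hg'
    refine ⟨h * (x' * m⁻¹), d.P_add hh (d.P_one hx' (inv_mem hm)), x⁻¹, inv_mem hx, ?_⟩
    rw [mul_inv_rev, mul_inv_rev, he]; group

/-- below the distance `b` everything stays in `Q` -/
def Low (b : ℕ) : Prop := ∀ k < b, ∀ g ∈ d.P k, cj g d.V ≤ d.Q

theorem low_inv {b : ℕ} (hb : d.Low b) {k : ℕ} (hk : k < b) {g : G} (hg : g ∈ d.P k) :
    cj g⁻¹ d.V ≤ d.Q := by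
  obtain ⟨h, hh, x, hx, he⟩ := d.P_inv hg
  rw [he, cj_mul, d.cj_V hx]
  exact hb k hk h hh

theorem low_left {b : ℕ} (hb : d.Low b) {k : ℕ} (hk : k < b) {g : G} (hg : g ∈ d.P k) :
    d.V ≤ cj g d.Q := by
  rw [← cj_inv_right g d.V]
  exact cj_mono g (d.low_inv hb hk hg)

/-- the first step of a path of length `b` -/
theorem front {k : ℕ} (hb : d.Low (k + 1)) {x m h : G} (hx : x ∈ d.X) (hm : m ∈ normalizer (d.S : Set G))
    (hh : h ∈ d.P k) : cj (x * m * h) d.V ≤ cj x d.S := by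
  rw [cj_mul, cj_mul]
  refine cj_mono x (((cj_mono m ((hb k (Nat.lt_succ_self k) h hh).trans d.hQS))).trans ?_)
  exact (cj_eq_of_mem hm).le

/-- the last step of a path of length `b` -/
theorem back {k : ℕ} (hb : d.Low (k + 1)) {g : G} (hg : g ∈ d.P (k + 1)) : d.V ≤ cj g d.S := by
  obtain ⟨h, hh, x, hx, m, hm, rfl⟩ := d.P_last hg
  rw [cj_mul, cj_eq_of_mem hm, cj_mul]
  exact (d.low_left hb (Nat.lt_succ_self k) hh).trans (cj_mono h (d.Q_le_cjS hx))

theorem commute_of_le {K : Subgroup G} (h : K ≤ d.Q) {a v : G} (ha : a ∈ K) (hv : v ∈ d.V) : v * a = a * v :=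
  mem_centralizer_iff.1 (d.hQV (h ha)) v hv

theorem symm_not_le {g x : G} (hx : x ∈ d.X) (hU : cj g d.V ≤ cj x d.S) (hne : ¬ cj g d.V ≤ d.Q) : ¬ d.V ≤ cj g d.Q := by
  intro h
  refine hne fun u hu => d.hC x hx ⟨hU hu, mem_centralizer_iff.2 fun v hv => ?_⟩
  have := cj_mono g d.hQV
  rw [cj_centralizer] at this
  exact (mem_centralizer_iff.1 (this (h hv)) u hu).symm

/-- a critical pair: both act on each other as a full Sylow subgroup -/
theorem full {g x : G} (hx : x ∈ d.X) (hU : cj g d.V ≤ cj x d.S) (hV : d.V ≤ cj g d.S)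
    (hne : ¬ cj g d.V ≤ d.Q) :
    cj g d.V ⊔ d.Q = cj x d.S ∧ ⁅d.V, cj g d.V⁆ = cj x ⁅d.V, d.S⁆ ∧
      cj g d.V ⊓ d.Q ≤ cj g (d.V ⊓ centralizer (d.S : Set G)) := by
  obtain ⟨v, hv, hvQ⟩ := SetLike.not_le_iff_exists.1 (d.symm_not_le hx hU hne)
  have h3 : cj g d.V ⊓ d.Q ≤ cj g (d.V ⊓ centralizer (d.S : Set G)) := by
    intro u hu
    rw [mem_cj]
    refine ⟨mem_cj.1 hu.1, d.fix_le _ (mem_cj.1 (hV hv)) (fun h => hvQ (mem_cj.2 h))
      ⟨mem_cj.1 hu.1, mem_centralizer_singleton_iff.2 ?_⟩⟩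
    have e := d.commute_of_le (inf_le_right (a := cj g d.V)) hu hv
    calc g⁻¹ * u * g * (g⁻¹ * v * g) = g⁻¹ * (u * v) * g := by group
      _ = g⁻¹ * (v * u) * g := by rw [e]
      _ = g⁻¹ * v * g * (g⁻¹ * u * g) := by group
  have h1 : cj g d.V ⊔ d.Q = cj x d.S := by
    refine Subgroup.eq_of_le_of_card_ge (sup_le hU (d.Q_le_cjS hx)) ?_
    rw [card_cj, d.cS]
    refine Nat.le_of_mul_le_mul_right (c := Nat.card ↥(d.V ⊓ centralizer (d.S : Set G))) ?_ Nat.card_pos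
    calc d.q * Nat.card d.Q * Nat.card ↥(d.V ⊓ centralizer (d.S : Set G))
        = Nat.card (cj g d.V) * Nat.card d.Q := by rw [card_cj, d.cV]; ring
      _ ≤ _ := card_mul_le_sup _ _
      _ ≤ _ := Nat.mul_le_mul_left _ ((Nat.card_mono (Set.toFinite _) (SetLike.coe_subset_coe.2 h3)).trans
          (card_cj _ _).le)
  refine ⟨h1, ?_, h3⟩
  rw [cj_comm, d.cj_V hx, ← h1]
  refine le_antisymm (commutator_mono le_rfl le_sup_left) (commutator_le.2 fun v' hv' w hw => ?_)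
  have hn : cj g d.V ≤ normalizer (d.Q : Set G) := (hU.trans (d.cjS_le hx)).trans d.nQ
  rw [← SetLike.mem_coe, coe_mul_of_left_le_normalizer_right _ _ hn] at hw
  obtain ⟨a, ha, z, hz, rfl⟩ := hw
  have e := mem_centralizer_iff.1 (d.hQV hz) v' hv'
  have e' : ⁅v', a * z⁆ = ⁅v', a⁆ := by
    simp only [commutatorElement_def, mul_inv_rev]
    calc v' * (a * z) * v'⁻¹ * (z⁻¹ * a⁻¹) = v' * a * (z * v'⁻¹ * z⁻¹) * a⁻¹ := by group
      _ = v' * a * v'⁻¹ * a⁻¹ := by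
        rw [show z * v'⁻¹ * z⁻¹ = v'⁻¹ by
          rw [show z * v'⁻¹ = v'⁻¹ * z from (show Commute v' z from e).inv_left.eq.symm]; group]
  rw [e']
  exact commutator_mem_commutator hv' ha

/-- the same, seen from the other end -/
theorem full' {g x : G} (hx : x ∈ d.X) (hU : cj g d.V ≤ cj x d.S) (hV : d.V ≤ cj g d.S)
    (hne : ¬ cj g d.V ≤ d.Q) :
    d.V ⊔ cj g d.Q = cj g d.S ∧ ⁅d.V, cj g d.V⁆ = cj g ⁅d.V, d.S⁆ := by
  have hne' : ¬ cj (x⁻¹ * g)⁻¹ d.V ≤ d.Q := by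
    rw [mul_inv_rev, inv_inv, cj_mul, d.cj_V hx, cj_le_iff', inv_inv]
    exact d.symm_not_le hx hU hne
  have hx1 := inv_mem hx
  obtain ⟨h1, h2, -⟩ := d.full (g := (x⁻¹ * g)⁻¹) (one_mem d.X)
    (by rw [mul_inv_rev, inv_inv, cj_mul, d.cj_V hx, cj_one, cj_le_iff', inv_inv]; exact hV)
    (by rw [← cj_le_iff (x⁻¹ * g), cj_inv_right, cj_mul, cj_le_iff', inv_inv]; exact hU) hne'
  rw [mul_inv_rev, inv_inv, cj_mul, d.cj_V hx, cj_one] at h1 h2
  constructor
  · have := congrArg (cj g) h1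
    rwa [cj_sup, cj_inv_right] at this
  · have := congrArg (cj g) h2
    rw [cj_comm, cj_inv_right, commutator_comm] at this
    exact this

theorem Z_fixed {m : G} (hm : m ∈ normalizer (d.S : Set G)) :
    cj m ⁅d.V, d.S⁆ ≤ cj m d.V ∧ (⁅d.V, d.S⁆ ≤ centralizer (d.S : Set G) →
      cj m ⁅d.V, d.S⁆ ≤ d.V ⊓ centralizer (d.S : Set G)) :=
  ⟨cj_mono m d.R_le_Z, fun h => (cj_mono m (le_inf d.R_le_Z h)).trans (d.nZ m hm).le⟩

theorem exists_bad : ∃ m ∈ normalizer (d.S : Set G), ¬ d.X ≤ normalizer (d.V ⊔ cj m d.V : Subgroup G) := by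
  by_contra hcon
  push Not at hcon
  set K : Subgroup G := ⨆ m : ↥(normalizer (d.S : Set G)), cj (m : G) d.V with hK
  have hVK : d.V ≤ K := by
    refine le_trans ?_ (le_iSup _ (1 : ↥(normalizer (d.S : Set G))))
    simp [cj_one]
  refine d.hne (le_bot_iff.1 (hVK.trans (d.faith K ?_ ?_ ?_).le))
  · exact iSup_le fun m => (cj_mono _ (d.hVQ.trans d.hQS)).trans (cj_eq_of_mem m.2).le
  · refine le_normalizer_of_forall fun x hx => ?_
    rw [hK, cj, Subgroup.map_iSup]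
    refine iSup_le fun m => ?_
    refine le_trans ?_ (sup_le hVK (le_iSup (fun m : ↥(normalizer (d.S : Set G)) => cj (m : G) d.V) m))
    exact (cj_mono x le_sup_right).trans (cj_eq_of_mem (hcon m m.2 hx)).le
  · refine le_normalizer_of_forall fun n hn => ?_
    rw [hK, cj, Subgroup.map_iSup]
    refine iSup_le fun m => ?_
    refine le_trans (le_of_eq (cj_mul n (m : G) d.V).symm) ?_
    exact le_iSup (fun m : ↥(normalizer (d.S : Set G)) => cj (m : G) d.V) ⟨n * m, mul_mem hn m.2⟩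

theorem exists_dist : ∃ k, ∃ g ∈ d.P k, ¬ cj g d.V ≤ d.Q := by
  by_contra hcon
  push Not at hcon
  set K : Subgroup G := ⨆ g : {g : G // ∃ k, g ∈ d.P k}, cj (g : G) d.V with hK
  have hVK : d.V ≤ K := by
    refine le_trans ?_ (le_iSup _ (⟨1, 0, rfl⟩ : {g : G // ∃ k, g ∈ d.P k}))
    simp [cj_one]
  refine d.hne (le_bot_iff.1 (hVK.trans (d.faith K ?_ ?_ ?_).le))
  · exact iSup_le fun g => ((hcon _ _ g.2.choose_spec).trans d.hQS)
  · refine le_normalizer_of_forall fun x hx => ?_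
    rw [hK, cj, Subgroup.map_iSup]
    refine iSup_le fun g => ?_
    obtain ⟨k, hk⟩ := g.2
    cases k with
    | zero =>
      have hg : (g : G) = 1 := hk
      rw [hg]
      refine le_trans (le_of_eq ?_) hVK
      show cj x (cj 1 d.V) = d.V
      rw [cj_one, d.cj_V hx]
    | succ k =>
      obtain ⟨x', hx', m, hm, h, hh, he⟩ := hk
      refine le_trans (le_of_eq (cj_mul x (g : G) d.V).symm) ?_
      exact le_iSup (fun g : {g : G // ∃ k, g ∈ d.P k} => cj (g : G) d.V)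
        ⟨x * g, k + 1, x * x', mul_mem hx hx', m, hm, h, hh, by rw [he]; group⟩
  · refine le_normalizer_of_forall fun n hn => ?_
    rw [hK, cj, Subgroup.map_iSup]
    refine iSup_le fun g => ?_
    obtain ⟨k, hk⟩ := g.2
    refine le_trans (le_of_eq (cj_mul n (g : G) d.V).symm) ?_
    exact le_iSup (fun g : {g : G // ∃ k, g ∈ d.P k} => cj (g : G) d.V)
      ⟨n * g, k + 1, 1, one_mem _, n, hn, g, hk, by rw [one_mul]⟩

/-- shifting a critical pair by a bad step -/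
theorem extend {k : ℕ} (hk : 1 ≤ k) (hb : d.Low (k + 1)) {x m h : G} (hx : x ∈ d.X)
    (hm : m ∈ normalizer (d.S : Set G)) (hh : h ∈ d.P k) (hne : ¬ cj (x * m * h) d.V ≤ d.Q)
    {y n : G} (hy : y ∈ d.X) (hyS : d.S ⊔ cj y d.S = d.X) (hn : n ∈ normalizer (d.S : Set G))
    (hbad : ¬ d.X ≤ normalizer (d.V ⊔ cj n d.V : Subgroup G)) :
    ¬ cj (h * (y * n)) d.V ≤ d.Q := by
  intro hcon
  apply hbad
  set g := x * m * h with hg
  have hgP : g ∈ d.P (k + 1) := ⟨x, hx, m, hm, h, hh, rfl⟩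
  have hU := d.front hb hx hm hh
  have hV := d.back hb hgP
  obtain ⟨-, h2, -⟩ := d.full hx hU hV hne
  obtain ⟨h4, -⟩ := d.full' hx hU hV hne
  have hnew : cj (g * (y * n)) d.V ≤ cj x d.S := by
    rw [hg, mul_assoc, cj_mul]
    refine (cj_mono _ (hcon.trans d.hQS)).trans ?_
    rw [cj_mul, cj_eq_of_mem hm]
  have hVn : d.V ≤ normalizer (cj g d.V : Set G) :=
    (hV.trans (cj_mono g d.hSX)).trans (cj_le_normalizer d.nV g)
  have hUU : ⁅d.V, cj g d.V⁆ ≤ cj g d.V := by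
    rw [commutator_le]
    intro v hv u hu
    rw [commutatorElement_def]
    exact mul_mem ((mem_normalizer_iff.1 (hVn hv) u).1 hu) (inv_mem hu)
  have hVW : d.V ≤ normalizer (cj g d.V ⊔ cj (g * (y * n)) d.V : Subgroup G) := by
    refine le_normalizer_of_forall fun v hv => ?_
    rw [cj_sup]
    refine sup_le ((cj_eq_of_mem (hVn hv)).le.trans le_sup_left) ?_
    rintro _ ⟨z, hz, rfl⟩
    change v * z * v⁻¹ ∈ _
    have : ⁅v, z⁆ ∈ cj g d.V := by
      refine hUU ?_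
      rw [h2, cj_comm, d.cj_V hx]
      exact commutator_mem_commutator hv (hnew hz)
    rw [show v * z * v⁻¹ = ⁅v, z⁆ * z by rw [commutatorElement_def]; group]
    exact mul_mem (mem_sup_left this) (mem_sup_right hz)
  have hSn : d.S ≤ normalizer (d.V ⊔ cj n d.V : Subgroup G) := by
    refine le_normalizer_of_forall fun s hs => ?_
    rw [cj_sup, d.cj_V (d.hSX hs), ← cj_mul, show s * n = n * (n⁻¹ * s * n) by group, cj_mul,
      d.cj_V (d.hSX ?_)]
    simpa using (mem_normalizer_iff.1 (inv_mem hn) s).1 hs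
  have hWe : cj (g * y) (d.V ⊔ cj n d.V) = cj g d.V ⊔ cj (g * (y * n)) d.V := by
    rw [cj_sup, cj_mul g y d.V, d.cj_V hy, ← cj_mul, mul_assoc]
  have h5 := cj_le_normalizer hVW (g * y)⁻¹
  rw [← hWe, cj_inv_left] at h5
  have h7 : d.X ≤ d.S ⊔ cj (g * y)⁻¹ d.V := by
    rw [← d.gen_inv hy hyS]
    refine sup_le le_sup_left ?_
    have : cj y⁻¹ d.S = cj (g * y)⁻¹ d.V ⊔ d.Q := by
      rw [← cj_inv_left g d.S, ← h4, cj_sup, cj_inv_left, cj_sup, ← cj_mul, d.cj_Q (inv_mem hy)]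
      simp only [g, mul_inv_rev, mul_assoc]
    rw [this]
    exact sup_le le_sup_right (d.hQS.trans le_sup_left)
  exact h7.trans (sup_le hSn h5)

/-- the periodic critical path -/
theorem periodic {k : ℕ} (hk : 1 ≤ k) (hb : d.Low (k + 1)) (hex : ∃ g ∈ d.P (k + 1), ¬ cj g d.V ≤ d.Q)
    {y n : G} (hy : y ∈ d.X) (hyS : d.S ⊔ cj y d.S = d.X) (hn : n ∈ normalizer (d.S : Set G))
    (hbad : ¬ d.X ≤ normalizer (d.V ⊔ cj n d.V : Subgroup G)) :
    ¬ cj ((y * n) ^ (k + 1)) d.V ≤ d.Q := by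
  have key : ∀ j l : ℕ, l + j = k + 1 → ∃ h ∈ d.P l, ¬ cj (h * (y * n) ^ j) d.V ≤ d.Q := by
    intro j
    induction j with
    | zero =>
      rintro l rfl
      obtain ⟨g, hg, hne⟩ := hex
      exact ⟨g, hg, by rwa [pow_zero, mul_one]⟩
    | succ j ih =>
      intro l hl
      obtain ⟨h, hh, hne⟩ := ih (l + 1) (by omega)
      obtain ⟨x, hx, m, hm, h', hh', rfl⟩ := hh
      refine ⟨h', hh', ?_⟩
      rw [pow_succ, ← mul_assoc]
      refine d.extend hk hb hx hm ?_ ?_ hy hyS hn hbad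
      · have := d.P_add hh' (d.P_pow hy hn j)
        rwa [show l + j = k by omega] at this
      · rwa [← mul_assoc]
  obtain ⟨h, hh, hne⟩ := key (k + 1) 0 (Nat.zero_add _)
  obtain rfl : h = 1 := hh
  rwa [one_mul] at hne

/-- the situation at critical distance two -/
structure Two (d : Amb G) (y n : G) : Prop where
  hy : y ∈ d.X
  hyS : d.S ⊔ cj y d.S = d.X
  hn : n ∈ normalizer (d.S : Set G)
  hmin : d.Low 2
  hcrit : ¬ cj ((y * n) ^ 2) d.V ≤ d.Q
  hHS : cj (y * n) d.S = cj y d.S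
  f1 : cj ((y * n) ^ 2) d.V ⊔ d.Q = cj y d.S
  f1' : cj ((y * n) ^ 2) d.V ⊓ d.Q ≤ cj ((y * n) ^ 2) (d.V ⊓ centralizer (d.S : Set G))
  f2 : ⁅d.V, cj ((y * n) ^ 2) d.V⁆ = cj y ⁅d.V, d.S⁆
  f3 : d.V ⊔ cj ((y * n) ^ 2) d.Q = cj ((y * n) ^ 2) d.S
  f4 : ⁅d.V, cj ((y * n) ^ 2) d.V⁆ = cj ((y * n) ^ 2) ⁅d.V, d.S⁆
  hR1C : cj (y * n) ⁅d.V, d.S⁆ ≤ centralizer (d.X : Set G)
  hR1V : cj (y * n) ⁅d.V, d.S⁆ ≤ d.V

/-- the conclusion -/
theorem exists_outside (hRS : ⁅d.V, d.S⁆ ≤ centralizer (d.S : Set G)) :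
    (∃ m ∈ normalizer (d.S : Set G), ¬ cj m d.V ≤ d.Q) ∨ ∃ y n, d.Two y n := by
  refine or_iff_not_imp_left.2 fun hcon => ?_
  push Not at hcon
  classical
  have hb0 := d.exists_dist
  obtain ⟨hex, hmin⟩ : (∃ g ∈ d.P (Nat.find hb0), ¬ cj g d.V ≤ d.Q) ∧ d.Low (Nat.find hb0) :=
    ⟨Nat.find_spec hb0, fun k hk g hg => by_contra fun h => Nat.find_min hb0 hk ⟨g, hg, h⟩⟩
  revert hex hmin
  generalize Nat.find hb0 = b
  intro hex hmin
  have hb2 : 2 ≤ b := by
    by_contra hlt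
    obtain ⟨g, hg, hne⟩ := hex
    interval_cases b
    · obtain rfl : g = 1 := hg
      exact hne (by rw [cj_one]; exact d.hVQ)
    · obtain ⟨x, hx, m, hm, h, hh, rfl⟩ := hg
      obtain rfl : h = 1 := hh
      rw [mul_one, cj_mul] at hne
      exact hne ((cj_mono x (hcon m hm)).trans (d.cj_Q hx).le)
  obtain ⟨k, rfl⟩ : ∃ k, b = k + 1 := ⟨b - 1, by omega⟩
  have hk : 1 ≤ k := by omega
  obtain ⟨n, hn, hbad⟩ := d.exists_bad
  obtain ⟨y, hy, hyS⟩ := d.move
  have hcrit := d.periodic hk hmin hex hy hyS hn hbad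
  set H := y * n with hH
  set R := ⁅d.V, d.S⁆ with hRdef
  have hHS : cj H d.S = cj y d.S := by rw [hH, cj_mul, cj_eq_of_mem hn]
  have hHP : H ∈ d.P 1 := d.P_one hy hn
  have hU : cj (H ^ (k + 1)) d.V ≤ cj y d.S := by
    rw [pow_succ', hH]; exact d.front hmin hy hn (d.P_pow hy hn k)
  have hV := d.back hmin (d.P_pow hy hn (k + 1))
  obtain ⟨f1, f2, f1'⟩ := d.full hy hU hV hcrit
  obtain ⟨f3, f4⟩ := d.full' hy hU hV hcrit
  have hUX := hU.trans (d.cjS_le hy)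
  have hgenX : d.X ≤ d.S ⊔ cj (H ^ (k + 1)) d.V := by
    rw [← hyS, ← f1]
    exact sup_le le_sup_left (sup_le le_sup_right (d.hQS.trans le_sup_left))
  -- a second critical pair through the clique of `S`
  have hleft : ¬ cj n d.V ≤ cj (H ^ k) d.Q := by
    intro hle
    apply hbad
    refine hgenX.trans (sup_le ?_ ?_)
    · refine le_normalizer_of_forall fun s hs => ?_
      rw [cj_sup, d.cj_V (d.hSX hs), ← cj_mul, show s * n = n * (n⁻¹ * s * n) by group, cj_mul,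
        d.cj_V (d.hSX ?_)]
      simpa using (mem_normalizer_iff.1 (inv_mem hn) s).1 hs
    · refine le_normalizer_of_forall fun u hu => ?_
      rw [cj_sup, d.cj_V (hUX hu)]
      refine sup_le le_sup_left ?_
      rintro _ ⟨z, hz, rfl⟩
      change u * z * u⁻¹ ∈ _
      have hz' : z ∈ cj (H ^ (k + 1)) d.S := by
        rw [pow_succ, cj_mul, hHS, ← cj_mul]
        have := hle hz
        rw [← d.cj_Q hy, ← cj_mul] at this
        exact cj_mono _ d.hQS this
      have h1 : ⁅u, z⁆ ∈ d.V := by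
        have : ⁅u, z⁆ ∈ cj (H ^ (k + 1)) R := by
          rw [hRdef, cj_comm]; exact commutator_mem_commutator hu hz'
        rw [← f4] at this
        refine (commutator_le.2 fun v hv w hw => ?_ : ⁅d.V, cj (H ^ (k + 1)) d.V⁆ ≤ d.V) this
        rw [commutatorElement_def, mul_assoc, mul_assoc]
        exact mul_mem hv
          (by simpa [mul_assoc] using (mem_normalizer_iff.1 (d.nV (hUX hw)) v⁻¹).1 (inv_mem hv))
      rw [show u * z * u⁻¹ = ⁅u, z⁆ * z by rw [commutatorElement_def]; group]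
      exact mul_mem (mem_sup_left h1) (mem_sup_right hz)
  have hgP : n⁻¹ * H ^ k ∈ d.P (k + 1) := ⟨1, one_mem _, n⁻¹, inv_mem hn, H ^ k, d.P_pow hy hn k, by group⟩
  have hU' : cj (n⁻¹ * H ^ k) d.V ≤ cj 1 d.S := by
    have := d.front hmin (one_mem d.X) (inv_mem hn) (d.P_pow hy hn k)
    rwa [one_mul] at this
  have hV' := d.back hmin hgP
  have hne' : ¬ cj (n⁻¹ * H ^ k) d.V ≤ d.Q := by
    intro h
    apply hleft
    rw [cj_le_iff', ← cj_mul]
    intro v hv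
    rw [mem_cj]
    refine d.hC 1 (one_mem _) ⟨by rw [cj_one]; exact mem_cj.1 (hV' hv), ?_⟩
    refine mem_centralizer_iff.2 fun u hu => ?_
    have e := d.commute_of_le h (conj_mem_cj hu) hv
    set g := n⁻¹ * H ^ k
    calc u * (g⁻¹ * v * g) = g⁻¹ * ((g * u * g⁻¹) * v) * g := by group
      _ = g⁻¹ * (v * (g * u * g⁻¹)) * g := by rw [e]
      _ = g⁻¹ * v * g * u := by group
  obtain ⟨-, g2, -⟩ := d.full (one_mem d.X) hU' hV' hne'
  obtain ⟨-, g4⟩ := d.full' (one_mem d.X) hU' hV' hne'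
  rw [cj_one, g4] at g2
  have hnR : cj n R = cj (H ^ k) R := by
    rw [hRdef]
    conv_lhs => rw [← g2, ← cj_mul, mul_inv_cancel_left]
  have hnZ := (d.Z_fixed hn).2 hRS
  have hcommHb : cj (H ^ (k + 1)) d.V ≤ centralizer (cj (H ^ k) d.V : Set G) := by
    rw [pow_succ, cj_mul, ← cj_centralizer]
    exact cj_mono _ ((hmin 1 (by omega) H hHP).trans d.hQV)
  have hnC : cj n R ≤ centralizer (d.X : Set G) := by
    rw [le_centralizer_iff]
    refine hgenX.trans (sup_le ?_ ?_)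
    · rw [le_centralizer_iff]; exact hnZ.trans inf_le_right
    · exact hcommHb.trans (centralizer_le (by rw [hnR]; exact cj_mono _ d.R_le_Z))
  have hfix : ∀ x ∈ d.X, ∀ K : Subgroup G, K ≤ centralizer (d.X : Set G) → cj x K = K := by
    intro x hx K hK
    refine cj_eq_of_mem (mem_normalizer_iff.2 fun z => ?_)
    constructor
    · intro hz
      rwa [show x * z * x⁻¹ = z by rw [mem_centralizer_iff.1 (hK hz) x hx]; group]
    · intro hz
      have e := mem_centralizer_iff.1 (hK hz) x hx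
      have : z = x * z * x⁻¹ := by
        calc z = x⁻¹ * (x * z * x⁻¹ * x) := by group
          _ = x⁻¹ * (x * (x * z * x⁻¹)) := by rw [e]
          _ = x * z * x⁻¹ := by group
      rwa [← this] at hz
  have hHR : cj H R = cj (H ^ k) R := by rw [← hnR, hH, cj_mul, hfix y hy _ hnC]
  rcases Nat.lt_or_ge k 2 with hlt | hge
  · obtain rfl : k = 1 := by omega
    have e : cj (y * n) R = cj n R := by rw [cj_mul, hfix y hy _ hnC]
    exact ⟨y, n, hy, hyS, hn, hmin, hcrit, hHS, f1, f1', f2, f3, f4, e ▸ hnC, e ▸ hnZ.trans inf_le_left⟩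
  · exfalso
    obtain ⟨j, rfl⟩ : ∃ j, k = j + 1 := ⟨k - 1, by omega⟩
    have hR' : R = cj (H ^ j) R := by
      conv_lhs => rw [← cj_inv_left H R, hHR, pow_succ', ← cj_mul, inv_mul_cancel_left]
    apply d.hR
    rw [← hRdef, le_centralizer_iff]
    refine hgenX.trans (sup_le ?_ ?_)
    · rw [le_centralizer_iff]; exact hRS
    · refine le_trans ?_ (centralizer_le (show (R : Set G) ⊆ cj (H ^ j) d.V by
        rw [hR']; exact cj_mono _ d.R_le_Z))
      rw [show j + 1 + 1 = j + 2 from rfl, pow_add, cj_mul, ← cj_centralizer]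
      exact cj_mono _ ((hmin 2 (by omega) _ (d.P_pow hy hn 2)).trans d.hQV)

end Amb

end Cfsg.Lib.BGN.P
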