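import Cfsg.Agent.Components.BGNP.Split
import Cfsg.Agent.Components.BGNP.Final
import Cfsg.Agent.Components.Misc.QdOver
import Cfsg.Agent.Components.PComponents
import Mathlib.GroupTheory.Transfer

/-!
Pushing up at distance one for `p ≥ 5`: in a maximal local subgroup the fixed part is central and has a complement
isomorphic to `Qd`.
-/

set_option autoImplicit false
set_option linter.unusedSectionVars false
set_option linter.style.haveILetI false

namespace Cfsg.Lib.BGN.P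

open Subgroup Matrix Cfsg.Lib.BGN Cfsg.Lib.Known.AutPSL2
open scoped commutatorElement

universe u v

variable {p : ℕ} [hp : Fact p.Prime] {G : Type u} [Group G] [Finite G]

namespace Sit

variable {F : Type v} [Field F] [Fintype F] {d : Sit p G F} (s : d.Split)

namespace Split

/-- the fixed part -/
abbrev E : Subgroup G := Cfsg.pCore p G ⊓ s.L

theorem E_le : s.E ≤ d.S := inf_le_left.trans d.c.core_le

theorem comm_VQ {w z : G} (hw : w ∈ s.V) (hz : z ∈ Cfsg.pCore p G) : z * w = w * z := by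
  obtain ⟨a, rfl⟩ := s.lv_surj w hw
  have h1 := s.conj z a
  rw [MonoidHom.mem_ker.1 (s.hker.symm ▸ hz), cone, Matrix.one_mulVec] at h1
  exact mul_inv_eq_iff_eq_mul.1 h1

theorem central_comm {e e' : G} (he : e ∈ s.E) (he' : e' ∈ s.E) : ⁅e, e'⁆ ∈ center G := by
  refine mem_center_iff.2 fun g => ?_
  obtain ⟨n, hn, f, hf, hfL, rfl⟩ := s.decN g
  have h1 : Commute n ⁅e, e'⁆ := by
    have he1 : Commute n e := hn e he.1 he.2
    have he2 : Commute n e' := hn e' he'.1 he'.2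
    rw [commutatorElement_def]
    exact ((he1.mul_right he2).mul_right he1.inv_right).mul_right he2.inv_right
  exact (h1.mul_left (s.hcls e (s.E_le he) e' (s.E_le he') f (s.E_le ⟨hf, hfL⟩)).symm).eq

theorem dichotomy {x : G} (hx : x ∈ d.S) :
    (∀ r ∈ d.S, ⁅x, r⁆ ∈ center G) ∨ ∃ r ∈ d.S, ⁅x, r⁆ ∈ s.V ∧ ⁅x, r⁆ ≠ 1 := by
  haveI := s.nV
  by_cases hxQ : x ∈ Cfsg.pCore p G
  · obtain ⟨w, hw, e, he, heL, rfl⟩ := s.decQ x hxQ
    by_cases hwr : ∀ r ∈ d.S, w * r = r * w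
    · refine Or.inl fun r hr => ?_
      obtain ⟨n, hn, f, hf, hfL, rfl⟩ := s.decN r
      have hne : ⁅e, n⁆ = 1 := commutatorElement_eq_one_iff_mul_comm.2 (hn e he heL).symm
      have e1 : ⁅w * e, n * f⁆ = w * (⁅e, n⁆ * (n * ⁅e, f⁆ * n⁻¹)) * w⁻¹ * ⁅w, n * f⁆ := by
        simp only [commutatorElement_def]; group
      rw [e1, hne, one_mul, mem_center_iff.1 (s.central_comm ⟨he, heL⟩ ⟨hf, hfL⟩) n, mul_inv_cancel_right,
        mem_center_iff.1 (s.central_comm ⟨he, heL⟩ ⟨hf, hfL⟩) w, mul_inv_cancel_right,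
        commutatorElement_eq_one_iff_mul_comm.2 (hwr _ hr), mul_one]
      exact s.central_comm ⟨he, heL⟩ ⟨hf, hfL⟩
    · push Not at hwr
      obtain ⟨r, hr, hne⟩ := hwr
      obtain ⟨n, hn, f, hf, hfL, rfl⟩ := s.decN r
      have hnS : n ∈ d.S := by simpa using mul_mem hr (inv_mem (s.E_le ⟨hf, hfL⟩))
      have hfw : f * w = w * f := s.comm_VQ hw hf
      have hen : ⁅e, n⁆ = 1 := commutatorElement_eq_one_iff_mul_comm.2 (hn e he heL).symm
      have e1 : ⁅w * e, n⁆ = ⁅w, n⁆ := by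
        rw [show ⁅w * e, n⁆ = w * ⁅e, n⁆ * w⁻¹ * ⁅w, n⁆ by simp only [commutatorElement_def]; group, hen]
        group
      refine Or.inr ⟨n, hnS, ?_, fun h => hne ?_⟩
      · rw [e1, commutatorElement_def, mul_assoc, mul_assoc]
        exact mul_mem hw (by simpa [mul_assoc] using Normal.conj_mem inferInstance _ (inv_mem hw) n)
      · rw [e1, commutatorElement_eq_one_iff_mul_comm] at h
        rw [← mul_assoc, h, mul_assoc, ← hfw, ← mul_assoc]
  · have hρx : s.ρ x ≠ 1 := fun h => hxQ (s.hker ▸ MonoidHom.mem_ker.2 h)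
    obtain ⟨a, ha⟩ : ∃ a, (s.ρ x : Matrix (Fin 2) (Fin 2) F) *ᵥ a ≠ a := by
      by_contra h
      push Not at h
      refine hρx (sl_ext (Matrix.ext fun i j => ?_))
      have := congrFun (h (Pi.single j 1)) i
      simpa [cone, Matrix.one_apply, Pi.single_apply] using this
    refine Or.inr ⟨s.lv a, d.c.core_le (s.VQ (s.lv_mem a)), ?_, fun h => ha (s.lv_inj ?_)⟩
    · rw [commutatorElement_def]
      exact mul_mem (Normal.conj_mem inferInstance _ (s.lv_mem a) x) (inv_mem (s.lv_mem a))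
    · rw [← s.conj, mul_inv_eq_iff_eq_mul]
      exact commutatorElement_eq_one_iff_mul_comm.1 h

theorem comm_L {x y : G} (hxS : x ∈ d.S) (hxL : x ∈ s.L) (hyS : y ∈ d.S) (hyL : y ∈ s.L)
    (hE : s.E ≤ center G) : x * y = y * x := by
  haveI := s.nV
  haveI := d.c.core_normal
  obtain ⟨a, ha, b, hb, hab, hax, hby⟩ := s.abQ x hxS y hyS
  obtain ⟨w, hw, e, he, heL, hwe⟩ := s.decQ _ hax
  obtain ⟨w', hw', e', he', heL', hwe'⟩ := s.decQ _ hby
  refine commutatorElement_eq_one_iff_mul_comm.1 (s.hVL _ ?_ ?_)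
  · rw [← QuotientGroup.eq_one_iff (N := s.V), ← QuotientGroup.mk'_apply, map_commutatorElement,
      commutatorElement_eq_one_iff_mul_comm]
    set q := QuotientGroup.mk' s.V
    have hx : q x = q a * q e := by
      rw [show x = a * (w * e) by rw [hwe]; group, map_mul, map_mul,
        show q w = 1 from (QuotientGroup.eq_one_iff _).2 hw, one_mul]
    have hy : q y = q b * q e' := by
      rw [show y = b * (w' * e') by rw [hwe']; group, map_mul, map_mul,
        show q w' = 1 from (QuotientGroup.eq_one_iff _).2 hw', one_mul]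
    have hc : ∀ {z}, z ∈ s.E → ∀ g, Commute (q g) (q z) := fun {z} hz g =>
      (show Commute g z from mem_center_iff.1 (hE hz) g).map q
    have hab' : Commute (q a) (q b) := (show Commute a b from hab).map q
    rw [hx, hy]
    exact ((hab'.mul_right (hc ⟨he', heL'⟩ a)).mul_left
      ((hc ⟨he, heL⟩ b).symm.mul_right (hc ⟨he', heL'⟩ e))).eq
  · exact s.L.mul_mem (s.L.mul_mem (s.L.mul_mem hxL hyL) (s.L.inv_mem hxL)) (s.L.inv_mem hyL)

theorem index_eq : ((d.S).subgroupOf s.L).index = d.S.index := by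
  haveI := s.nV
  rw [index_eq_card, index_eq_card]
  refine Nat.card_eq_of_bijective (fun q : ↥s.L ⧸ d.S.subgroupOf s.L => (QuotientGroup.mk (q.out : G) : G ⧸ d.S))
    ⟨fun q r h => ?_, fun g => ?_⟩
  · rw [← QuotientGroup.out_eq' q, ← QuotientGroup.out_eq' r]
    exact QuotientGroup.eq.2 (mem_subgroupOf.2 (by simpa using QuotientGroup.eq.1 h))
  · obtain ⟨g, rfl⟩ := QuotientGroup.mk_surjective g
    obtain ⟨w, hw, m, hm, rfl⟩ := s.dec g
    set q : ↥s.L ⧸ d.S.subgroupOf s.L := QuotientGroup.mk ⟨m, hm⟩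
    refine ⟨q, ?_⟩
    obtain ⟨k, hk⟩ := QuotientGroup.mk_out_eq_mul (d.S.subgroupOf s.L) ⟨m, hm⟩
    show QuotientGroup.mk (q.out : G) = _
    rw [hk, QuotientGroup.eq]
    show (m * ((k : ↥s.L) : G))⁻¹ * (w * m) ∈ d.S
    rw [show (m * ((k : ↥s.L) : G))⁻¹ * (w * m) = ((k : ↥s.L) : G)⁻¹ * (m⁻¹ * w * m) by group]
    refine mul_mem (inv_mem (mem_subgroupOf.1 k.2)) (d.c.core_le (s.VQ ?_))
    simpa using Normal.conj_mem inferInstance w hw m⁻¹

theorem exists_proj (hp5 : 5 ≤ p) (hE : s.E ≤ center G) :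
    ∃ φ : ↥s.L →* G, (∀ x, φ x ∈ s.E) ∧ (∀ x : ↥s.L, (x : G) ∈ Cfsg.pCore p G → φ x = 1 → (x : G) = 1) ∧
      ∀ x : ↥s.L, ∃ e : ↥s.L, (e : G) ∈ s.E ∧ φ e = φ x := by
  classical
  haveI : CharP F p := charP_of_card_eq_prime_pow d.c.hF
  obtain ⟨τ, hτL, hτ⟩ := s.tau
  set P := d.S.subgroupOf s.L with hP
  have h3F : (3 : F) ≠ 0 := fun h => by
    have : p ∣ 3 := (CharP.cast_eq_zero_iff F p 3).1 (by exact_mod_cast h)
    exact absurd (Nat.le_of_dvd (by norm_num) this) (by omega)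
  obtain ⟨m, hm⟩ : ∃ m : ℕ, (3 : F) * (m : F) = 1 := by
    refine ⟨3 ^ (p - 2), mul_right_cancel₀ h3F ?_⟩
    rw [one_mul, Nat.cast_pow]
    haveI : ExpChar F p := ExpChar.prime hp.out
    have h := map_natCast (frobenius F p) 3
    rw [frobenius_def] at h
    push_cast at h ⊢
    rw [← pow_succ', ← pow_succ, show p - 2 + 1 + 1 = p by omega, h]
  have hconjS : ∀ x : ↥P, ∃ y, s.ρ ((x : ↥s.L) : G) = uS y ∧
      s.ρ (⁅τ, ((x : ↥s.L) : G)⁆) = uS (3 * y) := by
    intro x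
    obtain ⟨y, hy⟩ := (s.hS _).1 (mem_subgroupOf.1 x.2)
    refine ⟨y, hy, ?_⟩
    rw [map_commutatorElement, hy, commutatorElement_def]
    have e1 : s.ρ τ * uS y * (s.ρ τ)⁻¹ = uS (3 * y) * uS y := by
      have h2F : (2 : F) ≠ 0 := fun h => by
        have : p ∣ 2 := (CharP.cast_eq_zero_iff F p 2).1 (by exact_mod_cast h)
        exact absurd (Nat.le_of_dvd (by norm_num) this) (by omega)
      rw [← uS_add, mul_inv_eq_iff_eq_mul]
      refine sl_ext ?_
      rw [cmul, cmul, coe_uS, coe_uS, hτ]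
      ext i j; fin_cases i <;> fin_cases j <;> simp [Matrix.mul_apply, Fin.sum_univ_two] <;> field_simp <;> ring
    rw [e1, mul_inv_cancel_right]
  have hcS : ∀ x : ↥P, ⁅τ, ((x : ↥s.L) : G)⁆ ∈ d.S ∧ ⁅τ, ((x : ↥s.L) : G)⁆ ∈ s.L := fun x => by
    obtain ⟨y, -, hy⟩ := hconjS x
    exact ⟨(s.hS _).2 ⟨_, hy⟩,
      s.L.mul_mem (s.L.mul_mem (s.L.mul_mem hτL (x : ↥s.L).2) (s.L.inv_mem hτL)) (s.L.inv_mem (x : ↥s.L).2)⟩
  have hPS : ∀ x : ↥P, ((x : ↥s.L) : G) ∈ d.S ∧ ((x : ↥s.L) : G) ∈ s.L := fun x =>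
    ⟨mem_subgroupOf.1 x.2, (x : ↥s.L).2⟩
  letI : CommGroup ↥s.E :=
    { (inferInstance : Group ↥s.E) with
      mul_comm := fun a b => Subtype.ext (mem_center_iff.1 (hE b.2) a) }
  let π₀ : ↥P →* ↥s.E := MonoidHom.mk'
    (fun x => ⟨((x : ↥s.L) : G) * (⁅τ, ((x : ↥s.L) : G)⁆ ^ m)⁻¹, by
      refine ⟨?_, s.L.mul_mem (x : ↥s.L).2 (s.L.inv_mem (s.L.pow_mem (hcS x).2 m))⟩
      obtain ⟨y, hy, hy'⟩ := hconjS x
      rw [← s.hker]
      refine MonoidHom.mem_ker.2 ?_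
      rw [map_mul, map_inv, map_pow, hy, hy', uS_pow,
        show (m : F) * (3 * y) = (3 * (m : F)) * y by ring, hm, one_mul, mul_inv_cancel]⟩)
    (fun x y => Subtype.ext (by
      show ((x : ↥s.L) : G) * ((y : ↥s.L) : G) * (⁅τ, ((x : ↥s.L) : G) * ((y : ↥s.L) : G)⁆ ^ m)⁻¹ =
        ((x : ↥s.L) : G) * (⁅τ, ((x : ↥s.L) : G)⁆ ^ m)⁻¹ * (((y : ↥s.L) : G) * (⁅τ, ((y : ↥s.L) : G)⁆ ^ m)⁻¹)
      set a := ((x : ↥s.L) : G)
      set b := ((y : ↥s.L) : G)
      have hc : ∀ {u w}, u ∈ d.S ∧ u ∈ s.L → w ∈ d.S ∧ w ∈ s.L → Commute u w := fun hu hw =>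
        s.comm_L hu.1 hu.2 hw.1 hw.2 hE
      have e1 : ⁅τ, a * b⁆ = ⁅τ, a⁆ * ⁅τ, b⁆ := by
        rw [show ⁅τ, a * b⁆ = ⁅τ, a⁆ * (a * ⁅τ, b⁆ * a⁻¹) by simp only [commutatorElement_def]; group,
          (hc (hPS x) (hcS y)).eq, mul_inv_cancel_right]
      rw [e1, (hc (hcS x) (hcS y)).mul_pow, _root_.mul_inv_rev,
        ((((hc (hcS y) (hcS x)).pow_left m).pow_right m).inv_left.inv_right).eq]
      have h1 : Commute b ((⁅τ, a⁆ ^ m)⁻¹) := ((hc (hPS y) (hcS x)).pow_right m).inv_right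
      simp only [← mul_assoc]
      rw [mul_assoc a b, h1.eq]
      simp only [← mul_assoc]
      rfl))
  have hEP : ∀ {e : ↥s.L}, (e : G) ∈ s.E → e ∈ P := fun he => mem_subgroupOf.2 (s.E_le he)
  have hπ : ∀ (e : ↥P), ((e : ↥s.L) : G) ∈ s.E → (π₀ e : G) = ((e : ↥s.L) : G) := fun e he => by
    show ((e : ↥s.L) : G) * (⁅τ, ((e : ↥s.L) : G)⁆ ^ m)⁻¹ = _
    rw [commutatorElement_eq_one_iff_mul_comm.2 (mem_center_iff.1 (hE he) τ), one_pow, inv_one, mul_one]
  have hφ : ∀ e : ↥s.L, (e : G) ∈ s.E → (MonoidHom.transfer π₀ e : G) = (e : G) ^ P.index := by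
    intro e he
    have hec : ∀ g : ↥s.L, g * e = e * g := fun g => Subtype.ext (mem_center_iff.1 (hE he) g)
    have key : ∀ (k : ℕ) (g₀ : ↥s.L), g₀⁻¹ * e ^ k * g₀ ∈ P → g₀⁻¹ * e ^ k * g₀ = e ^ k := fun k g₀ _ => by
      rw [mul_assoc, ← ((show Commute g₀ e from hec g₀).pow_right k).eq, inv_mul_cancel_left]
    rw [MonoidHom.transfer_eq_pow π₀ e key, hπ]
    · simp
    · simpa using pow_mem he P.index
  have hcop : (Nat.card ↥s.E).Coprime P.index := by
    haveI : (d.c.S : Subgroup G).FiniteIndex := inferInstance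
    obtain ⟨k, hk⟩ := IsPGroup.iff_card.1 (d.c.S.2.to_le s.E_le : IsPGroup p ↥s.E)
    rw [hk, hP, s.index_eq]
    exact ((hp.out.coprime_iff_not_dvd).2 d.c.S.not_dvd_index).pow_left k
  refine ⟨s.E.subtype.comp (MonoidHom.transfer π₀), fun x => (MonoidHom.transfer π₀ x).2, fun x hx h => ?_,
    fun x => ?_⟩
  · have he : (x : G) ∈ s.E := ⟨hx, x.2⟩
    have h1 : (x : G) ^ P.index = 1 := (hφ x he).symm.trans h
    have h2 : (powCoprime hcop) ⟨x, he⟩ = powCoprime hcop 1 := by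
      rw [powCoprime_one]; exact Subtype.ext h1
    exact congrArg Subtype.val ((powCoprime hcop).injective h2)
  · obtain ⟨e, he⟩ := (powCoprime hcop).surjective (MonoidHom.transfer π₀ x)
    refine ⟨⟨e, e.2.2⟩, e.2, ?_⟩
    show (MonoidHom.transfer π₀ (⟨e, e.2.2⟩ : ↥s.L) : G) = (MonoidHom.transfer π₀ x : G)
    rw [hφ _ e.2, ← he]
    rfl

theorem exists_equiv (hp5 : 5 ≤ p) (hE : s.E ≤ center G) :
    ∃ Ψ : ↥(Cfsg.qdOver F) →* G, Function.Injective Ψ ∧ (∀ x, Ψ x ∈ s.E → Ψ x = 1) ∧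
      ∀ g, ∃ x, ∃ e ∈ s.E, Ψ x * e = g := by
  classical
  obtain ⟨φ, hφE, hφinj, hφsurj⟩ := s.exists_proj hp5 hE
  have hQρ : ∀ {g}, g ∈ Cfsg.pCore p G → s.ρ g = 1 := fun {g} hg => MonoidHom.mem_ker.1 (s.hker.symm ▸ hg)
  have hsplit : ∀ g, ∃ w ∈ s.V, ∃ k : ↥φ.ker, ∃ e ∈ s.E, w * ((k : ↥s.L) : G) * e = g := by
    intro g
    obtain ⟨w, hw, m, hm, rfl⟩ := s.dec g
    obtain ⟨e, he, hee⟩ := hφsurj ⟨m, hm⟩
    refine ⟨w, hw, ⟨⟨m, hm⟩ * e⁻¹, by rw [MonoidHom.mem_ker, map_mul, map_inv, hee, mul_inv_cancel]⟩, e, he, ?_⟩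
    show w * (m * (e : G)⁻¹) * (e : G) = w * m
    group
  let r : ↥φ.ker →* Matrix.SpecialLinearGroup (Fin 2) F := s.ρ.comp (s.L.subtype.comp φ.ker.subtype)
  have hrinj : Function.Injective r := (injective_iff_map_eq_one r).2 fun k hk =>
    Subtype.ext (Subtype.ext (hφinj k (s.hker ▸ MonoidHom.mem_ker.2 hk) k.2))
  have hrsurj : Function.Surjective r := fun M => by
    obtain ⟨g, rfl⟩ := s.hρ M
    obtain ⟨w, hw, k, e, he, rfl⟩ := hsplit g
    refine ⟨k, ?_⟩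
    show s.ρ _ = _
    rw [map_mul, map_mul, hQρ (s.VQ hw), hQρ he.1, one_mul, mul_one]
    rfl
  let σ := (MulEquiv.ofBijective r ⟨hrinj, hrsurj⟩).symm
  let sg : Matrix.SpecialLinearGroup (Fin 2) F →* G := (s.L.subtype.comp φ.ker.subtype).comp σ.toMonoidHom
  have hsg : ∀ M, s.ρ (sg M) = M := fun M => (MulEquiv.ofBijective r ⟨hrinj, hrsurj⟩).apply_symm_apply M
  have hsgL : ∀ M, sg M ∈ s.L := fun M => ((σ M : ↥φ.ker) : ↥s.L).2
  let Ψ : ↥(Cfsg.qdOver F) →* G := MonoidHom.mk'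
    (fun x => s.lv (Cfsg.Lib.Misc.QdOver.trans x) * sg (Cfsg.Lib.Misc.QdOver.lin x)) (fun x y => by
      have he : x * y = Cfsg.Lib.Misc.QdOver.mk (Cfsg.Lib.Misc.QdOver.lin x * Cfsg.Lib.Misc.QdOver.lin y)
          ((Cfsg.Lib.Misc.QdOver.lin x : Matrix (Fin 2) (Fin 2) F).mulVec (Cfsg.Lib.Misc.QdOver.trans y) +
            Cfsg.Lib.Misc.QdOver.trans x) := by
        rw [← Cfsg.Lib.Misc.QdOver.mk_mul, Cfsg.Lib.Misc.QdOver.mk_eta, Cfsg.Lib.Misc.QdOver.mk_eta]
      rw [he, Cfsg.Lib.Misc.QdOver.trans_mk, Cfsg.Lib.Misc.QdOver.lin_mk, add_comm, s.lv_add, map_mul]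
      have hc := s.conj (sg (Cfsg.Lib.Misc.QdOver.lin x)) (Cfsg.Lib.Misc.QdOver.trans y)
      rw [hsg] at hc
      rw [← hc]
      group)
  have hkey : ∀ x e, e ∈ s.E → Ψ x = e → Cfsg.Lib.Misc.QdOver.trans x = 0 ∧ Cfsg.Lib.Misc.QdOver.lin x = 1 := by
    intro x e he hxe
    have hxe' : s.lv (Cfsg.Lib.Misc.QdOver.trans x) * sg (Cfsg.Lib.Misc.QdOver.lin x) = e := hxe
    have h1 := congrArg s.ρ hxe'
    rw [map_mul, hsg, hQρ (s.VQ (s.lv_mem _)), hQρ he.1, one_mul] at h1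
    refine ⟨?_, h1⟩
    rw [h1, map_one, mul_one] at hxe'
    have h2 := s.hVL _ (s.lv_mem _) (hxe' ▸ he.2)
    refine s.lv_inj (h2.trans ?_)
    have h0 := s.lv_add 0 0
    rw [add_zero, left_eq_mul] at h0
    exact h0.symm
  have hzero : ∀ x e, e ∈ s.E → Ψ x = e → x = 1 := fun x e he hxe => by
    obtain ⟨h1, h2⟩ := hkey x e he hxe
    rw [← Cfsg.Lib.Misc.QdOver.mk_eta x, h1, h2, Cfsg.Lib.Misc.QdOver.mk_one]
  refine ⟨Ψ, (injective_iff_map_eq_one Ψ).2 fun x hx => hzero x 1 (one_mem _) hx,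
    fun x hx => by rw [hzero x _ hx rfl, map_one], fun g => ?_⟩
  obtain ⟨w, hw, k, e, he, rfl⟩ := hsplit g
  obtain ⟨a, rfl⟩ := s.lv_surj w hw
  refine ⟨Cfsg.Lib.Misc.QdOver.mk (r k) a, e, he, ?_⟩
  show s.lv _ * sg _ * e = _
  rw [Cfsg.Lib.Misc.QdOver.trans_mk, Cfsg.Lib.Misc.QdOver.lin_mk]
  show s.lv a * (((σ (r k) : ↥φ.ker) : ↥s.L) : G) * e = _
  rw [show σ (r k) = k from (MulEquiv.ofBijective r ⟨hrinj, hrsurj⟩).symm_apply_apply k]

end Split

end Sit

section Local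

variable {H : Type u} [Group H] [Finite H] {F : Type v} [Field F] [Fintype F]

theorem exists_qd (hp5 : 5 ≤ p) (K : Subgroup H)
    (hmax : ∀ R : Subgroup H, IsPGroup p ↥R → R ≠ ⊥ → K ≤ normalizer (R : Set H) → normalizer (R : Set H) = K)
    (d : Sit p ↥K F) (hd : NoChar d.c) (hN : ¬ normalizer ((d.S.map K.subtype : Subgroup H) : Set H) ≤ K) :
    ∃ G₀ E : Subgroup H, Cfsg.IsInternalDirectProduct G₀ E K ∧ Cfsg.IsElementaryAbelian p E ∧
      Nonempty (↥G₀ ≃* ↥(Cfsg.qdOver F)) := by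
  obtain ⟨x, hx, hxK⟩ := SetLike.not_le_iff_exists.1 hN
  obtain ⟨A, hA⟩ := (d.exists_split hd).resolve_right fun ⟨a, y, n, ha, t⟩ => by
    obtain ⟨e, -⟩ := d.exists_dist2 ha t
    obtain ⟨fr, ρ, hρ, hnW, hnM, hfol⟩ := d.exists_rho₂ e
    have := d.eq_three e hρ hnW hnM hfol
    omega
  obtain ⟨fr, ρ, hρ, hn, hfol⟩ := d.exists_rho
  obtain ⟨s⟩ := d.exists_split_data hA hρ hn hfol hp5 hd
  haveI : CharP F p := charP_of_card_eq_prime_pow d.c.hF
  have h2F : (2 : F) ≠ 0 := fun h => by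
    have : p ∣ 2 := (CharP.cast_eq_zero_iff F p 2).1 (by exact_mod_cast h)
    exact absurd (Nat.le_of_dvd (by norm_num) this) (by omega)
  -- the local subgroup is selfnormalizing
  have hself : ∀ y : H, (∀ g : H, g ∈ K ↔ y * g * y⁻¹ ∈ K) → y ∈ K := by
    intro y hy
    set QH := (Cfsg.pCore p ↥K).map K.subtype
    have hchar : ∀ z : H, (∀ g : H, g ∈ K ↔ z * g * z⁻¹ ∈ K) → z ∈ normalizer (QH : Set H) := by
      intro z hz
      let c : ↥K ≃* ↥K :=
        { toFun := fun g => ⟨z * g * z⁻¹, (hz g).1 g.2⟩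
          invFun := fun g => ⟨z⁻¹ * g * z, (hz _).2 (by simpa [mul_assoc] using g.2)⟩
          left_inv := fun g => Subtype.ext (by simp [mul_assoc])
          right_inv := fun g => Subtype.ext (by simp [mul_assoc])
          map_mul' := fun a b => Subtype.ext (by
            show z * ((a : H) * b) * z⁻¹ = z * a * z⁻¹ * (z * b * z⁻¹)
            group) }
      have hc := Cfsg.Lib.Components.pCore_map_equiv (p := p) c
      have hle : cj z QH = QH := by
        refine le_antisymm ?_ ?_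
        · rintro _ ⟨_, ⟨g, hg, rfl⟩, rfl⟩
          exact ⟨c g, hc.le (mem_map_of_mem _ hg), rfl⟩
        · rintro _ ⟨g, hg, rfl⟩
          obtain ⟨g', hg', rfl⟩ := hc.ge hg
          exact ⟨(g' : H), mem_map_of_mem K.subtype hg', rfl⟩
      refine mem_normalizer_iff.2 fun g => ⟨fun hg => hle.le (conj_mem_cj hg), fun hg => ?_⟩
      have := mem_cj.1 (hle.ge hg)
      simpa [mul_assoc] using this
    have hne : QH ≠ ⊥ := fun h => by
      have h1 : Cfsg.pCore p ↥K = ⊥ := (Subgroup.map_eq_bot_iff_of_injective _ K.subtype_injective).1 h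
      have h2 : d.W = ⊥ := le_bot_iff.1 (d.W_le_core.trans h1.le)
      exact d.not_comm_central (by rw [h2, commutator_bot_left]; exact bot_le)
    have h := hmax QH ((Cfsg.Lib.Components.pCore_normal_and_isPGroup p).2.map _) hne fun k hk =>
      hchar k fun g => ⟨fun hg => K.mul_mem (K.mul_mem hk hg) (K.inv_mem hk), fun hg => by
        have := K.mul_mem (K.mul_mem (K.inv_mem hk) hg) hk
        simpa [mul_assoc] using this⟩
    exact h.le (hchar y hy)
  -- central elements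
  have hfix : ∀ z : ↥K, z ∈ center ↥K → z ≠ 1 → z ^ p = 1 →
      normalizer (zpowers (z : H) : Set H) = K := by
    intro z hz hz1 hzp
    have h1 : (z : H) ^ p = 1 := by simpa using congrArg Subtype.val hzp
    have hne : (z : H) ≠ 1 := fun h => hz1 (Subtype.ext h)
    refine hmax _ (fun w => ?_) (fun h => hne (zpowers_eq_bot.1 h)) (le_normalizer_of_forall fun k hk => ?_)
    · refine ⟨1, Subtype.ext ?_⟩
      obtain ⟨i, hi⟩ := mem_zpowers_iff.1 w.2
      show (w : H) ^ p ^ 1 = 1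
      rw [← hi, pow_one, ← zpow_natCast, ← _root_.zpow_mul, mul_comm, _root_.zpow_mul, zpow_natCast, h1, _root_.one_zpow]
    · rw [cj, MonoidHom.map_zpowers, zpowers_le]
      show k * (z : H) * k⁻¹ ∈ zpowers (z : H)
      have := congrArg Subtype.val (mem_center_iff.1 hz ⟨k, hk⟩)
      simp only [Subgroup.coe_mul] at this
      rw [this, mul_inv_cancel_right]
      exact mem_zpowers _
  have hxS : ∀ w ∈ d.S, ∃ w' ∈ d.S, (w' : H) = x⁻¹ * (w : H) * x ∧ ∃ w'' ∈ d.S, (w'' : H) = x * (w : H) * x⁻¹ := by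
    intro w hw
    obtain ⟨w', hw', e'⟩ := (mem_normalizer_iff.1 (inv_mem hx) (w : H)).1 (mem_map_of_mem K.subtype hw)
    obtain ⟨w'', hw'', e''⟩ := (mem_normalizer_iff.1 hx (w : H)).1 (mem_map_of_mem K.subtype hw)
    exact ⟨w', hw', by simpa using e', w'', hw'', by simpa using e''⟩
  -- the fixed part is commutative
  have hab : ∀ a ∈ s.E, ∀ b ∈ s.E, a * b = b * a := by
    intro a ha b hb
    by_contra hne
    set z := ⁅a, b⁆
    have hz : z ∈ center ↥K := s.central_comm ha hb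
    have hz1 : z ≠ 1 := fun h => hne (commutatorElement_eq_one_iff_mul_comm.1 h)
    have haS := s.E_le ha
    have hbS := s.E_le hb
    have hzS : z ∈ d.S := mul_mem (mul_mem (mul_mem haS hbS) (inv_mem haS)) (inv_mem hbS)
    have hzp := s.hpow z hzS
    obtain ⟨a', ha', ea, -⟩ := hxS a haS
    rcases s.dichotomy ha' with h | ⟨r, hr, hrV, hr1⟩
    · obtain ⟨b', hb', eb, -⟩ := hxS b hbS
      set z' := ⁅a', b'⁆
      have ez : (z' : H) = x⁻¹ * (z : H) * x := by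
        simp only [z', z, commutatorElement_def, Subgroup.coe_mul, Subgroup.coe_inv, ea, eb]
        group
      have hz'1 : z' ≠ 1 := fun h' => hz1 (Subtype.ext (by
        rw [h', Subgroup.coe_one, eq_comm, mul_eq_one_iff_eq_inv] at ez
        exact mul_eq_left.1 ez))
      have hz'p : z' ^ p = 1 := s.hpow z' (mul_mem (mul_mem (mul_mem ha' hb') (inv_mem ha')) (inv_mem hb'))
      refine hxK (hself x fun g => ?_)
      have h1 := hfix z hz hz1 hzp
      have h2 := hfix z' (h b' hb') hz'1 hz'p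
      have e1 : zpowers (z' : H) = cj x⁻¹ (zpowers (z : H)) := by
        rw [cj, MonoidHom.map_zpowers, ez]
        simp
      rw [e1] at h2
      constructor
      · intro hg
        rw [← h1]
        refine mem_normalizer_iff.2 fun w => ?_
        have := mem_normalizer_iff.1 (h2.ge hg) (x⁻¹ * w * x)
        rw [mem_cj, mem_cj] at this
        convert this using 2 <;> group
      · intro hg
        rw [← h2]
        refine mem_normalizer_iff.2 fun w => ?_
        have := mem_normalizer_iff.1 (h1.ge hg) (x * w * x⁻¹)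
        rw [mem_cj, mem_cj]
        convert this using 2 <;> group
    · obtain ⟨r', hr', er, rx, hrx, erx⟩ := hxS r hr
      set z' := ⁅a, rx⁆
      have hz' : z' ∈ center ↥K := by
        obtain ⟨n, hn', f, hf, hfL, hnf⟩ := s.decN rx
        have h1 : ⁅a, n⁆ = 1 := commutatorElement_eq_one_iff_mul_comm.2 (hn' a ha.1 ha.2).symm
        have e1 : z' = n * ⁅a, f⁆ * n⁻¹ := by
          simp only [z', ← hnf]
          rw [show ⁅a, n * f⁆ = ⁅a, n⁆ * (n * ⁅a, f⁆ * n⁻¹) by simp only [commutatorElement_def]; group, h1, one_mul]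
        rw [e1]
        have hc := s.central_comm ha ⟨hf, hfL⟩
        rw [mem_center_iff.1 hc n, mul_inv_cancel_right]
        exact hc
      have ez : (z' : H) = x * ((⁅a', r⁆ : ↥K) : H) * x⁻¹ := by
        simp only [z', commutatorElement_def, Subgroup.coe_mul, Subgroup.coe_inv, ea, erx]
        group
      obtain ⟨c, hc⟩ := s.lv_surj _ hrV
      have hc0 : c ≠ 0 := fun h => hr1 (by
        rw [← hc, h]
        have h0 := s.lv_add 0 0
        rwa [add_zero, left_eq_mul] at h0)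
      have hz'1 : z' ≠ 1 := fun h => hr1 (Subtype.ext (by
        rw [h, Subgroup.coe_one, eq_comm, mul_inv_eq_one, mul_eq_left] at ez
        exact ez))
      have hz'p : z' ^ p = 1 := s.hpow z' (mul_mem (mul_mem (mul_mem haS hrx) (inv_mem haS)) (inv_mem hrx))
      -- an element doubling
      obtain ⟨M, hM⟩ : ∃ M : Matrix.SpecialLinearGroup (Fin 2) F, (M : Matrix (Fin 2) (Fin 2) F) *ᵥ c = c + c := by
        by_cases h0 : c 0 = 0
        · refine ⟨⟨!![2⁻¹, 0; 0, 2], by simp [det_fin_two, h2F]⟩, funext fun i => ?_⟩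
          fin_cases i <;> simp [Matrix.mulVec, dotProduct, Fin.sum_univ_two, h0, two_mul]
        · refine ⟨⟨!![2, 0; (c 1 * (2 - 2⁻¹)) / c 0, 2⁻¹], by simp [det_fin_two, h2F]⟩, funext fun i => ?_⟩
          fin_cases i <;> simp [Matrix.mulVec, dotProduct, Fin.sum_univ_two, two_mul]
          field_simp
          ring
      obtain ⟨g, hg⟩ := s.hρ M
      have h2 : g * ⁅a', r⁆ * g⁻¹ = ⁅a', r⁆ * ⁅a', r⁆ := by
        rw [← hc, s.conj, hg, hM, s.lv_add]
      set y := x * (g : H) * x⁻¹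
      have hyz : y * (z' : H) * y⁻¹ = (z' : H) * (z' : H) := by
        have h3 := congrArg Subtype.val h2
        simp only [Subgroup.coe_mul, Subgroup.coe_inv] at h3
        rw [ez]
        calc x * (g : H) * x⁻¹ * (x * ((⁅a', r⁆ : ↥K) : H) * x⁻¹) * (x * (g : H) * x⁻¹)⁻¹
            = x * ((g : H) * ((⁅a', r⁆ : ↥K) : H) * (g : H)⁻¹) * x⁻¹ := by group
          _ = _ := by rw [h3]; group
      have hyK : y ∈ K := by
        rw [← hfix z' hz' hz'1 hz'p]
        have hle : cj y (zpowers (z' : H)) ≤ zpowers (z' : H) := by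
          rw [cj, MonoidHom.map_zpowers, zpowers_le]
          show y * (z' : H) * y⁻¹ ∈ _
          rw [hyz]
          exact mul_mem (mem_zpowers _) (mem_zpowers _)
        have heq : cj y (zpowers (z' : H)) = zpowers (z' : H) :=
          Subgroup.eq_of_le_of_card_ge hle (card_cj _ _).ge
        refine mem_normalizer_iff.2 fun w => ⟨fun hw => hle (conj_mem_cj hw), fun hw => ?_⟩
        have := mem_cj.1 (heq.ge hw)
        simpa [mul_assoc] using this
      have := congrArg Subtype.val (mem_center_iff.1 hz' ⟨y, hyK⟩)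
      simp only [Subgroup.coe_mul] at this
      rw [this, mul_inv_cancel_right, left_eq_mul] at hyz
      exact hz'1 (Subtype.ext hyz)
  have hE : s.E ≤ center ↥K := fun e he => mem_center_iff.2 fun g => by
    obtain ⟨n, hn', f, hf, hfL, rfl⟩ := s.decN g
    exact ((show Commute n e from hn' e he.1 he.2).mul_left (hab f ⟨hf, hfL⟩ e he)).eq
  obtain ⟨Ψ, hinj, hint, hgen⟩ := s.exists_equiv hp5 hE
  refine ⟨Ψ.range.map K.subtype, s.E.map K.subtype,
    ⟨map_subtype_le _, map_subtype_le _, ?_, ?_, ?_⟩, ⟨?_, ?_⟩, ⟨?_⟩⟩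
  · rintro _ ⟨a, -, rfl⟩ _ ⟨b, hb, rfl⟩
    rw [← map_mul, ← map_mul, mem_center_iff.1 (hE hb) a]
  · rw [← map_inf _ _ _ K.subtype_injective, Subgroup.map_eq_bot_iff_of_injective _ K.subtype_injective, eq_bot_iff]
    rintro _ ⟨⟨a, rfl⟩, ha⟩
    exact mem_bot.2 (hint a ha)
  · rw [← Subgroup.map_sup]
    refine le_antisymm (map_subtype_le _) fun h hh => ?_
    obtain ⟨a, e, he, hae⟩ := hgen ⟨h, hh⟩
    exact ⟨⟨h, hh⟩, hae ▸ mul_mem_sup ⟨a, rfl⟩ he, rfl⟩
  · refine ⟨⟨?_⟩⟩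
    rintro ⟨_, a, ha, rfl⟩ ⟨_, b, hb, rfl⟩
    exact Subtype.ext (show (a : H) * b = b * a from congrArg Subtype.val (hab a ha b hb))
  · rintro _ ⟨a, ha, rfl⟩
    rw [← map_pow, s.hpow a (s.E_le ha), map_one]
  · exact ((MonoidHom.ofInjective hinj).trans (equivMapOfInjective _ K.subtype K.subtype_injective)).symm

end Local

end Cfsg.Lib.BGN.P
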