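import Cfsg.Agent.Components.BGNP.Two

/-!
Pushing up at distance one for `p ≥ 5`: the centralizer of the central element of the quotient splits off the module.
-/

set_option autoImplicit false
set_option linter.unusedSectionVars false
set_option linter.style.haveILetI false

namespace Cfsg.Lib.BGN.P

open Subgroup Matrix Cfsg.Lib.BGN Cfsg.Lib.Known.AutPSL2
open scoped commutatorElement

universe u v

variable {p : ℕ} [hp : Fact p.Prime] {G : Type u} [Group G] [Finite G]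

theorem uS_zero' {F : Type v} [Field F] : (uS (0 : F) : Matrix.SpecialLinearGroup (Fin 2) F) = 1 :=
  sl_ext (by rw [coe_uS, cone]; simp [one_fin_two])

theorem uS_pow {F : Type v} [Field F] (x : F) (k : ℕ) :
    (uS x : Matrix.SpecialLinearGroup (Fin 2) F) ^ k = uS ((k : F) * x) := by
  induction k with
  | zero => rw [pow_zero, Nat.cast_zero, zero_mul, uS_zero']
  | succ k ih => rw [pow_succ, ih, ← uS_add]; push_cast; rw [add_mul, one_mul]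

namespace Sit

variable {F : Type v} [Field F] [Fintype F] (d : Sit p G F)

include d

/-- the split quotient -/
structure Split where
  ρ : G →* Matrix.SpecialLinearGroup (Fin 2) F
  hρ : Function.Surjective ρ
  hker : ρ.ker = Cfsg.pCore p G
  V : Subgroup G
  L : Subgroup G
  lv : (Fin 2 → F) → G
  lv_mem : ∀ a, lv a ∈ V
  lv_add : ∀ a b, lv (a + b) = lv a * lv b
  lv_inj : Function.Injective lv
  lv_surj : ∀ w ∈ V, ∃ a, lv a = w
  conj : ∀ g a, g * lv a * g⁻¹ = lv ((ρ g : Matrix (Fin 2) (Fin 2) F) *ᵥ a)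
  VQ : V ≤ Cfsg.pCore p G
  nV : V.Normal
  hVL : ∀ w ∈ V, w ∈ L → w = 1
  dec : ∀ g, ∃ w ∈ V, ∃ l ∈ L, w * l = g
  decQ : ∀ z ∈ Cfsg.pCore p G, ∃ w ∈ V, ∃ e ∈ Cfsg.pCore p G, e ∈ L ∧ w * e = z
  decN : ∀ g, ∃ n, (∀ e ∈ Cfsg.pCore p G, e ∈ L → n * e = e * n) ∧ ∃ e ∈ Cfsg.pCore p G, e ∈ L ∧ n * e = g
  hpow : ∀ s ∈ d.S, s ^ p = 1
  hcls : ∀ a ∈ d.S, ∀ b ∈ d.S, ∀ s ∈ d.S, Commute ⁅a, b⁆ s
  hS : ∀ g, g ∈ d.S ↔ ∃ x, ρ g = uS x
  tau : ∃ τ ∈ L, (ρ τ : Matrix (Fin 2) (Fin 2) F) = !![2, 0; 0, 2⁻¹]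
  abQ : ∀ s ∈ d.S, ∀ r ∈ d.S, ∃ a ∈ d.S, ∃ b ∈ d.S, a * b = b * a ∧
    a⁻¹ * s ∈ Cfsg.pCore p G ∧ b⁻¹ * r ∈ Cfsg.pCore p G

variable {A : Subgroup G} (hA : d.Out A) {fr : d.Frame} {ρ : G →* Matrix.SpecialLinearGroup (Fin 2) F}
  (hρ : Function.Surjective ρ) (hn : Nat' ρ d.W d.C) (hfol : d.Follows fr ρ) (hp5 : 5 ≤ p)

include hA hρ hn hfol hp5

theorem exists_split_data (hd : NoChar d.c) : Nonempty d.Split := by
  classical
  haveI := d.c.core_normal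
  haveI := d.W_normal
  haveI := d.C_normal
  haveI : CharP F p := charP_of_card_eq_prime_pow d.c.hF
  set Q := Cfsg.pCore p G with hQdef
  have hker : ρ.ker = Q := d.out_ker hA hn
  have hp2 : p ≠ 2 := by omega
  have hQW : ∀ z ∈ Q, ∀ w ∈ d.W, z * w = w * z := fun z hz w hw =>
    (mem_centralizer_iff.1 (d.core_le_centralizer hz) w hw).symm
  have hkerQ : ∀ g, ρ g = 1 → g ∈ Q := fun g hg => hker ▸ MonoidHom.mem_ker.2 hg
  have hQker : ∀ g ∈ Q, ρ g = 1 := fun g hg => MonoidHom.mem_ker.1 (hker.symm ▸ hg)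
  obtain ⟨hcls2, -, -, hexp⟩ := d.out_structure hA hd
  have hpow : ∀ s ∈ d.S, s ^ p = 1 := fun s hs => by
    have h := Monoid.pow_exponent_eq_one (⟨s, hs⟩ : ↥d.S)
    rw [hexp hp2] at h
    simpa using congrArg Subtype.val h
  have hQpow : ∀ z ∈ Q, z ^ p = 1 := fun z hz => hpow z (d.c.core_le hz)
  -- the Sylow subgroup
  have hS : ∀ g, g ∈ d.S ↔ ∃ x, ρ g = uS x := by
    intro g
    constructor
    · intro hg
      obtain ⟨x, hx⟩ := fr.hS.le (mem_map_of_mem fr.f hg)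
      exact ⟨x.toAdd, hfol.1 x.toAdd g hg hx.symm⟩
    · rintro ⟨x, hx⟩
      obtain ⟨s, hs, hse⟩ := fr.hS.ge (⟨Multiplicative.ofAdd x, rfl⟩ : π (uS x) ∈ (u (F := F)).range)
      have h1 : g * s⁻¹ ∈ Q := hkerQ _ (by rw [map_mul, map_inv, hx, hfol.1 x s hs hse, mul_inv_cancel])
      simpa using mul_mem (d.c.core_le h1) hs
  -- arithmetic
  have hnz : ∀ k : ℕ, 0 < k → k < p → ((k : ℕ) : F) ≠ 0 := fun k h0 hk h =>
    absurd (Nat.le_of_dvd h0 ((CharP.cast_eq_zero_iff F p k).1 h)) (not_le.2 hk)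
  have h2F : (2 : F) ≠ 0 := by exact_mod_cast hnz 2 (by omega) (by omega)
  have h3F : (3 : F) ≠ 0 := by exact_mod_cast hnz 3 (by omega) (by omega)
  obtain ⟨h2, j, hh⟩ : ∃ h j, 2 * h = p * j + 1 := by
    obtain ⟨i, hi⟩ := hp.out.odd_of_ne_two hp2
    exact ⟨i + 1, 1, by omega⟩
  have hsqrt : ∀ w : G, w ^ p = 1 → (w ^ h2) * (w ^ h2) = w := fun w hw => by
    rw [← pow_add, ← two_mul, hh, pow_succ, pow_mul, hw, one_pow, one_mul]
  -- the central element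
  obtain ⟨t, htc, ht⟩ : ∃ t : G, (orderOf t).Coprime p ∧ ρ t = negOne := by
    obtain ⟨g, hg⟩ := hρ negOne
    obtain ⟨k, m, hm, hkm⟩ := Nat.exists_eq_pow_mul_and_not_dvd (orderOf_pos g).ne' p hp.out.ne_one
    refine ⟨g ^ p ^ k, ?_, ?_⟩
    · rw [orderOf_pow_of_dvd (pow_ne_zero _ hp.out.ne_zero) ⟨m, hkm⟩, hkm,
        Nat.mul_div_cancel_left _ (pow_pos hp.out.pos _)]
      exact ((hp.out.coprime_iff_not_dvd).2 hm).symm
    · rw [map_pow, hg]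
      have hodd : Odd (p ^ k) := (hp.out.odd_of_ne_two hp2).pow
      obtain ⟨i, hi⟩ := hodd
      refine sl_ext ?_
      rw [Matrix.SpecialLinearGroup.coe_pow]
      show (-1 : Matrix (Fin 2) (Fin 2) F) ^ (p ^ k) = -1
      rw [hi, pow_succ, pow_mul, neg_one_sq, one_pow, one_mul]
  have hcomm0 : ∀ g, t * g * t⁻¹ * g⁻¹ ∈ Q := fun g => hkerQ _ (by
    have hneg : ρ g * negOne = negOne * ρ g := sl_ext (by
      rw [cmul, cmul]
      show (ρ g : Matrix (Fin 2) (Fin 2) F) * -1 = -1 * (ρ g : Matrix (Fin 2) (Fin 2) F)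
      simp)
    rw [map_mul, map_mul, map_mul, map_inv, map_inv, ht, ← hneg, mul_inv_cancel_right, mul_inv_cancel])
  have hCc : ∀ {c}, c ∈ d.C → ∀ g, g * c = c * g := fun {c} hc g => mem_center_iff.1 hc.2 g
  let V : Subgroup G :=
    { carrier := {w | w ∈ d.W ∧ t * w * t⁻¹ = w⁻¹}
      one_mem' := ⟨one_mem _, by simp⟩
      mul_mem' := fun {a b} ha hb => ⟨mul_mem ha.1 hb.1, by
        rw [show t * (a * b) * t⁻¹ = (t * a * t⁻¹) * (t * b * t⁻¹) by group, ha.2, hb.2,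
          ← _root_.mul_inv_rev, d.W_comm hb.1 ha.1]⟩
      inv_mem' := fun {a} ha => ⟨inv_mem ha.1, by
        rw [show t * a⁻¹ * t⁻¹ = (t * a * t⁻¹)⁻¹ by group, ha.2]⟩ }
  have hVQ : V ≤ Q := fun w hw => d.W_le_core hw.1
  set L := centralizer ({t} : Set G) with hLdef
  have hL : ∀ {g}, g ∈ L ↔ t * g * t⁻¹ = g := fun {g} => by
    rw [hLdef, mem_centralizer_singleton_iff, mul_inv_eq_iff_eq_mul, eq_comm]
  have hVL : ∀ w ∈ V, w ∈ L → w = 1 := fun w hw hwL => by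
    have h1 : w = w⁻¹ := (hL.1 hwL).symm.trans hw.2
    have h2' : w * w = 1 := by nth_rw 2 [h1]; exact mul_inv_cancel w
    rw [← hsqrt w (d.W_pow hw.1), ← pow_add, ← two_mul, pow_mul, pow_two, h2', one_pow]
  have hVC : ∀ w ∈ V, w ∈ d.C → w = 1 := fun w hw hwC => hVL w hw (hL.2 (by
    rw [hCc hwC t, mul_inv_cancel_right]))
  have hsplitW : ∀ w ∈ d.W, ∃ v ∈ V, ∃ c ∈ d.C, v * c = w := by
    intro w hw
    set c₀ := t * w * t⁻¹ * w with hc₀def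
    have hc₀ : c₀ ∈ d.C := d.inverted hn ht hw
    refine ⟨w * (c₀ ^ h2)⁻¹, ⟨mul_mem hw (inv_mem (pow_mem hc₀.1 _)), ?_⟩, c₀ ^ h2, pow_mem hc₀ _, by group⟩
    have hc : t * c₀ ^ h2 * t⁻¹ = c₀ ^ h2 := by rw [hCc (pow_mem hc₀ h2) t, mul_inv_cancel_right]
    calc t * (w * (c₀ ^ h2)⁻¹) * t⁻¹ = (t * w * t⁻¹ * w) * w⁻¹ * (t * c₀ ^ h2 * t⁻¹)⁻¹ := by group
      _ = c₀ * w⁻¹ * (c₀ ^ h2)⁻¹ := by rw [hc]
      _ = (c₀ ^ h2 * c₀ ^ h2) * w⁻¹ * (c₀ ^ h2)⁻¹ := by rw [hsqrt c₀ (d.W_pow hc₀.1)]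
      _ = c₀ ^ h2 * (c₀ ^ h2 * w⁻¹) * (c₀ ^ h2)⁻¹ := by group
      _ = c₀ ^ h2 * (w⁻¹ * c₀ ^ h2) * (c₀ ^ h2)⁻¹ := by rw [hCc (pow_mem hc₀ h2) w⁻¹]
      _ = (w * (c₀ ^ h2)⁻¹)⁻¹ := by group
  have hnV : V.Normal := ⟨fun w hw g => ⟨Normal.conj_mem inferInstance w hw.1 g, by
    set n := t * g * t⁻¹ * g⁻¹
    have hw' : g * w⁻¹ * g⁻¹ ∈ d.W := Normal.conj_mem inferInstance _ (inv_mem hw.1) g
    calc t * (g * w * g⁻¹) * t⁻¹ = n * (g * (t * w * t⁻¹) * g⁻¹) * n⁻¹ := by simp only [n]; group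
      _ = n * (g * w⁻¹ * g⁻¹) * n⁻¹ := by rw [hw.2]
      _ = g * w⁻¹ * g⁻¹ := by rw [hQW n (hcomm0 g) _ hw', mul_inv_cancel_right]
      _ = (g * w * g⁻¹)⁻¹ := by group⟩⟩
  -- coordinates
  obtain ⟨l, hadd, hsurj, hlker, hequi⟩ := hn
  have hl : ∀ a, ∃ w ∈ V, l w = a := fun a => by
    obtain ⟨w, hw, rfl⟩ := hsurj a
    obtain ⟨v, hv, c, hc, rfl⟩ := hsplitW w hw
    exact ⟨v, hv, by rw [hadd v hv.1 c hc.1, (hlker c hc.1).2 hc, add_zero]⟩
  have huniq : ∀ w ∈ V, ∀ w' ∈ V, l w = l w' → w = w' := fun w hw w' hw' he => by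
    have hm : w⁻¹ * w' ∈ V := mul_mem (inv_mem hw) hw'
    have h1 := hadd w hw.1 _ hm.1
    rw [mul_inv_cancel_left, ← he, left_eq_add] at h1
    exact inv_mul_eq_one.1 (hVC _ hm ((hlker _ hm.1).1 h1))
  choose lv hlv hlvl using hl
  -- the quotient
  have hdecQ : ∀ z ∈ Q, ∃ w ∈ V, ∃ e ∈ Q, e ∈ L ∧ w * e = z := by
    intro z hz
    have hw : t * z * t⁻¹ * z⁻¹ ∈ d.W := by
      have := inv_mem (d.out_triv hA t htc z hz)
      rwa [commutatorElement_inv, commutatorElement_def] at this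
    obtain ⟨v, hv, c, hc, hvc⟩ := hsplitW _ hw
    have hv1 : v ^ h2 ∈ V := pow_mem hv _
    have hz' : t * (v ^ h2 * z) * t⁻¹ = c * (v ^ h2 * z) := by
      calc t * (v ^ h2 * z) * t⁻¹ = (t * v ^ h2 * t⁻¹) * (t * z * t⁻¹ * z⁻¹) * z := by group
        _ = (v ^ h2)⁻¹ * ((v ^ h2 * v ^ h2) * c) * z := by rw [hv1.2, ← hvc, hsqrt v (d.W_pow hv.1)]
        _ = (v ^ h2 * c) * z := by group
        _ = c * (v ^ h2 * z) := by rw [hCc hc, mul_assoc]
    have hc1 : c = 1 := coprime_fix (x := v ^ h2 * z) htc hz' (hCc hc t) ⟨1, by rw [pow_one]; exact d.W_pow hc.1⟩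
    rw [hc1, one_mul] at hz'
    exact ⟨(v ^ h2)⁻¹, inv_mem hv1, v ^ h2 * z, mul_mem (hVQ hv1) hz, hL.2 hz', by group⟩
  have hdec : ∀ g, ∃ w ∈ V, ∃ m ∈ L, w * m = g := by
    intro g
    obtain ⟨v, hv, e, he, heL, hve⟩ := hdecQ _ (hcomm0 g)
    have hv1 : v ^ h2 ∈ V := pow_mem hv _
    have hg' : t * (v ^ h2 * g) * t⁻¹ = e * (v ^ h2 * g) := by
      calc t * (v ^ h2 * g) * t⁻¹ = (t * v ^ h2 * t⁻¹) * (t * g * t⁻¹ * g⁻¹) * g := by group
        _ = (v ^ h2)⁻¹ * ((v ^ h2 * v ^ h2) * e) * g := by rw [hv1.2, ← hve, hsqrt v (d.W_pow hv.1)]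
        _ = (v ^ h2 * e) * g := by group
        _ = e * (v ^ h2 * g) := by rw [← hQW e he _ hv1.1, mul_assoc]
    have hte : t * e = e * t := by
      calc t * e = t * e * t⁻¹ * t := by group
        _ = e * t := by rw [hL.1 heL]
    have he1 : e = 1 := coprime_fix (x := v ^ h2 * g) htc hg' hte ⟨1, by rw [pow_one]; exact hQpow e he⟩
    rw [he1, one_mul] at hg'
    exact ⟨(v ^ h2)⁻¹, inv_mem hv1, v ^ h2 * g, hL.2 hg', by group⟩
  -- the torus element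
  have hfrob : (2 : F) ^ p = 2 := by
    haveI : ExpChar F p := ExpChar.prime hp.out
    have h := map_natCast (frobenius F p) 2
    rw [frobenius_def] at h
    exact_mod_cast h
  obtain ⟨δ, hδ⟩ : ∃ δ : Matrix.SpecialLinearGroup (Fin 2) F, (δ : Matrix (Fin 2) (Fin 2) F) = !![2, 0; 0, 2⁻¹] :=
    ⟨⟨!![2, 0; 0, 2⁻¹], by simp [det_fin_two, h2F]⟩, rfl⟩
  have hδpow : ∀ k : ℕ, ((δ ^ k : Matrix.SpecialLinearGroup (Fin 2) F) : Matrix (Fin 2) (Fin 2) F) =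
      !![2 ^ k, 0; 0, (2⁻¹) ^ k] := by
    intro k
    induction k with
    | zero => rw [pow_zero, cone]; simp [one_fin_two]
    | succ k ih =>
      rw [pow_succ, cmul, ih, hδ]
      ext i j; fin_cases i <;> fin_cases j <;> simp [Matrix.mul_apply, Fin.sum_univ_two, pow_succ]
  have hδp : δ ^ p = δ := sl_ext (by rw [hδpow, hδ, hfrob, inv_pow, hfrob])
  have hδpk : ∀ k, δ ^ p ^ k = δ := fun k => by
    induction k with
    | zero => simp
    | succ k ih => rw [pow_succ, pow_mul, ih, hδp]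
  obtain ⟨τ, hτc, hτL, hτ⟩ : ∃ τ : G, (orderOf τ).Coprime p ∧ τ ∈ L ∧ ρ τ = δ := by
    obtain ⟨g, hg⟩ := hρ δ
    obtain ⟨w, hw, m, hm, rfl⟩ := hdec g
    rw [map_mul, hQker w (hVQ hw), one_mul] at hg
    obtain ⟨k, r, hr, hkr⟩ := Nat.exists_eq_pow_mul_and_not_dvd (orderOf_pos m).ne' p hp.out.ne_one
    refine ⟨m ^ p ^ k, ?_, pow_mem hm _, by rw [map_pow, hg, hδpk]⟩
    rw [orderOf_pow_of_dvd (pow_ne_zero _ hp.out.ne_zero) ⟨r, hkr⟩, hkr,
      Nat.mul_div_cancel_left _ (pow_pos hp.out.pos _)]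
    exact ((hp.out.coprime_iff_not_dvd).2 hr).symm
  -- the centralizer of the fixed part
  set E := Q ⊓ L with hEdef
  have hEn : E.Normal := ⟨fun e he g => by
    obtain ⟨w, hw, m, hm, rfl⟩ := hdec g
    have h1 : m * e * m⁻¹ ∈ E :=
      ⟨Normal.conj_mem inferInstance e he.1 m, L.mul_mem (L.mul_mem hm he.2) (L.inv_mem hm)⟩
    rw [show w * m * e * (w * m)⁻¹ = w * (m * e * m⁻¹) * w⁻¹ by group, ← hQW _ h1.1 w hw.1, mul_inv_cancel_right]
    exact h1⟩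
  haveI := hEn
  set N := centralizer (E : Set G) with hNdef
  have hτN : τ ∈ N := mem_centralizer_iff.2 fun e he => by
    have h1 : ⁅τ, e⁆ ∈ d.W := by rw [← commutatorElement_inv]; exact inv_mem (d.out_triv hA τ hτc e he.1)
    have h2' : ⁅τ, e⁆ ∈ L := mul_mem (mul_mem (mul_mem hτL he.2) (inv_mem hτL)) (inv_mem he.2)
    obtain ⟨v, hv, c, hc, hvc⟩ := hsplitW _ h1
    have hcL : c ∈ L := hL.2 (by rw [hCc hc t, mul_inv_cancel_right])
    have hv1 : v = 1 := hVL v hv (by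
      have := mul_mem (hvc.symm ▸ h2' : v * c ∈ L) (inv_mem hcL)
      simpa using this)
    rw [hv1, one_mul] at hvc
    exact (commute_of_central hτc (d.W_pow h1) (hvc ▸ hc.2)).symm
  have hNQ : N ⊔ Q = ⊤ := by
    have hsn : d.S ≤ N ⊔ Q := by
      intro s hs
      obtain ⟨x, hx⟩ := (hS s).1 hs
      obtain ⟨r, hr, hre⟩ := fr.hS.ge (⟨Multiplicative.ofAdd (x / 3), rfl⟩ : π (uS (x / 3)) ∈ (u (F := F)).range)
      have hρr := hfol.1 (x / 3) r hr hre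
      set c := τ * (r * τ⁻¹ * r⁻¹)
      have hcN : c ∈ N := mul_mem hτN ((inferInstance : N.Normal).conj_mem _ (inv_mem hτN) r)
      have hconj : ρ c * uS (x / 3) = uS x * uS (x / 3) := by
        simp only [c, map_mul, map_inv, hρr, hτ]
        rw [← uS_add]
        have e1 : δ * uS (x / 3) * δ⁻¹ = uS (x + x / 3) := by
          rw [mul_inv_eq_iff_eq_mul]
          refine sl_ext ?_
          rw [cmul, cmul, coe_uS, coe_uS, hδ]
          ext i j; fin_cases i <;> fin_cases j <;>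
            simp [Matrix.mul_apply, Fin.sum_univ_two] <;> field_simp <;> ring
        rw [← e1]; group
      have h1 : c⁻¹ * s ∈ Q := hkerQ _ (by rw [map_mul, map_inv, hx, mul_right_cancel hconj, inv_mul_cancel])
      simpa using mul_mem (mem_sup_left hcN : c ∈ N ⊔ Q) (mem_sup_right h1)
    refine top_le_iff.1 (fr.far.ge.trans (sup_le hsn ?_))
    exact (cj_mono _ hsn).trans (cj_eq_of_mem ((normalizer_eq_top (H := N ⊔ Q)).ge (mem_top _))).le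
  have hdecN : ∀ g, ∃ n, (∀ e ∈ Q, e ∈ L → n * e = e * n) ∧ ∃ e ∈ Q, e ∈ L ∧ n * e = g := by
    intro g
    have hg : g ∈ N ⊔ Q := hNQ.ge (mem_top g)
    rw [← SetLike.mem_coe, coe_mul_of_left_le_normalizer_right _ _
      (fun y _ => (normalizer_eq_top (H := Q)).ge (mem_top y))] at hg
    obtain ⟨n, hn', z, hz, rfl⟩ := hg
    obtain ⟨w, hw, e, he, heL, rfl⟩ := hdecQ z hz
    refine ⟨n * w, fun f hf hfL => ?_, e, he, heL, by group⟩
    have h1 : Commute f n := mem_centralizer_iff.1 hn' f ⟨hf, hfL⟩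
    exact (h1.mul_right (hQW f hf w hw.1)).symm.eq
  refine ⟨{
    ρ := ρ, hρ := hρ, hker := hker, V := V, L := L, lv := lv, lv_mem := hlv
    lv_add := fun a b => huniq _ (hlv _) _ (mul_mem (hlv a) (hlv b)) (by
      rw [hadd _ (hlv a).1 _ (hlv b).1, hlvl, hlvl, hlvl])
    lv_inj := fun a b h => by rw [← hlvl a, ← hlvl b, h]
    lv_surj := fun w hw => ⟨l w, huniq _ (hlv _) _ hw (hlvl _)⟩
    conj := fun g a => huniq _ (hnV.conj_mem _ (hlv a) g) _ (hlv _) (by rw [hequi g _ (hlv a).1, hlvl, hlvl])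
    VQ := hVQ, nV := hnV, hVL := hVL, dec := hdec, decQ := hdecQ, decN := hdecN, hpow := hpow
    hcls := fun a ha b hb s hs => ?_, hS := hS, tau := ⟨τ, hτL, by rw [hτ, hδ]⟩, abQ := fun s hs r hr => ?_ }⟩
  · refine commutatorElement_eq_one_iff_mul_comm.1 (mem_bot.1 ?_)
    rw [← hcls2]
    exact commutator_mem_commutator (commutator_mem_commutator ha hb) hs
  · obtain ⟨a, ha, q, hq, rfl⟩ := d.out_mem_S hA hs
    obtain ⟨b, hb, q', hq', rfl⟩ := d.out_mem_S hA hr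
    exact ⟨a, hA.le ha, b, hA.le hb, hA.ab a ha b hb, by simpa using hq, by simpa using hq'⟩

end Sit

end Cfsg.Lib.BGN.P
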