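import Cfsg.Agent.Components.BGNP.Path

/-!
Critical distance two inside the ambient group: the two sections.
-/

set_option autoImplicit false
set_option linter.unusedSectionVars false

namespace Cfsg.Lib.BGN.P

open Subgroup Cfsg.Lib.BGN
open scoped commutatorElement

universe u

variable {G : Type u} [Group G] [Finite G]

/-- a product with a normalised subgroup -/
theorem card_mul_eq {W N S : Subgroup G} (hWS : W ≤ S) (hS : S ≤ normalizer (N : Set G)) (hN : N ≤ S)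
    (hsup : W ⊔ N = S) : Nat.card W * Nat.card N = Nat.card S * Nat.card ↥(W ⊓ N) := by
  refine le_antisymm ?_ ?_
  · rw [← hsup]; exact card_mul_le_sup W N
  have hmem : ∀ z ∈ S, ∃ w ∈ W, ∃ n ∈ N, w * n = z := fun z hz => by
    rw [← hsup, ← SetLike.mem_coe, coe_mul_of_left_le_normalizer_right _ _ (hWS.trans hS)] at hz
    exact hz
  choose fw hfw fn hfn he using hmem
  let Φ : ↥S × ↥(W ⊓ N) → ↥W × ↥N := fun x =>
    (⟨fw x.1 x.1.2 * x.2, W.mul_mem (hfw _ _) x.2.2.1⟩, ⟨(x.2 : G)⁻¹ * fn x.1 x.1.2, N.mul_mem (N.inv_mem x.2.2.2) (hfn _ _)⟩)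
  have hinj : Function.Injective Φ := by
    rintro ⟨s, c⟩ ⟨s', c'⟩ h
    have h1 : fw s s.2 * c = fw s' s'.2 * c' := congrArg Subtype.val (congrArg Prod.fst h)
    have h2 : (c : G)⁻¹ * fn s s.2 = (c' : G)⁻¹ * fn s' s'.2 := congrArg Subtype.val (congrArg Prod.snd h)
    have hs : s = s' := Subtype.ext (by
      calc (s : G) = (fw s s.2 * c) * ((c : G)⁻¹ * fn s s.2) := by rw [mul_assoc, mul_inv_cancel_left, he]
        _ = (fw s' s'.2 * c') * ((c' : G)⁻¹ * fn s' s'.2) := by rw [h1, h2]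
        _ = (s' : G) := by rw [mul_assoc, mul_inv_cancel_left, he])
    subst hs
    rw [mul_right_inj] at h1
    exact Prod.ext rfl (Subtype.ext h1)
  have := Nat.card_le_card_of_injective Φ hinj
  rwa [Nat.card_prod, Nat.card_prod] at this

namespace Amb

/-- the facts about the shape which the path argument does not need -/
structure Extra (d : Amb G) (p : ℕ) : Prop where
  hab : ∀ a ∈ d.S, ∀ b ∈ d.S, ⁅a, b⁆ ∈ d.Q
  hZC : Nat.card ↥(d.V ⊓ centralizer (d.S : Set G)) = d.q * Nat.card ↥(d.V ⊓ centralizer (d.X : Set G))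
  hRS : ⁅d.V, d.S⁆ ≤ centralizer (d.S : Set G)
  hp : ∀ v ∈ d.V, v ^ p = 1

variable (d : Amb G)

/-- `Z` -/
abbrev aZ : Subgroup G := d.V ⊓ centralizer (d.S : Set G)
/-- the left neighbour -/
abbrev aA (H : G) : Subgroup G := cj H⁻¹ d.V
/-- the right neighbour -/
abbrev aB (H : G) : Subgroup G := cj H d.V
/-- the vertex two steps to the left -/
abbrev aA2 (H : G) : Subgroup G := cj (H ^ 2)⁻¹ d.V
/-- the vertex two steps to the right -/
abbrev aU2 (H : G) : Subgroup G := cj (H ^ 2) d.V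
/-- the module of the neighbours -/
abbrev aW (H : G) : Subgroup G := ⨆ x : ↥d.X, cj (x : G) (d.aA H ⊔ d.aB H)
/-- its line -/
abbrev aZM (H : G) : Subgroup G := d.aW H ⊓ cj H⁻¹ d.Q
/-- its radical -/
abbrev aK (H : G) : Subgroup G := d.aZM H ⊓ cj H d.Q
/-- the part of `Q` fixing both neighbours -/
abbrev aD (H : G) : Subgroup G := d.Q ⊓ cj H⁻¹ d.Q ⊓ cj H d.Q

/-- elements of `X` centralizing `k` modulo `V` -/
def fixMod (k : G) : Subgroup G where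
  carrier := {g | g ∈ d.X ∧ ⁅k, g⁆ ∈ d.V}
  one_mem' := ⟨one_mem _, by rw [commutatorElement_one_right]; exact one_mem _⟩
  mul_mem' := by
    rintro a b ⟨ha, ha'⟩ ⟨hb, hb'⟩
    refine ⟨mul_mem ha hb, ?_⟩
    rw [show ⁅k, a * b⁆ = ⁅k, a⁆ * (a * ⁅k, b⁆ * a⁻¹) by simp only [commutatorElement_def]; group]
    exact mul_mem ha' ((mem_normalizer_iff.1 (d.nV ha) _).1 hb')
  inv_mem' := by
    rintro a ⟨ha, ha'⟩
    refine ⟨inv_mem ha, ?_⟩
    rw [show ⁅k, a⁻¹⁆ = a⁻¹ * ⁅k, a⁆⁻¹ * a⁻¹⁻¹ by simp only [commutatorElement_def]; group]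
    exact (mem_normalizer_iff.1 (d.nV (inv_mem ha)) _).1 (inv_mem ha')

variable {d} {p : ℕ} {y n : G} (t : d.Two y n) (e : d.Extra p)

include t e

/-- the list of facts at distance two -/
structure TwoFacts (d : Amb G) (p : ℕ) (H y : G) : Prop where
  hy : y ∈ d.X
  gen : d.S ⊔ cj y d.S = d.X
  AQ : d.aA H ≤ d.Q
  BQ : d.aB H ≤ d.Q
  WQ : d.aW H ≤ d.Q
  WX : d.X ≤ normalizer (d.aW H : Set G)
  ABW : d.aA H ⊔ d.aB H ≤ d.aW H
  VW : d.V ≤ d.aW H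
  VK : d.V ≤ d.aK H
  WQcomm : ∀ w ∈ d.aW H, ∀ z ∈ d.Q, ⁅w, z⁆ ∈ d.V ⊓ centralizer (d.X : Set G)
  kD : d.aK H ≤ d.aD H
  decQ : ∀ z ∈ d.Q, ∃ w ∈ d.aW H, ∃ k ∈ d.aD H, w * k = z
  decW : ∀ w ∈ d.aW H, ∃ a ∈ d.aA H, ∃ b ∈ d.aB H, ∃ k ∈ d.aK H, a * b * k = w
  DW : ∀ k ∈ d.aD H, ∀ w ∈ d.aW H, k * w = w * k
  ZMab : ∀ a ∈ d.aZM H, ∀ b ∈ d.aZM H, a * b = b * a
  DX : d.X ≤ normalizer (d.aD H : Set G)
  KX : d.X ≤ normalizer (d.aK H : Set G)
  DA2 : ∀ k ∈ cj H⁻¹ d.Q, ∀ a ∈ d.aA2 H, ⁅k, a⁆ ∈ ⁅d.V, d.S⁆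
  DU2 : ∀ k ∈ cj H d.Q, ∀ v ∈ d.aU2 H, ⁅k, v⁆ ∈ cj y ⁅d.V, d.S⁆
  fixK : ∀ k ∈ d.aK H, d.X ≤ d.fixMod k
  fixZ : ∀ k ∈ d.aZM H, ∀ s ∈ d.S, ⁅k, s⁆ ∈ d.aZ
  move : ∀ w ∈ d.aW H, ∀ s ∈ d.S, ⁅w, s⁆ ∈ d.aZM H
  inter : ∀ x ∈ d.X, d.S ⊔ cj x d.S = d.X → d.aZM H ⊓ cj x (d.aZM H) ≤ d.aK H
  cardW : Nat.card (d.aW H) = d.q * Nat.card (d.aZM H)
  cardZM : Nat.card (d.aZM H) = d.q * Nat.card (d.aK H)
  A2S : d.aA2 H ⊔ d.Q = d.S
  U2S : d.aU2 H ⊔ d.Q = cj y d.S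
  A2A : ∀ a ∈ d.aA2 H, ∀ u ∈ d.aA H, a * u = u * a
  A2ab : ∀ a ∈ d.aA2 H, ∀ u ∈ d.aA2 H, a * u = u * a ∧ a ^ p = 1
  Wgen : ∀ T : Subgroup G, (∀ x ∈ d.X, cj x (d.aA H) ≤ T ∧ cj x (d.aB H) ≤ T) → d.aW H ≤ T
  RWQ : cj H ⁅d.V, d.S⁆ ≤ ⁅d.aW H, d.Q⁆
  critAll : ∀ a ∈ d.aA2 H, a ∉ d.Q → ∀ w ∈ d.V, ∃ b ∈ d.aB H, ⁅a, ⁅a, b⁆⁆ = ⁅a, w⁆
  crit : ∃ a ∈ d.aA2 H, ∃ b ∈ d.aB H, ⁅a, ⁅a, b⁆⁆ ∈ ⁅d.V, d.S⁆ ∧ ⁅a, ⁅a, b⁆⁆ ∉ centralizer (d.X : Set G)
  shift : ∀ k ∈ d.aK H, (∀ v ∈ d.aU2 H, k * v = v * k) →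
    H⁻¹ * k * H ∈ d.Q ∧ d.X ≤ d.fixMod (H⁻¹ * k * H)
  shiftV : ∀ v ∈ d.V, H⁻¹ * v * H ∈ d.aW H
  shiftB : ∀ b ∈ d.aB H, H⁻¹ * b * H ∈ d.V
  QA2 : ∀ z ∈ d.Q, ∀ a ∈ d.aA2 H, ∃ b ∈ d.aB H, ∃ k ∈ d.aK H, ⁅z, a⁆ = H⁻¹ * (b * k) * H

theorem twoFacts : TwoFacts d p (y * n) y := by
  obtain ⟨hy, hyS, hn, hmin, hcrit, hHS, f1, f1', f2, f3, f4, hR1C, hR1V⟩ := t
  set H := y * n with hH
  set R := ⁅d.V, d.S⁆ with hRdef
  set A := d.aA H with hA
  set B := d.aB H with hB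
  set A2 := d.aA2 H with hA2def
  set U2 := d.aU2 H with hU2def
  set Z := d.aZ with hZdef
  set C := d.V ⊓ centralizer (d.X : Set G) with hCdef
  have hHP : H ∈ d.P 1 := d.P_one hy hn
  have hAQ : A ≤ d.Q := d.low_inv hmin (by omega : 1 < 2) hHP
  have hBQ : B ≤ d.Q := hmin 1 (by omega) H hHP
  have hS : cj H⁻¹ (cj y d.S) = d.S := by rw [← hHS, cj_inv_left]
  have hQy : d.Q ≤ cj y d.S := d.Q_le_cjS hy
  have hVX : d.V ≤ d.X := d.hVQ.trans d.QX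
  have hyR : cj y R = cj (H ^ 2) R := f2.symm.trans f4
  have hyRV : cj y R ≤ d.V := (cj_mono y d.R_le_Z).trans (d.cj_V hy).le
  have hR1' : cj H⁻¹ (cj y R) = cj H R := by rw [hyR, ← cj_mul, pow_two, inv_mul_cancel_left]
  have hAS : ⁅A, d.S⁆ = cj H R := by
    conv_lhs => rw [← hS, hA, aA, ← cj_comm, ← d.cj_V hy, ← cj_comm, ← hRdef]
    exact hR1'
  have hBS : ⁅B, cj y d.S⁆ = cj H R := by rw [← hHS, hB, aB, ← cj_comm]
  have hR1 : cj H R ≤ C := le_inf hR1V hR1C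
  have hRZ : R ≤ Z := le_inf d.R_le_Z e.hRS
  have hCZ : C ≤ Z := inf_le_inf le_rfl (centralizer_le (SetLike.coe_subset_coe.2 d.hSX))
  -- the commutators with `Q`
  set M : Subgroup G :=
    { carrier := {w | w ∈ d.Q ∧ ∀ z ∈ d.Q, ⁅w, z⁆ ∈ cj H R}
      one_mem' := ⟨one_mem _, fun z _ => by rw [commutatorElement_one_left]; exact one_mem _⟩
      mul_mem' := by
        rintro a b ⟨ha, ha'⟩ ⟨hb, hb'⟩
        refine ⟨mul_mem ha hb, fun z hz => ?_⟩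
        have e := mem_centralizer_iff.1 (hR1C (hb' z hz)) a (d.QX ha)
        have : ⁅a * b, z⁆ = ⁅b, z⁆ * ⁅a, z⁆ :=
          calc ⁅a * b, z⁆ = a * ⁅b, z⁆ * a⁻¹ * ⁅a, z⁆ := by simp only [commutatorElement_def]; group
            _ = _ := by rw [e]; group
        rw [this]
        exact mul_mem (hb' z hz) (ha' z hz)
      inv_mem' := by
        rintro a ⟨ha, ha'⟩
        refine ⟨inv_mem ha, fun z hz => ?_⟩
        have e := mem_centralizer_iff.1 (hR1C (inv_mem (ha' z hz))) a (d.QX ha)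
        have : ⁅a⁻¹, z⁆ = ⁅a, z⁆⁻¹ :=
          calc ⁅a⁻¹, z⁆ = a⁻¹ * (⁅a, z⁆⁻¹ * a) := by simp only [commutatorElement_def]; group
            _ = _ := by rw [← e]; group
        rw [this]
        exact inv_mem (ha' z hz) } with hMdef
  have hAB1 : A ⊔ B ≤ M := by
    refine sup_le (fun a ha => ⟨hAQ ha, fun z hz => ?_⟩) (fun a ha => ⟨hBQ ha, fun z hz => ?_⟩)
    · rw [← hAS]; exact commutator_mem_commutator ha (d.hQS hz)
    · rw [← hBS]; exact commutator_mem_commutator ha (hQy hz)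
  set W := d.aW H with hWdef
  have hW1 : W ≤ M := by
    refine iSup_le fun x => ?_
    rintro _ ⟨w, hw, rfl⟩
    obtain ⟨hwQ, hw'⟩ := hAB1 hw
    refine ⟨(mem_normalizer_iff.1 (d.nQ x.2) w).1 hwQ, fun z hz => ?_⟩
    change ⁅(x : G) * w * (x : G)⁻¹, z⁆ ∈ _
    have hz' : (x : G)⁻¹ * z * (x : G) ∈ d.Q := by
      simpa using (mem_normalizer_iff.1 (d.nQ (inv_mem x.2)) z).1 hz
    have e := mem_centralizer_iff.1 (hR1C (hw' _ hz')) (x : G) x.2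
    have : ⁅(x : G) * w * (x : G)⁻¹, z⁆ = ⁅w, (x : G)⁻¹ * z * (x : G)⁆ :=
      calc ⁅(x : G) * w * (x : G)⁻¹, z⁆
          = (x : G) * ⁅w, (x : G)⁻¹ * z * (x : G)⁆ * (x : G)⁻¹ := by simp only [commutatorElement_def]; group
        _ = _ := by rw [e]; group
    rw [this]
    exact hw' _ hz'
  have hWQ : W ≤ d.Q := fun w hw => (hW1 hw).1
  have hABW : A ⊔ B ≤ W := by
    refine le_trans ?_ (le_iSup _ (1 : ↥d.X))
    simp [cj_one, hA, hB]
  have hWX : d.X ≤ normalizer (W : Set G) := by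
    refine le_normalizer_of_forall fun x hx => ?_
    rw [hWdef, aW, cj, Subgroup.map_iSup]
    refine iSup_le fun z => ?_
    refine le_trans (le_of_eq (cj_mul x (z : G) (A ⊔ B)).symm) ?_
    exact le_iSup (fun z : ↥d.X => cj (z : G) (d.aA H ⊔ d.aB H)) ⟨x * z, mul_mem hx z.2⟩
  have hWQc : ∀ w ∈ W, ∀ z ∈ d.Q, ⁅w, z⁆ ∈ cj H R := fun w hw z hz => (hW1 hw).2 z hz
  have hVH : d.V ≤ cj H d.Q := d.low_left hmin (by omega : 1 < 2) hHP
  have hVH' : d.V ≤ cj H⁻¹ d.Q := by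
    rw [← cj_le_iff H, cj_inv_right]; exact hmin 1 (by omega) H hHP
  have hcomm_of : ∀ g : G, cj g d.Q ≤ centralizer (cj g d.V : Set G) := fun g => by
    rw [← cj_centralizer]; exact cj_mono g d.hQV
  -- intersections
  have hU2X : U2 ≤ d.X := (le_sup_left.trans f1.le).trans (d.cjS_le hy)
  have hA2S : A2 ⊔ d.Q = d.S := by
    have := congrArg (cj (H ^ 2)⁻¹) f3
    rwa [cj_sup, cj_inv_left, cj_inv_left] at this
  have hABy : A ⊔ cj H d.Q = cj y d.S := by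
    have := congrArg (cj H⁻¹) f3
    rwa [cj_sup, pow_two, ← cj_mul, ← cj_mul, inv_mul_cancel_left, hHS] at this
  have hBS' : B ⊔ cj H⁻¹ d.Q = d.S := by
    have := congrArg (cj H⁻¹) f1
    rwa [cj_sup, ← cj_mul, pow_two, inv_mul_cancel_left, hS] at this
  have hVU : d.V ⊓ cj (H ^ 2) d.Q = cj y Z := by
    refine Subgroup.eq_of_le_of_card_ge (fun v hv => ?_) ?_
    · refine mem_cj.2 ⟨by simpa using (mem_normalizer_iff.1 (d.nV (inv_mem hy)) v).1 hv.1, ?_⟩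
      refine mem_centralizer_iff.2 fun s hs => ?_
      have h1 : cj y d.S ≤ centralizer ({v} : Set G) := by
        rw [← f1]
        refine sup_le (fun u hu => mem_centralizer_singleton_iff.2 ?_) (fun z hz => mem_centralizer_singleton_iff.2 ?_)
        · exact mem_centralizer_iff.1 (hcomm_of (H ^ 2) hv.2) u hu
        · exact (mem_centralizer_iff.1 (d.hQV hz) v hv.1).symm
      have e := mem_centralizer_singleton_iff.1 (h1 (conj_mem_cj (g := y) hs))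
      calc s * (y⁻¹ * v * y) = y⁻¹ * ((y * s * y⁻¹) * v) * y := by group
        _ = y⁻¹ * (v * (y * s * y⁻¹)) * y := by rw [e]
        _ = y⁻¹ * v * y * s := by group
    · have h1 := card_mul_le_sup d.V (cj (H ^ 2) d.Q)
      rw [f3, card_cj, card_cj, d.cS, d.cV] at h1
      rw [card_cj]
      exact Nat.le_of_mul_le_mul_left (le_trans (le_of_eq (by ring)) h1)
        (Nat.mul_pos (Nat.pos_of_ne_zero fun h => by
          have := d.cS; rw [h, zero_mul] at this; exact Nat.card_pos.ne' this) (Nat.card_pos (α := ↥d.Q)))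
  have hAHQ : A ⊓ cj H d.Q = Z := by
    rw [hA, aA, show cj H d.Q = cj H⁻¹ (cj (H ^ 2) d.Q) by rw [← cj_mul, pow_two, inv_mul_cancel_left],
      ← Subgroup.map_inf _ _ _ (MulAut.conj H⁻¹).injective, hVU]
    show cj H⁻¹ (cj y Z) = Z
    rw [hH, mul_inv_rev, cj_mul, cj_inv_left, d.nZ _ (inv_mem hn)]
  have hVU' : d.V ⊓ cj (H ^ 2)⁻¹ d.Q = Z := by
    refine le_antisymm (fun v hv => ⟨hv.1, mem_centralizer_iff.2 fun s hs => ?_⟩) fun v hv => ⟨hv.1, ?_⟩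
    · have hU : H ^ 2 * v * (H ^ 2)⁻¹ ∈ U2 := conj_mem_cj hv.1
      have h := d.hC y hy ⟨f1.le (mem_sup_left hU), mem_centralizer_iff.2 fun w hw => ?_⟩
      · show v ∈ cj (H ^ 2)⁻¹ d.Q
        rw [mem_cj]; simpa using h
      · have hw2 : (H ^ 2)⁻¹ * w * H ^ 2 ∈ d.S := by
          refine hA2S.le (mem_sup_left ?_)
          rw [hA2def, aA2, mem_cj]
          simpa [mul_assoc] using hw
        have e := mem_centralizer_iff.1 hv.2 _ hw2
        calc w * (H ^ 2 * v * (H ^ 2)⁻¹) = H ^ 2 * (((H ^ 2)⁻¹ * w * H ^ 2) * v) * (H ^ 2)⁻¹ := by group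
          _ = H ^ 2 * (v * ((H ^ 2)⁻¹ * w * H ^ 2)) * (H ^ 2)⁻¹ := by rw [e]
          _ = _ := by group
    · have h1 : d.S ≤ centralizer ({v} : Set G) := by
        rw [← hA2S]
        refine sup_le (fun u hu => mem_centralizer_singleton_iff.2 ?_) (fun z hz => mem_centralizer_singleton_iff.2 ?_)
        · exact mem_centralizer_iff.1 (hcomm_of (H ^ 2)⁻¹ hv.2) u hu
        · exact (mem_centralizer_iff.1 (d.hQV hz) v hv.1).symm
      exact mem_centralizer_singleton_iff.1 (h1 hs)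
  have hBHQ : B ⊓ cj H⁻¹ d.Q = cj y Z := by
    rw [hB, aB, show cj H⁻¹ d.Q = cj H (cj (H ^ 2)⁻¹ d.Q) by
        rw [← cj_mul]; congr 1; group,
      ← Subgroup.map_inf _ _ _ (MulAut.conj H).injective, hVU']
    show cj H Z = _
    rw [hH, cj_mul, d.nZ _ hn]
  have hVAB : d.V ≤ A ⊔ B := by
    refine le_trans (le_of_eq (Subgroup.eq_of_le_of_card_ge
      (sup_le inf_le_left ((cj_mono y inf_le_left).trans (d.cj_V hy).le) : Z ⊔ cj y Z ≤ d.V) ?_).symm)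
      (sup_le (hAHQ.ge.trans (inf_le_left.trans le_sup_left)) (hBHQ.ge.trans (inf_le_left.trans le_sup_right)))
    have h1 := card_mul_le_sup Z (cj y Z)
    have h2 : Z ⊓ cj y Z ≤ C := fun v hv => by
      refine ⟨hv.1.1, mem_centralizer_iff.2 fun g hg => ?_⟩
      have hle : d.S ⊔ cj y d.S ≤ centralizer ({v} : Set G) := by
        refine sup_le (fun s hs => mem_centralizer_singleton_iff.2 (mem_centralizer_iff.1 hv.1.2 s hs)) ?_
        rintro _ ⟨s, hs, rfl⟩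
        refine mem_centralizer_singleton_iff.2 ?_
        have e := mem_centralizer_iff.1 (mem_cj.1 hv.2).2 s hs
        show y * s * y⁻¹ * v = v * (y * s * y⁻¹)
        calc y * s * y⁻¹ * v = y * (s * (y⁻¹ * v * y)) * y⁻¹ := by group
          _ = y * ((y⁻¹ * v * y) * s) * y⁻¹ := by rw [e]
          _ = _ := by group
      exact mem_centralizer_singleton_iff.1 (hle (hyS.ge hg))
    rw [card_cj] at h1
    have h3 : Nat.card Z * Nat.card Z ≤ Nat.card ↥(Z ⊔ cj y Z) * Nat.card C :=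
      h1.trans (Nat.mul_le_mul_left _ (card_le_of_le h2))
    refine Nat.le_of_mul_le_mul_right (c := Nat.card C) ?_ Nat.card_pos
    refine le_trans (le_of_eq ?_) h3
    rw [d.cV, hZdef, aZ, e.hZC, hCdef]; ring
  have hVW : d.V ≤ W := hVAB.trans hABW
  set ZM := d.aZM H with hZMdef
  set K := d.aK H with hKdef
  set D := d.aD H with hDdef
  have hVK : d.V ≤ K := fun v hv => ⟨⟨hVW hv, hVH' hv⟩, hVH hv⟩
  -- commutators with the outer vertices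
  have hA2c : ∀ k ∈ cj H⁻¹ d.Q, ∀ a ∈ A2, ⁅k, a⁆ ∈ R := by
    intro k hk a ha
    have hk2 : k ∈ cj (H ^ 2)⁻¹ (cj y d.S) := by
      rw [pow_two, mul_inv_rev, cj_mul, hS]
      exact cj_mono _ d.hQS hk
    have h1 : cj (H ^ 2)⁻¹ ⁅cj y d.S, d.V⁆ = R := by
      rw [commutator_comm]
      conv_lhs => rw [← d.cj_V hy, ← cj_comm, ← hRdef, hyR, cj_inv_left]
    rw [← h1, cj_comm]
    exact commutator_mem_commutator hk2 ha
  have hU2c : ∀ k ∈ cj H d.Q, ∀ v ∈ U2, ⁅k, v⁆ ∈ cj y R := by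
    intro k hk v hv
    have hk2 : k ∈ cj (H ^ 2) d.S := by
      rw [pow_two, cj_mul, hHS]
      exact cj_mono _ hQy hk
    rw [hyR, hRdef, commutator_comm, cj_comm]
    exact commutator_mem_commutator hk2 hv
  have hfixZ : ∀ k ∈ ZM, ∀ s ∈ d.S, ⁅k, s⁆ ∈ Z := by
    intro k hk s hs
    rw [← hA2S, ← SetLike.mem_coe, coe_mul_of_left_le_normalizer_right _ _
      ((le_sup_left.trans hA2S.le).trans (d.hSX.trans d.nQ))] at hs
    obtain ⟨a, ha, z, hz, rfl⟩ := hs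
    rw [show ⁅k, a * z⁆ = ⁅k, a⁆ * (a * ⁅k, z⁆ * a⁻¹) by simp only [commutatorElement_def]; group]
    have haX : a ∈ d.X := d.hSX (hA2S.le (mem_sup_left ha))
    have h2 := hWQc k hk.1 z hz
    rw [mem_centralizer_iff.1 (hR1C h2) a haX, mul_inv_cancel_right]
    exact mul_mem (hRZ (hA2c k hk.2 a ha)) (hCZ (hR1 h2))
  have hfixY : ∀ k ∈ W, k ∈ cj H d.Q → cj y d.S ≤ d.fixMod k := by
    intro k hk hk1
    rw [← f1]
    exact sup_le (fun a ha => ⟨hU2X ha, hyRV (hU2c k hk1 a ha)⟩) (fun z hz => ⟨d.QX hz, hR1V (hWQc k hk z hz)⟩)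
  have hfixK : ∀ k ∈ K, d.X ≤ d.fixMod k := fun k hk => by
    rw [← hyS]
    exact sup_le (fun s hs => ⟨d.hSX hs, (hfixZ k hk.1 s hs).1⟩) (hfixY k hk.1.1 hk.2)
  have hKX : d.X ≤ normalizer (K : Set G) := le_normalizer_of_forall fun x hx => by
    rintro _ ⟨k, hk, rfl⟩
    show x * k * x⁻¹ ∈ K
    have h := (hfixK k hk hx).2
    rw [show x * k * x⁻¹ = ⁅k, x⁆⁻¹ * k by simp only [commutatorElement_def]; group]
    exact mul_mem (hVK (inv_mem h)) hk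
  -- decompositions
  have hAS1 : A ≤ cj y d.S := hAQ.trans hQy
  have hBS1 : B ≤ d.S := hBQ.trans d.hQS
  have hnHQ : cj y d.S ≤ normalizer (cj H d.Q : Set G) := hHS.ge.trans (cj_le_normalizer (d.hSX.trans d.nQ) H)
  have hnH'Q : d.S ≤ normalizer (cj H⁻¹ d.Q : Set G) :=
    hS.ge.trans (cj_le_normalizer ((d.cjS_le hy).trans d.nQ) H⁻¹)
  have hBHQ' : B ≤ cj H d.Q := cj_mono H d.hVQ
  have hAHQ' : A ≤ cj H⁻¹ d.Q := cj_mono H⁻¹ d.hVQ
  have hdec : ∀ z ∈ d.Q, ∃ a ∈ A, ∃ b ∈ B, ∃ k ∈ D, a * b * k = z := by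
    intro z hz
    have hz' : z ∈ A ⊔ cj H d.Q := hABy.ge (hQy hz)
    rw [← SetLike.mem_coe, coe_mul_of_left_le_normalizer_right _ _ (hAS1.trans hnHQ)] at hz'
    obtain ⟨a, ha, z1, hz1, rfl⟩ := hz'
    have hz1Q : z1 ∈ d.Q := by
      have := d.Q.mul_mem (d.Q.inv_mem (hAQ ha)) hz
      rwa [inv_mul_cancel_left] at this
    have hz1' : z1 ∈ B ⊔ cj H⁻¹ d.Q := hBS'.ge (d.hQS hz1Q)
    rw [← SetLike.mem_coe, coe_mul_of_left_le_normalizer_right _ _ (hBS1.trans hnH'Q)] at hz1'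
    obtain ⟨b, hb, k, hk, rfl⟩ := hz1'
    refine ⟨a, ha, b, hb, k, ⟨⟨?_, hk⟩, ?_⟩, mul_assoc a b k⟩
    · have := d.Q.mul_mem (d.Q.inv_mem (hBQ hb)) hz1Q
      rwa [inv_mul_cancel_left] at this
    · have := (cj H d.Q).mul_mem ((cj H d.Q).inv_mem (hBHQ' hb)) hz1
      rwa [inv_mul_cancel_left] at this
  have hdecW : ∀ w ∈ W, ∃ a ∈ A, ∃ b ∈ B, ∃ k ∈ K, a * b * k = w := by
    intro w hw
    obtain ⟨a, ha, b, hb, k, hk, rfl⟩ := hdec w (hWQ hw)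
    refine ⟨a, ha, b, hb, k, ⟨⟨?_, hk.1.2⟩, hk.2⟩, rfl⟩
    have := W.mul_mem (W.inv_mem (W.mul_mem (hABW (mem_sup_left ha)) (hABW (mem_sup_right hb)))) hw
    rwa [inv_mul_cancel_left] at this
  have hDW0 : ∀ k ∈ D, ∀ w ∈ A ⊔ B, k * w = w * k := by
    intro k hk w hw
    have hle : A ⊔ B ≤ centralizer ({k} : Set G) :=
      sup_le (fun a ha => mem_centralizer_singleton_iff.2 (mem_centralizer_iff.1 (hcomm_of H⁻¹ hk.1.2) a ha))
        (fun b hb => mem_centralizer_singleton_iff.2 (mem_centralizer_iff.1 (hcomm_of H hk.2) b hb))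
    exact (mem_centralizer_singleton_iff.1 (hle hw)).symm
  have hDS : d.S ≤ normalizer (D : Set G) := by
    refine le_normalizer_of_forall fun s hs => ?_
    rintro _ ⟨k, hk, rfl⟩
    show s * k * s⁻¹ ∈ D
    rw [← hA2S, ← SetLike.mem_coe, coe_mul_of_left_le_normalizer_right _ _
      ((le_sup_left.trans hA2S.le).trans (d.hSX.trans d.nQ))] at hs
    obtain ⟨a, ha, z, hz, rfl⟩ := hs
    have hk' : z * k * z⁻¹ ∈ D := ⟨⟨(mem_normalizer_iff.1 (le_normalizer hz) k).1 hk.1.1,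
      (mem_normalizer_iff.1 (hnH'Q (d.hQS hz)) k).1 hk.1.2⟩, (mem_normalizer_iff.1 (hnHQ (hQy hz)) k).1 hk.2⟩
    rw [show a * z * k * (a * z)⁻¹ = ⁅z * k * z⁻¹, a⁆⁻¹ * (z * k * z⁻¹) by simp only [commutatorElement_def]; group]
    have hR' := d.R_le_Z (hA2c _ hk'.1.2 a ha)
    exact mul_mem (inv_mem ⟨⟨d.hVQ hR', hVH' hR'⟩, hVH hR'⟩) hk'
  have hDY : cj y d.S ≤ normalizer (D : Set G) := by
    refine le_normalizer_of_forall fun s hs => ?_
    rintro _ ⟨k, hk, rfl⟩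
    show s * k * s⁻¹ ∈ D
    rw [← f1, ← SetLike.mem_coe, coe_mul_of_left_le_normalizer_right _ _ (hU2X.trans d.nQ)] at hs
    obtain ⟨a, ha, z, hz, rfl⟩ := hs
    have hk' : z * k * z⁻¹ ∈ D := ⟨⟨(mem_normalizer_iff.1 (le_normalizer hz) k).1 hk.1.1,
      (mem_normalizer_iff.1 (hnH'Q (d.hQS hz)) k).1 hk.1.2⟩, (mem_normalizer_iff.1 (hnHQ (hQy hz)) k).1 hk.2⟩
    rw [show a * z * k * (a * z)⁻¹ = ⁅z * k * z⁻¹, a⁆⁻¹ * (z * k * z⁻¹) by simp only [commutatorElement_def]; group]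
    have hR' := hyRV (hU2c _ hk'.2 a ha)
    exact mul_mem (inv_mem ⟨⟨d.hVQ hR', hVH' hR'⟩, hVH hR'⟩) hk'
  have hDX : d.X ≤ normalizer (D : Set G) := hyS.ge.trans (sup_le hDS hDY)
  have hWgen : ∀ T : Subgroup G, (∀ x ∈ d.X, cj x A ≤ T ∧ cj x B ≤ T) → W ≤ T := fun T hT =>
    iSup_le fun x => by rw [cj_sup]; exact sup_le (hT x x.2).1 (hT x x.2).2
  have hDW : ∀ k ∈ D, ∀ w ∈ W, k * w = w * k := by
    intro k hk w hw
    have hle : W ≤ centralizer ({k} : Set G) := hWgen _ fun x hx => by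
      have hk' : x⁻¹ * k * x ∈ D := by simpa using (mem_normalizer_iff.1 (hDX (inv_mem hx)) k).1 hk
      have h0 : ∀ u ∈ A ⊔ B, x * u * x⁻¹ ∈ centralizer ({k} : Set G) := fun u hu => by
        refine mem_centralizer_singleton_iff.2 ?_
        have e := hDW0 _ hk' u hu
        calc x * u * x⁻¹ * k = x * (u * (x⁻¹ * k * x)) * x⁻¹ := by group
          _ = x * ((x⁻¹ * k * x) * u) * x⁻¹ := by rw [e]
          _ = k * (x * u * x⁻¹) := by group
      constructor <;> rintro _ ⟨u, hu, rfl⟩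
      · exact h0 u (mem_sup_left hu)
      · exact h0 u (mem_sup_right hu)
    exact (mem_centralizer_singleton_iff.1 (hle hw)).symm
  have hKD : K ≤ D := fun k hk => ⟨⟨hWQ hk.1.1, hk.1.2⟩, hk.2⟩
  have hZMdec : ∀ w ∈ ZM, ∃ a ∈ A, ∃ k ∈ K, a * k = w := by
    intro w hw
    obtain ⟨a, ha, b, hb, k, hk, rfl⟩ := hdecW w hw.1
    have hb' : b ∈ B ⊓ cj H⁻¹ d.Q := ⟨hb, by
      have h := (cj H⁻¹ d.Q).mul_mem ((cj H⁻¹ d.Q).mul_mem ((cj H⁻¹ d.Q).inv_mem (hAHQ' ha)) hw.2)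
        ((cj H⁻¹ d.Q).inv_mem hk.1.2)
      have e : b = a⁻¹ * (a * b * k) * k⁻¹ := by group
      show b ∈ cj H⁻¹ d.Q
      rw [e]; exact h⟩
    refine ⟨a, ha, b * k, mul_mem (hVK ?_) hk, (mul_assoc _ _ _).symm⟩
    rw [hBHQ] at hb'
    exact (d.cj_V hy).le (cj_mono y inf_le_left hb')
  have hmove : ∀ w ∈ W, ∀ s ∈ d.S, ⁅w, s⁆ ∈ ZM := by
    intro w hw s hs
    refine ⟨?_, ?_⟩
    · rw [commutatorElement_def, mul_assoc, mul_assoc]
      exact mul_mem hw (by simpa [mul_assoc] using (mem_normalizer_iff.1 (hWX (d.hSX hs)) w⁻¹).1 (inv_mem hw))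
    · have h1 : ∀ u ∈ d.S, H * u * H⁻¹ ∈ cj y d.S := fun u hu => by rw [← hHS]; exact conj_mem_cj hu
      have hwS : w ∈ d.S := d.hQS (hWQ hw)
      show ⁅w, s⁆ ∈ cj H⁻¹ d.Q
      rw [mem_cj, inv_inv, show H * ⁅w, s⁆ * H⁻¹ = ⁅H * w * H⁻¹, H * s * H⁻¹⁆ by
        simp only [commutatorElement_def]; group]
      obtain ⟨u1, hu1, e1⟩ := h1 w hwS
      obtain ⟨u2, hu2, e2⟩ := h1 s hs
      rw [← e1, ← e2, ← map_commutatorElement]
      exact (mem_normalizer_iff.1 (d.nQ hy) _).1 (e.hab u1 hu1 u2 hu2)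
  have hinter : ∀ x ∈ d.X, d.S ⊔ cj x d.S = d.X → ZM ⊓ cj x ZM ≤ K := by
    intro x hx hxS k hk
    refine ⟨hk.1, ?_⟩
    have hfx : d.X ≤ d.fixMod k := by
      rw [← hxS]
      refine sup_le (fun s hs => ⟨d.hSX hs, (hfixZ k hk.1 s hs).1⟩) ?_
      rintro _ ⟨s, hs, rfl⟩
      refine ⟨(d.cjS_le hx) (conj_mem_cj hs), ?_⟩
      show ⁅k, x * s * x⁻¹⁆ ∈ d.V
      rw [show ⁅k, x * s * x⁻¹⁆ = x * ⁅x⁻¹ * k * x, s⁆ * x⁻¹ by simp only [commutatorElement_def]; group]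
      exact (mem_normalizer_iff.1 (d.nV hx) _).1 (hfixZ _ (mem_cj.1 hk.2) s hs).1
    obtain ⟨u, hu, k', hk', hku⟩ := hZMdec k hk.1
    have hfu : d.X ≤ d.fixMod u := by
      intro g hg
      refine ⟨hg, ?_⟩
      have h1 := (hfx hg).2
      have h2 := (hfixK k' hk' hg).2
      rw [← hku, show ⁅u * k', g⁆ = u * ⁅k', g⁆ * u⁻¹ * ⁅u, g⁆ by simp only [commutatorElement_def]; group] at h1
      have h3 := (mem_normalizer_iff.1 (d.nV (d.QX (hAQ hu))) _).1 h2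
      have := mul_mem (inv_mem h3) h1
      rwa [inv_mul_cancel_left] at this
    have huHQ : u ∈ cj H d.Q := by
      refine mem_cj.2 (d.hC 1 (one_mem _) ⟨?_, mem_centralizer_iff.2 fun v hv => ?_⟩)
      · rw [cj_one]
        exact mem_cj.1 (hHS.ge (hAS1 hu))
      have huw : ∀ w ∈ B, u * w = w * u := by
        intro w hw
        have hw' : y⁻¹ * w * y ∈ cj n d.V := by
          have := mem_cj.1 hw
          rw [mem_cj]
          simpa [hH, mul_assoc] using this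
        have hnn : cj (H * n) d.V ≤ d.Q := by
          refine hmin 1 (by omega) _ ?_
          rw [hH, mul_assoc]
          exact d.P_one hy (mul_mem hn hn)
        have huV : H * u * H⁻¹ ∈ d.V := by simpa [mul_assoc] using mem_cj.1 hu
        have h1 : H * (y⁻¹ * w * y) * H⁻¹ ∈ cj (H * n) d.V := by
          rw [cj_mul]; exact conj_mem_cj hw'
        have e1 : u * (y⁻¹ * w * y) = (y⁻¹ * w * y) * u := by
          have e := d.commute_of_le hnn h1 huV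
          calc u * (y⁻¹ * w * y) = H⁻¹ * ((H * u * H⁻¹) * (H * (y⁻¹ * w * y) * H⁻¹)) * H := by group
            _ = H⁻¹ * ((H * (y⁻¹ * w * y) * H⁻¹) * (H * u * H⁻¹)) * H := by rw [e]
            _ = _ := by group
        have hc := (hfu hy).2
        have e2 := d.commute_of_le hBQ hw hc
        calc u * w = ⁅u, y⁆ * (y * (u * (y⁻¹ * w * y)) * y⁻¹) := by simp only [commutatorElement_def]; group
          _ = ⁅u, y⁆ * w * (y * u * y⁻¹) := by rw [e1]; group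
          _ = w * ⁅u, y⁆ * (y * u * y⁻¹) := by rw [e2]
          _ = w * u := by simp only [commutatorElement_def]; group
      have e := huw (H * v * H⁻¹) (conj_mem_cj hv)
      calc v * (H⁻¹ * u * H) = H⁻¹ * ((H * v * H⁻¹) * u) * H := by group
        _ = H⁻¹ * (u * (H * v * H⁻¹)) * H := by rw [e]
        _ = H⁻¹ * u * H * v := by group
    rw [← hku]
    exact mul_mem huHQ hk'.2
  have hqpos : 0 < d.q := Nat.pos_of_ne_zero fun h => by
    have := d.cS; rw [h, zero_mul] at this; exact Nat.card_pos.ne' this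
  have hcard1 : Nat.card W = d.q * Nat.card ZM := by
    have h := card_mul_eq (hWQ.trans d.hQS) hnH'Q (le_sup_right.trans hBS'.le)
      (le_antisymm (sup_le (hWQ.trans d.hQS) (le_sup_right.trans hBS'.le))
        (hBS'.ge.trans (sup_le_sup (le_sup_right.trans hABW) le_rfl)))
    rw [card_cj, d.cS] at h
    exact Nat.eq_of_mul_eq_mul_right (Nat.card_pos (α := ↥d.Q)) (h.trans (by ring))
  have hcard2 : Nat.card ZM = d.q * Nat.card K := by
    have hle : ZM ≤ cj y d.S := (inf_le_left.trans hWQ).trans hQy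
    have h := card_mul_eq hle hnHQ (le_sup_right.trans hABy.le)
      (le_antisymm (sup_le hle (le_sup_right.trans hABy.le))
        (hABy.ge.trans (sup_le_sup (le_inf (le_sup_left.trans hABW) hAHQ') le_rfl)))
    rw [card_cj, card_cj, d.cS] at h
    exact Nat.eq_of_mul_eq_mul_right (Nat.card_pos (α := ↥d.Q)) (h.trans (by ring))
  have hA2toA : ∀ a ∈ A2, H * a * H⁻¹ ∈ A := fun a ha => mem_cj.2 (by
    have h : (H ^ 2)⁻¹⁻¹ * a * (H ^ 2)⁻¹ ∈ d.V := mem_cj.1 ha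
    simpa [pow_two, mul_assoc] using h)
  have hA2A : ∀ a ∈ A2, ∀ u ∈ A, a * u = u * a := by
    intro a ha u hu
    have h1 : H * a * H⁻¹ ∈ A := hA2toA a ha
    have h2 : H * u * H⁻¹ ∈ d.V := by simpa [mul_assoc] using mem_cj.1 hu
    have e := d.commute_of_le hAQ h1 h2
    calc a * u = H⁻¹ * ((H * a * H⁻¹) * (H * u * H⁻¹)) * H := by group
      _ = H⁻¹ * ((H * u * H⁻¹) * (H * a * H⁻¹)) * H := by rw [e]
      _ = _ := by group
  have hA2ab : ∀ a ∈ A2, ∀ u ∈ A2, a * u = u * a ∧ a ^ p = 1 := by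
    rintro _ ⟨a, ha, rfl⟩ _ ⟨u, hu, rfl⟩
    refine ⟨?_, ?_⟩
    · rw [← map_mul, ← map_mul, d.commute_of_le d.hVQ hu ha]
    · rw [← map_pow, e.hp a ha, map_one]
  have hZMab : ∀ a ∈ ZM, ∀ b ∈ ZM, a * b = b * a := by
    intro a ha b hb
    obtain ⟨a1, ha1, k1, hk1, rfl⟩ := hZMdec a ha
    obtain ⟨a2, ha2, k2, hk2, rfl⟩ := hZMdec b hb
    have e1 : Commute k1 a2 := hDW _ (hKD hk1) _ (hABW (mem_sup_left ha2))
    have e2 : Commute a1 k2 := (show Commute k2 a1 from hDW _ (hKD hk2) _ (hABW (mem_sup_left ha1))).symm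
    have e3 : Commute k1 k2 := hDW _ (hKD hk1) _ hk2.1.1
    have e4 : Commute a1 a2 := by
      obtain ⟨v1, hv1, rfl⟩ := ha1
      obtain ⟨v2, hv2, rfl⟩ := ha2
      exact (show Commute v1 v2 from (d.commute_of_le d.hVQ hv2 hv1)).map _
    exact ((e4.mul_right e2).mul_left (e1.mul_right e3)).eq
  -- the critical element
  have hgenE : ∀ u ∈ A, u ∉ cj H d.Q → ∀ w ∈ B, ∃ v ∈ U2, ⁅u, w⁆ = ⁅u, ⁅u, v⁆⁆ := by
    intro u hu huHQ w hw
    set N0 : Subgroup ↥d.S := (cj H⁻¹ d.Q).subgroupOf d.S with hN0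
    haveI : N0.Normal := normal_subgroupOf_of_le_normalizer hnH'Q
    have huW : u ∈ W := hABW (mem_sup_left hu)
    have hxW : ∀ v ∈ U2, ⁅u, v⁆ ∈ W := fun v hv => by
      rw [show ⁅u, v⁆ = u * (v * u⁻¹ * v⁻¹) by simp only [commutatorElement_def]; group]
      exact mul_mem huW ((mem_normalizer_iff.1 (hWX (hU2X hv)) _).1 (inv_mem huW))
    have hxH : ∀ v ∈ U2, ⁅u, v⁆ ∈ cj H d.Q := fun v hv => by
      have hU2W : U2 ≤ cj H W := by
        rw [hU2def, aU2, pow_two, cj_mul]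
        exact cj_mono _ (le_sup_right.trans hABW)
      have huX : u ∈ cj H d.X := cj_mono H d.hSX (hHS.ge (hAS1 hu))
      exact cj_mono H hWQ (mul_mem ((mem_normalizer_iff.1 (cj_le_normalizer hWX H huX) v).1 (hU2W hv))
        (inv_mem (hU2W hv)))
    let f : ↥U2 →* ↥d.S ⧸ N0 :=
      { toFun := fun v => QuotientGroup.mk (⟨⁅u, (v : G)⁆, d.hQS (hWQ (hxW v v.2))⟩ : ↥d.S)
        map_one' := by
          refine (QuotientGroup.eq_one_iff _).2 (mem_subgroupOf.2 ?_)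
          simp
        map_mul' := fun a b => by
          rw [← QuotientGroup.mk_mul, QuotientGroup.eq, mem_subgroupOf]
          have hc := ((hfixY _ (hxW b b.2) (hxH b b.2)) (f1.le (mem_sup_left a.2))).2
          have e : (((⟨⁅u, ((a * b : ↥U2) : G)⁆, d.hQS (hWQ (hxW _ (a * b).2))⟩ : ↥d.S)⁻¹ *
              (⟨⁅u, (a : G)⁆, d.hQS (hWQ (hxW a a.2))⟩ * ⟨⁅u, (b : G)⁆, d.hQS (hWQ (hxW b b.2))⟩) : ↥d.S) : G)
              = (a : G) * ⁅u, (b : G)⁆⁻¹ * (a : G)⁻¹ * ⁅u, (b : G)⁆ := by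
            simp only [Subgroup.coe_mul, Subgroup.coe_inv, commutatorElement_def]; group
          rw [e, show (a : G) * ⁅u, (b : G)⁆⁻¹ * (a : G)⁻¹ * ⁅u, (b : G)⁆ = ⁅(a : G), ⁅u, (b : G)⁆⁻¹⁆ by
            simp only [commutatorElement_def]; group]
          refine hVH' ?_
          have hVn := d.nV (d.QX (hWQ (hxW b b.2)))
          rw [show ⁅(a : G), ⁅u, (b : G)⁆⁻¹⁆ = ⁅u, (b : G)⁆⁻¹ * ⁅⁅u, (b : G)⁆, (a : G)⁆ * ⁅u, (b : G)⁆⁻¹⁻¹ by
            simp only [commutatorElement_def]; group]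
          exact (mem_normalizer_iff.1 (inv_mem hVn) _).1 hc }
    have hker : f.ker.map U2.subtype ≤ U2 ⊓ d.Q := by
      rintro _ ⟨v, hv, rfl⟩
      refine ⟨v.2, by_contra fun hvQ => huHQ ?_⟩
      have hv1 : ⁅u, (v : G)⁆ ∈ cj H⁻¹ d.Q := mem_subgroupOf.1 ((QuotientGroup.eq_one_iff _).1 hv)
      set v' : G := (v : G) with hv'
      have hgen := d.sep y hy hyS v' (f1.le (mem_sup_left v.2)) hvQ
      have hk1 : v' * u * v'⁻¹ = ⁅u, v'⁆⁻¹ * u := by simp only [commutatorElement_def]; group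
      have hkW : v' * u * v'⁻¹ ∈ W := (mem_normalizer_iff.1 (hWX (hU2X v.2)) u).1 huW
      have hkZ : v' * u * v'⁻¹ ∈ ZM := ⟨hkW, hk1 ▸ (cj H⁻¹ d.Q).mul_mem ((cj H⁻¹ d.Q).inv_mem hv1) (hAHQ' hu)⟩
      have huZ : u ∈ ZM ⊓ cj v'⁻¹ ZM := ⟨⟨huW, hAHQ' hu⟩, mem_cj.2 (by simpa using hkZ)⟩
      exact (hinter v'⁻¹ (inv_mem (hU2X v.2)) hgen huZ).2
    have hsurj : Function.Surjective f := by
      rw [← MonoidHom.range_eq_top]
      refine Subgroup.eq_top_of_le_card _ ?_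
      set c := Nat.card ↥(d.V ⊓ centralizer (d.S : Set G)) with hc
      have h2 : Nat.card f.ker ≤ c := by
        rw [← card_map_of_injective U2.subtype_injective]
        exact ((Nat.card_mono (Set.toFinite _) (SetLike.coe_subset_coe.2 (hker.trans f1'))).trans
          (card_cj _ _).le)
      have h3 : Nat.card f.range * Nat.card f.ker = Nat.card U2 := by
        rw [← index_ker, index_mul_card]
      rw [card_cj, d.cV, ← hc] at h3
      have h4 : N0.index * Nat.card d.Q = d.q * Nat.card d.Q := by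
        rw [← d.cS, ← index_mul_card N0]
        congr 1
        rw [hN0, Nat.card_congr (subgroupOfEquivOfLe ?_).toEquiv, card_cj]
        rw [← hS]
        exact cj_mono _ hQy
      rw [← index_eq_card, Nat.eq_of_mul_eq_mul_right Nat.card_pos h4]
      refine Nat.le_of_mul_le_mul_right (c := c) ?_ Nat.card_pos
      rw [← h3]
      exact Nat.mul_le_mul_left _ h2
    obtain ⟨⟨v, hv⟩, hfv⟩ := hsurj (QuotientGroup.mk ⟨w, d.hQS (hBQ hw)⟩)
    have hz : ⁅u, v⁆⁻¹ * w ∈ cj H⁻¹ d.Q := by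
      have := QuotientGroup.eq.1 hfv
      simpa [hN0, mem_subgroupOf] using this
    have hzu : Commute u (⁅u, v⁆⁻¹ * w) := by
      have := cj_mono H⁻¹ d.hQV hz
      rw [cj_centralizer] at this
      exact mem_centralizer_iff.1 this u hu
    have e1 : ⁅u, w⁆ = ⁅u, ⁅u, v⁆⁆ :=
      calc ⁅u, w⁆ = u * ⁅u, v⁆ * ((⁅u, v⁆⁻¹ * w) * u⁻¹) * w⁻¹ := by
            simp only [commutatorElement_def]; group
        _ = u * ⁅u, v⁆ * (u⁻¹ * (⁅u, v⁆⁻¹ * w)) * w⁻¹ := by rw [hzu.inv_left.eq]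
        _ = ⁅u, ⁅u, v⁆⁆ := by simp only [commutatorElement_def]; group
    exact ⟨v, hv, e1⟩
  have hcritE : ∃ a ∈ A2, ∃ b ∈ B, ⁅a, ⁅a, b⁆⁆ ∈ R ∧ ⁅a, ⁅a, b⁆⁆ ∉ centralizer (d.X : Set G) := by
    have hABR : ⁅A, B⁆ = cj H R := by
      rw [hA, aA, hB, aB, show cj H d.V = cj H⁻¹ (cj (H ^ 2) d.V) by rw [← cj_mul, pow_two, inv_mul_cancel_left],
        ← cj_comm, f4, ← cj_mul, pow_two, inv_mul_cancel_left]
    have hnot : ¬ ⁅A, B⁆ ≤ cj H (centralizer (d.X : Set G)) := by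
      rw [hABR, cj_le_iff]
      exact d.hR
    obtain ⟨u, hu, w, hw, hne⟩ : ∃ u ∈ A, ∃ w ∈ B, ⁅u, w⁆ ∉ cj H (centralizer (d.X : Set G)) := by
      by_contra h
      push Not at h
      exact hnot (commutator_le.2 h)
    have huHQ : u ∉ cj H d.Q := fun h => hne (by
      rw [commutatorElement_eq_one_iff_mul_comm.2 (mem_centralizer_iff.1 (hcomm_of H h) w hw).symm]
      exact one_mem _)
    obtain ⟨v, hv, e1⟩ := hgenE u hu huHQ w hw
    refine ⟨H⁻¹ * u * H, ?_, H⁻¹ * v * H, ?_, ?_⟩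
    · refine mem_cj.2 ?_
      have h : H⁻¹⁻¹ * u * H⁻¹ ∈ d.V := mem_cj.1 hu
      convert h using 1; group
    · rw [hB, aB, mem_cj]
      have := mem_cj.1 hv
      simpa [pow_two, mul_assoc] using this
    have e2 : ⁅H⁻¹ * u * H, ⁅H⁻¹ * u * H, H⁻¹ * v * H⁆⁆ = H⁻¹ * ⁅u, w⁆ * H := by
      rw [e1]; simp only [commutatorElement_def]; group
    rw [e2]
    refine ⟨?_, fun h => hne ?_⟩
    · have h1 : ⁅u, w⁆ ∈ cj H R := hABR ▸ commutator_mem_commutator hu hw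
      exact mem_cj.1 h1
    · have h2 := conj_mem_cj (g := H) h
      simpa [mul_assoc] using h2
  have hRWQ : cj H R ≤ ⁅W, d.Q⁆ := by
    rw [← hAS]
    refine commutator_le.2 fun x hx s hs => ?_
    rw [← hA2S, ← SetLike.mem_coe, coe_mul_of_left_le_normalizer_right _ _
      ((le_sup_left.trans hA2S.le).trans (d.hSX.trans d.nQ))] at hs
    obtain ⟨a, ha, z, hz, rfl⟩ := hs
    have hxW : x ∈ W := hABW (mem_sup_left hx)
    rw [show ⁅x, a * z⁆ = ⁅x, a⁆ * (a * ⁅x, z⁆ * a⁻¹) by simp only [commutatorElement_def]; group,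
      commutatorElement_eq_one_iff_mul_comm.2 (hA2A a ha x hx).symm, one_mul,
      mem_centralizer_iff.1 (hR1C (hWQc x hxW z hz)) a (d.hSX (hA2S.le (mem_sup_left ha))), mul_inv_cancel_right]
    exact commutator_mem_commutator hxW hz
  have hcritAll : ∀ a ∈ A2, a ∉ d.Q → ∀ w ∈ d.V, ∃ b ∈ B, ⁅a, ⁅a, b⁆⁆ = ⁅a, w⁆ := by
    intro a ha haQ w hw
    have hu : H * a * H⁻¹ ∉ cj H d.Q := fun h => haQ (by simpa [mul_assoc] using mem_cj.1 h)
    obtain ⟨v, hv, e1⟩ := hgenE _ (hA2toA a ha) hu _ (conj_mem_cj (g := H) hw)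
    refine ⟨H⁻¹ * v * H, ?_, ?_⟩
    · rw [hB, aB, mem_cj]
      have := mem_cj.1 hv
      simpa [pow_two, mul_assoc] using this
    · calc ⁅a, ⁅a, H⁻¹ * v * H⁆⁆ = H⁻¹ * ⁅H * a * H⁻¹, ⁅H * a * H⁻¹, v⁆⁆ * H := by
            simp only [commutatorElement_def]; group
        _ = H⁻¹ * ⁅H * a * H⁻¹, H * w * H⁻¹⁆ * H := by rw [← e1]
        _ = ⁅a, w⁆ := by simp only [commutatorElement_def]; group
  refine
    { hy := hy, gen := hyS, AQ := hAQ, BQ := hBQ, WQ := hWQ, WX := hWX, ABW := hABW, VW := hVW, VK := hVK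
      WQcomm := fun w hw z hz => hR1 (hWQc w hw z hz), kD := hKD
      decQ := fun z hz => ?_, decW := hdecW, DW := hDW, ZMab := hZMab, DX := hDX, KX := hKX
      DA2 := hA2c, DU2 := hU2c, fixK := hfixK, fixZ := hfixZ, move := hmove, inter := hinter
      cardW := hcard1, cardZM := hcard2, A2S := hA2S, U2S := f1, A2A := hA2A, A2ab := hA2ab
      Wgen := hWgen, RWQ := hRWQ, critAll := hcritAll, crit := hcritE, shift := fun k hk hkU => ?_
      shiftV := fun v hv => hABW (mem_sup_left (mem_cj.2 (by simpa [mul_assoc] using hv)))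
      shiftB := fun b hb => mem_cj.1 hb, QA2 := fun z hz a ha => ?_ }
  · obtain ⟨a, ha, b, hb, k, hk, e⟩ := hdec z hz
    exact ⟨a * b, mul_mem (hABW (mem_sup_left ha)) (hABW (mem_sup_right hb)), k, hk, e⟩
  · have hk1 : H⁻¹ * k * H ∈ d.Q := mem_cj.1 hk.2
    have hk2 : H⁻¹ * (H⁻¹ * k * H) * H ∈ d.Q := by
      have hkH2 : k ∈ cj (H ^ 2) d.S := by
        rw [pow_two, cj_mul, hHS]
        exact cj_mono _ hQy hk.2
      have h := d.hC 1 (one_mem _) ⟨by rw [cj_one]; exact mem_cj.1 hkH2, mem_centralizer_iff.2 fun v hv => ?_⟩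
      · simpa [pow_two, mul_assoc] using h
      have e := hkU _ (conj_mem_cj (g := H ^ 2) hv)
      calc v * ((H ^ 2)⁻¹ * k * H ^ 2) = (H ^ 2)⁻¹ * ((H ^ 2 * v * (H ^ 2)⁻¹) * k) * H ^ 2 := by group
        _ = (H ^ 2)⁻¹ * (k * (H ^ 2 * v * (H ^ 2)⁻¹)) * H ^ 2 := by rw [← e]
        _ = (H ^ 2)⁻¹ * k * H ^ 2 * v := by group
    refine ⟨hk1, ?_⟩
    set z := H⁻¹ * k * H with hz
    rw [← hyS]
    refine sup_le (fun s hs => ⟨d.hSX hs, ?_⟩) ?_
    · have hs' : H * s * H⁻¹ ∈ cj y d.S := by rw [← hHS]; exact conj_mem_cj hs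
      rw [show ⁅z, s⁆ = H⁻¹ * ⁅k, H * s * H⁻¹⁆ * H by simp only [hz, commutatorElement_def]; group]
      rw [← f1, ← SetLike.mem_coe, coe_mul_of_left_le_normalizer_right _ _ (hU2X.trans d.nQ)] at hs'
      obtain ⟨a, ha, w, hw, e'⟩ := hs'
      rw [← e', show ⁅k, a * w⁆ = ⁅k, a⁆ * (a * ⁅k, w⁆ * a⁻¹) by simp only [commutatorElement_def]; group,
        commutatorElement_eq_one_iff_mul_comm.2 (hkU a ha), one_mul,
        mem_centralizer_iff.1 (hR1C (hWQc k hk.1.1 w hw)) a (hU2X ha), mul_inv_cancel_right]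
      exact d.R_le_Z (mem_cj.1 (hWQc k hk.1.1 w hw))
    · rw [← f1]
      refine sup_le (fun v hv => ⟨hU2X hv, hyRV (hU2c z (mem_cj.2 hk2) v hv)⟩) (fun w hw => ⟨d.QX hw, ?_⟩)
      have hs' : H * w * H⁻¹ ∈ cj y d.S := by rw [← hHS]; exact conj_mem_cj (d.hQS hw)
      rw [show ⁅z, w⁆ = H⁻¹ * ⁅k, H * w * H⁻¹⁆ * H by simp only [hz, commutatorElement_def]; group]
      rw [← f1, ← SetLike.mem_coe, coe_mul_of_left_le_normalizer_right _ _ (hU2X.trans d.nQ)] at hs'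
      obtain ⟨a, ha, w', hw', e'⟩ := hs'
      rw [← e', show ⁅k, a * w'⁆ = ⁅k, a⁆ * (a * ⁅k, w'⁆ * a⁻¹) by simp only [commutatorElement_def]; group,
        commutatorElement_eq_one_iff_mul_comm.2 (hkU a ha), one_mul,
        mem_centralizer_iff.1 (hR1C (hWQc k hk.1.1 w' hw')) a (hU2X ha), mul_inv_cancel_right]
      exact d.R_le_Z (mem_cj.1 (hWQc k hk.1.1 w' hw'))
  · have ha' : H * a * H⁻¹ ∈ A := hA2toA a ha
    have hz' : H * z * H⁻¹ ∈ d.X := d.cjS_le hy (by rw [← hHS]; exact conj_mem_cj (d.hQS hz))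
    have hzaW : H * ⁅z, a⁆ * H⁻¹ ∈ W := by
      rw [show H * ⁅z, a⁆ * H⁻¹ = (H * z * H⁻¹ * (H * a * H⁻¹) * (H * z * H⁻¹)⁻¹) * (H * a * H⁻¹)⁻¹ by
        simp only [commutatorElement_def]; group]
      exact mul_mem ((mem_normalizer_iff.1 (hWX hz') _).1 (hABW (mem_sup_left ha'))) (inv_mem (hABW (mem_sup_left ha')))
    have hzaQ : ⁅z, a⁆ ∈ d.Q := e.hab z (d.hQS hz) a (hA2S.le (mem_sup_left ha))
    obtain ⟨a1, ha1, b, hb, k, hk, e'⟩ := hdecW _ hzaW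
    have ha1' : a1 ∈ A ⊓ cj H d.Q := ⟨ha1, by
      have hzH : H * ⁅z, a⁆ * H⁻¹ ∈ cj H d.Q := conj_mem_cj hzaQ
      rw [← e'] at hzH
      have h := (cj H d.Q).mul_mem hzH ((cj H d.Q).inv_mem ((cj H d.Q).mul_mem (hBHQ' hb) hk.2))
      have e : a1 = a1 * b * k * (b * k)⁻¹ := by group
      show a1 ∈ cj H d.Q
      rw [e]; exact h⟩
    rw [hAHQ] at ha1'
    refine ⟨b, hb, b⁻¹ * (a1 * b) * k, mul_mem (hVK ?_) hk, ?_⟩
    · have := (mem_normalizer_iff.1 (d.nV (inv_mem (d.QX (hBQ hb)))) a1).1 ha1'.1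
      simpa [mul_assoc] using this
    · calc ⁅z, a⁆ = H⁻¹ * (H * ⁅z, a⁆ * H⁻¹) * H := by group
        _ = H⁻¹ * (a1 * b * k) * H := by rw [e']
        _ = _ := by group

end Amb

end Cfsg.Lib.BGN.P
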