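import Cfsg.Agent.Components.BGNP.One
import Cfsg.Agent.Components.BGNP.TwoAmb

/-!
Pushing up for a rank-one quotient, distance two: only the prime three, two natural factors, class three.
-/

set_option autoImplicit false
set_option linter.unusedSectionVars false
set_option linter.style.haveILetI false

namespace Cfsg.Lib.BGN.P

open Subgroup Matrix Cfsg.Lib.BGN Cfsg.Lib.Known.AutPSL2
open scoped commutatorElement

universe u v

variable {p : ℕ} [hp : Fact p.Prime] {G : Type u} [Group G] [Finite G]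

/-- an element whose parts lie in a subgroup -/
theorem mem_of_parts {T : Subgroup G} {g : G}
    (h1 : ∀ e ∈ zpowers g, (orderOf e).Coprime p → e ∈ T) (h2 : ∀ e ∈ zpowers g, (∃ k, e ^ p ^ k = 1) → e ∈ T) :
    g ∈ T := by
  obtain ⟨k, m, hm, hkm⟩ := Nat.exists_eq_pow_mul_and_not_dvd (orderOf_pos g).ne' p hp.out.ne_one
  have hcop : (p ^ k).Coprime m := ((hp.out.coprime_iff_not_dvd).2 hm).pow_left k
  have ha : g ^ p ^ k ∈ T := by
    refine h1 _ (pow_mem (mem_zpowers g) _) ?_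
    rw [orderOf_pow_of_dvd (pow_ne_zero _ hp.out.ne_zero) ⟨m, hkm⟩, hkm,
      Nat.mul_div_cancel_left _ (pow_pos hp.out.pos _)]
    exact ((hp.out.coprime_iff_not_dvd).2 hm).symm
  have hb : g ^ m ∈ T := h2 _ (pow_mem (mem_zpowers g) _) ⟨k, by
    rw [← pow_mul, mul_comm, ← hkm, pow_orderOf_eq_one]⟩
  have e : g = (g ^ p ^ k) ^ Nat.gcdA (p ^ k) m * (g ^ m) ^ Nat.gcdB (p ^ k) m := by
    rw [← zpow_natCast g (p ^ k), ← zpow_natCast g m, ← _root_.zpow_mul, ← _root_.zpow_mul, ← _root_.zpow_add,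
      ← Nat.gcd_eq_gcd_ab, hcop.gcd_eq_one]
    simp
  rw [e]
  exact mul_mem (zpow_mem ha _) (zpow_mem hb _)

/-- in exponent three an element commutes with its conjugates -/
theorem engel_three {H : Type*} [Group H] (h : ∀ x : H, x ^ 3 = 1) (x y : H) : ⁅x, ⁅x, y⁆⁆ = 1 := by
  have hi : ∀ x : H, x⁻¹ = x * x := fun x => inv_eq_of_mul_eq_one_right (by rw [← h x]; simp [pow_succ, mul_assoc])
  have e1 : y * x * y = x⁻¹ * y⁻¹ * x⁻¹ := by
    have := h (x * y)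
    calc y * x * y = x⁻¹ * ((x * y) ^ 3) * y⁻¹ * x⁻¹ := by rw [pow_succ, pow_two]; group
      _ = _ := by rw [this]; group
  have e2 : y * x⁻¹ * y = x * y⁻¹ * x := by
    have := h (x⁻¹ * y)
    calc y * x⁻¹ * y = x * ((x⁻¹ * y) ^ 3) * y⁻¹ * x := by rw [pow_succ, pow_two]; group
      _ = _ := by rw [this]; group
  have e3 : y * x * y⁻¹ * x = x * (y * x * y⁻¹) := by
    calc y * x * y⁻¹ * x = y * (x * y⁻¹ * x) := by group
      _ = y * (y * x⁻¹ * y) := by rw [e2]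
      _ = (y * y) * x⁻¹ * y := by group
      _ = y⁻¹ * x⁻¹ * y := by rw [hi y]
      _ = x * (x⁻¹ * y⁻¹ * x⁻¹) * y := by group
      _ = x * (y * x * y) * y := by rw [e1]
      _ = x * (y * x * (y * y)) := by group
      _ = x * (y * x * y⁻¹) := by rw [hi y]
  rw [commutatorElement_eq_one_iff_mul_comm]
  have hc : Commute x (y * x⁻¹ * y⁻¹) := by
    have := (show Commute x (y * x * y⁻¹) from e3.symm).inv_right
    simpa [mul_assoc] using this
  have e : ⁅x, y⁆ = x * (y * x⁻¹ * y⁻¹) := by rw [commutatorElement_def]; group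
  rw [e]
  exact ((Commute.refl x).mul_right hc).eq

/-- the central element -/
def negOne {F : Type*} [Field F] : Matrix.SpecialLinearGroup (Fin 2) F := ⟨-1, by simp [det_fin_two]⟩

namespace Sit

variable {F : Type v} [Field F] [Fintype F] (d : Sit p G F)

include d

/-- the facts at distance two -/
structure Dist2 where
  WB : Subgroup G
  ZM : Subgroup G
  K : Subgroup G
  D : Subgroup G
  A2 : Subgroup G
  U0 : Subgroup G
  y₀ : G
  nWB : WB.Normal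
  nK : K.Normal
  nD : D.Normal
  WK : d.W ≤ K
  KZM : K ≤ ZM
  ZMW : ZM ≤ WB
  WBQ : WB ≤ Cfsg.pCore p G
  DQ : D ≤ Cfsg.pCore p G
  KD : K ≤ D
  WQ : ∀ w ∈ WB, ∀ z ∈ Cfsg.pCore p G, ⁅w, z⁆ ∈ d.C
  fixK : ∀ k ∈ K, ∀ g, ⁅k, g⁆ ∈ d.W
  fixZ : ∀ k ∈ ZM, ∀ s ∈ d.S, ⁅k, s⁆ ∈ d.Z
  move : ∀ w ∈ WB, ∀ s ∈ d.S, ⁅w, s⁆ ∈ ZM
  inter : ∀ x, d.Far x → ZM ⊓ cj x ZM ≤ K
  card_WB : Nat.card WB = p ^ d.c.n * Nat.card ZM
  card_ZM : Nat.card ZM = p ^ d.c.n * Nat.card K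
  A2S : A2 ⊔ Cfsg.pCore p G = d.S
  A2ab : ∀ a ∈ A2, ∀ b ∈ A2, a * b = b * a
  A2pow : ∀ a ∈ A2, a ^ p = 1
  DA2 : ∀ k ∈ D, ∀ a ∈ A2, ⁅k, a⁆ ∈ d.Z
  DW : ∀ k ∈ D, ∀ w ∈ WB, k * w = w * k
  ZMab : ∀ a ∈ ZM, ∀ b ∈ ZM, a * b = b * a
  decQ : ∀ z ∈ Cfsg.pCore p G, ∃ w ∈ WB, ∃ k ∈ D, w * k = z
  genW : ∀ T : Subgroup G, (∀ w ∈ WB, w ^ p = 1 → w ∈ T) → WB ≤ T
  crit : ∃ a ∈ A2, ∃ b ∈ WB, ⁅a, ⁅a, b⁆⁆ ∈ d.Z ∧ ⁅a, ⁅a, b⁆⁆ ∉ d.C

/-- the shift to the next pair of sections -/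
structure Shift (e : d.Dist2) : Prop where
  DU : ∀ k ∈ e.K, ∀ v ∈ e.U0, ⁅k, v⁆ ∈ cj e.y₀ ⁅d.W, d.S⁆
  QA2 : (∀ k ∈ e.K, ∃ v ∈ d.W, ∀ u ∈ e.U0, v⁻¹ * k * u = u * (v⁻¹ * k)) → ∀ q ∈ Cfsg.pCore p G, ∀ a ∈ e.A2,
    ∃ w ∈ e.WB, ∃ z ∈ Cfsg.pCore p G, (∀ g, ⁅z, g⁆ ∈ d.W) ∧ w * z = ⁅q, a⁆
  card_comm : Nat.card ↥⁅d.W, d.S⁆ ≤ Nat.card ↥⁅e.WB, Cfsg.pCore p G⁆
  critAll : ∀ a ∈ e.A2, a ∉ Cfsg.pCore p G → ∀ w ∈ d.W, ∃ b ∈ e.WB, ⁅a, ⁅a, b⁆⁆ = ⁅a, w⁆

theorem exists_dist2 {a : Amb (Equiv.Perm G)} {y n : Equiv.Perm G}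
    (ha : a.X = (⊤ : Subgroup G).map ι ∧ a.S = d.S.map ι ∧ a.Q = (Cfsg.pCore p G).map ι ∧ a.V = d.W.map ι ∧
      a.q = p ^ d.c.n) (t : a.Two y n) : ∃ e : d.Dist2, d.Shift e := by
  obtain ⟨hX, hS, hQ, hV, hq⟩ := ha
  have hmem : ∀ {K : Subgroup G} {x : G}, ι x ∈ K.map ι ↔ x ∈ K := fun {K x} => mem_map_iff_mem ι_inj
  have hxX : ∀ g : G, ι g ∈ a.X := fun g => hX.ge (mem_map_of_mem ι (mem_top g))
  have hmS : ∀ {g : G}, ι g ∈ a.S ↔ g ∈ d.S := fun {g} => by rw [hS]; exact hmem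
  have hmQ : ∀ {g : G}, ι g ∈ a.Q ↔ g ∈ Cfsg.pCore p G := fun {g} => by rw [hQ]; exact hmem
  have hmV : ∀ {g : G}, ι g ∈ a.V ↔ g ∈ d.W := fun {g} => by rw [hV]; exact hmem
  have hmc : ∀ (K : Subgroup G) {g : G}, ι g ∈ centralizer (K.map ι : Set (Equiv.Perm G)) ↔
      g ∈ centralizer (K : Set G) := fun K {g} => by
    constructor
    · intro h
      exact mem_centralizer_iff.2 fun k hk => ι_inj (by
        rw [map_mul, map_mul]; exact mem_centralizer_iff.1 h _ (mem_map_of_mem ι hk))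
    · intro h
      refine mem_centralizer_iff.2 ?_
      rintro _ ⟨k, hk, rfl⟩
      rw [← map_mul, ← map_mul, mem_centralizer_iff.1 h k hk]
  have hmZ : ∀ {g : G}, ι g ∈ a.aZ ↔ g ∈ d.Z := fun {g} => by
    show ι g ∈ a.V ⊓ centralizer (a.S : Set (Equiv.Perm G)) ↔ _
    rw [mem_inf, mem_inf, hmV, hS, hmc]
  have hmC : ∀ {g : G}, ι g ∈ a.V ⊓ centralizer (a.X : Set (Equiv.Perm G)) ↔ g ∈ d.C := fun {g} => by
    rw [mem_inf, mem_inf, hmV, hX, hmc]
    rw [Subgroup.coe_top, centralizer_univ]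
  have hcomap : ∀ {K : Subgroup (Equiv.Perm G)}, K ≤ a.X → (K.comap ι).map ι = K := fun {K} hK => by
    rw [map_comap_eq, inf_eq_right]
    exact hK.trans (hX.le.trans (map_le_range _ _))
  have hext : Amb.Extra a p := by
    refine ⟨fun x hx z hz => ?_, ?_, ?_, fun v hv => ?_⟩
    · obtain ⟨x, hx', rfl⟩ := hS.le hx
      obtain ⟨z, hz', rfl⟩ := hS.le hz
      rw [← map_commutatorElement, hmQ]
      exact d.comm_mem hx' hz'
    · have e1 : a.V ⊓ centralizer (a.S : Set (Equiv.Perm G)) = d.Z.map ι := by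
        ext x
        constructor
        · intro hx
          obtain ⟨g, hg, rfl⟩ := hV.le hx.1
          exact mem_map_of_mem ι (hmZ.1 hx)
        · rintro ⟨g, hg, rfl⟩
          exact hmZ.2 hg
      have e2 : a.V ⊓ centralizer (a.X : Set (Equiv.Perm G)) = d.C.map ι := by
        ext x
        constructor
        · intro hx
          obtain ⟨g, hg, rfl⟩ := hV.le hx.1
          exact mem_map_of_mem ι (hmC.1 hx)
        · rintro ⟨g, hg, rfl⟩
          exact hmC.2 hg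
      rw [e1, e2, card_map_of_injective ι_inj, card_map_of_injective ι_inj, hq, d.card_Z]
    · rw [hV, hS, ← map_commutator]
      rintro _ ⟨r, hr, rfl⟩
      exact (hmc _).2 (d.comm_le hr)
    · obtain ⟨w, hw, rfl⟩ := hV.le hv
      rw [← map_pow, d.W_pow hw, map_one]
  have tf := Amb.twoFacts t hext
  obtain ⟨y₀, -, hy₀⟩ := hX.le tf.hy
  set H := y * n
  have hD : a.aD H ≤ a.Q := inf_le_left.trans inf_le_left
  have hWX : a.aW H ≤ a.X := tf.WQ.trans a.QX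
  have hA2X : a.aA2 H ≤ a.X := le_sup_left.trans (tf.A2S.le.trans a.hSX)
  have hnorm : ∀ K : Subgroup (Equiv.Perm G), a.X ≤ normalizer (K : Set (Equiv.Perm G)) → (K.comap ι).Normal :=
    fun K hK => ⟨fun x hx g => by
      rw [mem_comap, map_mul, map_mul, map_inv]
      exact (mem_normalizer_iff.1 (hK (hxX g)) _).1 hx⟩
  have hR : ∀ {g : G}, ι g ∈ ⁅a.V, a.S⁆ → g ∈ ⁅d.W, d.S⁆ := fun {g} h => by
    rw [hV, hS, ← map_commutator] at h
    exact hmem.1 h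
  have hcj : ∀ (x : G) (K : Subgroup G), cj (ι x) (K.map ι) = (cj x K).map ι := fun x K => by
    ext w
    constructor
    · rintro ⟨_, ⟨k, hk, rfl⟩, rfl⟩
      exact ⟨x * k * x⁻¹, conj_mem_cj hk, by rw [map_mul, map_mul, map_inv]; rfl⟩
    · rintro ⟨_, ⟨k, hk, rfl⟩, rfl⟩
      exact ⟨ι k, mem_map_of_mem ι hk, by
        show ι x * ι k * (ι x)⁻¹ = ι (x * k * x⁻¹)
        rw [map_mul, map_mul, map_inv]⟩
  refine ⟨{
    WB := (a.aW H).comap ι, ZM := (a.aZM H).comap ι, K := (a.aK H).comap ι, D := (a.aD H).comap ι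
    A2 := (a.aA2 H).comap ι, U0 := (a.aU2 H).comap ι, y₀ := y₀
    nWB := hnorm _ tf.WX, nK := hnorm _ tf.KX, nD := hnorm _ tf.DX
    WK := fun w hw => tf.VK (hmV.2 hw), KZM := fun k hk => hk.1, ZMW := fun k hk => hk.1
    WBQ := fun w hw => hmQ.1 (tf.WQ hw), DQ := fun w hw => hmQ.1 (hD hw), KD := fun k hk => tf.kD hk
    WQ := fun w hw z hz => ?_, fixK := fun k hk g => ?_, fixZ := fun k hk s hs => ?_
    move := fun w hw s hs => ?_, inter := fun x hx w hw => ?_, card_WB := ?_, card_ZM := ?_, A2S := ?_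
    A2ab := fun x hx z hz => ι_inj ?_, A2pow := fun x hx => ι_inj ?_, DA2 := fun k hk x hx => ?_
    DW := fun k hk w hw => ι_inj ?_, ZMab := fun x hx z hz => ι_inj ?_, decQ := fun z hz => ?_
    genW := fun T hT => ?_, crit := ?_ }, ⟨fun k hk v hv => ?_, fun h q hq' x hx => ?_, ?_, fun x hx hxQ w hw => ?_⟩⟩
  · exact hmC.1 (map_commutatorElement ι w z ▸ tf.WQcomm _ hw _ (hmQ.2 hz))
  · exact hmV.1 (map_commutatorElement ι k g ▸ (tf.fixK _ hk (hxX g)).2)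
  · exact hmZ.1 (map_commutatorElement ι k s ▸ tf.fixZ _ hk _ (hmS.2 hs))
  · rw [mem_comap, map_commutatorElement]; exact tf.move _ hw _ (hmS.2 hs)
  · refine tf.inter (ι x) (hxX x) ?_ ⟨hw.1, ?_⟩
    · rw [hS, hcj, ← Subgroup.map_sup, hx, hX]
    · obtain ⟨z, hz, rfl⟩ := hw.2
      show ι (x * z * x⁻¹) ∈ cj (ι x) (a.aZM H)
      rw [map_mul, map_mul, map_inv]
      exact conj_mem_cj hz
  · rw [← card_map_of_injective (f := (ι : G →* Equiv.Perm G)) ι_inj (K := (a.aW H).comap ι), hcomap hWX,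
      ← card_map_of_injective (f := (ι : G →* Equiv.Perm G)) ι_inj (K := (a.aZM H).comap ι),
      hcomap (inf_le_left.trans hWX), ← hq]
    exact tf.cardW
  · rw [← card_map_of_injective (f := (ι : G →* Equiv.Perm G)) ι_inj (K := (a.aZM H).comap ι),
      hcomap (inf_le_left.trans hWX),
      ← card_map_of_injective (f := (ι : G →* Equiv.Perm G)) ι_inj (K := (a.aK H).comap ι),
      hcomap (inf_le_left.trans (inf_le_left.trans hWX)), ← hq]
    exact tf.cardZM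
  · refine map_injective (f := (ι : G →* Equiv.Perm G)) ι_inj ?_
    rw [Subgroup.map_sup, hcomap hA2X, ← hQ, tf.A2S, hS]
  · rw [map_mul, map_mul]; exact (tf.A2ab _ hx _ hz).1
  · rw [map_pow, map_one]; exact (tf.A2ab _ hx _ hx).2
  · refine hmZ.1 (map_commutatorElement ι k x ▸ ⟨a.R_le_Z (tf.DA2 _ hk.1.2 _ hx), hext.hRS (tf.DA2 _ hk.1.2 _ hx)⟩)
  · rw [map_mul, map_mul]; exact tf.DW _ hk _ hw
  · rw [map_mul, map_mul]; exact tf.ZMab _ hx _ hz
  · obtain ⟨w, hw, k, hk, e⟩ := tf.decQ _ (hmQ.2 hz)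
    obtain ⟨w', -, rfl⟩ := hX.le (hWX hw)
    obtain ⟨k', -, rfl⟩ := hX.le (a.QX (hD hk))
    exact ⟨w', hw, k', hk, ι_inj (by rw [map_mul]; exact e)⟩
  · intro w hw
    refine hmem.1 ((tf.Wgen (T.map ι) ?_) hw)
    intro x hx
    have key : ∀ K : Subgroup (Equiv.Perm G), K ≤ a.aW H → (∀ z ∈ K, z ^ p = 1) → cj x K ≤ T.map ι := by
      rintro K hK hKp _ ⟨z, hz, rfl⟩
      have h1 : x * z * x⁻¹ ∈ a.aW H := (mem_normalizer_iff.1 (tf.WX hx) z).1 (hK hz)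
      obtain ⟨g, -, e⟩ := hX.le (hWX h1)
      show x * z * x⁻¹ ∈ T.map ι
      rw [← e] at h1 ⊢
      refine mem_map_of_mem ι (hT g h1 (ι_inj ?_))
      rw [map_pow, e, conj_pow, hKp z hz, mul_one, mul_inv_cancel, map_one]
    refine ⟨key _ (le_sup_left.trans tf.ABW) ?_, key _ (le_sup_right.trans tf.ABW) ?_⟩ <;>
      · rintro _ ⟨v, hv, rfl⟩
        rw [← map_pow, hext.hp v hv, map_one]
  · obtain ⟨x, hx, b, hb, h1, h2⟩ := tf.crit
    obtain ⟨x', -, rfl⟩ := hX.le (hA2X hx)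
    obtain ⟨b', -, rfl⟩ := hX.le (hWX (tf.ABW (mem_sup_right hb)))
    rw [← map_commutatorElement, ← map_commutatorElement] at h1 h2
    refine ⟨x', hx, b', tf.ABW (mem_sup_right hb), hmZ.1 ⟨a.R_le_Z h1, hext.hRS h1⟩, fun h => h2 (hmC.2 h).2⟩
  · have h := tf.DU2 _ hk.2 _ hv
    rw [← map_commutatorElement, hV, hS, ← map_commutator, ← hy₀, hcj] at h
    exact hmem.1 h
  · obtain ⟨b, hb, k, hk, e⟩ := tf.QA2 _ (hmQ.2 hq') _ hx
    obtain ⟨k', -, rfl⟩ := hX.le (hWX hk.1.1)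
    obtain ⟨v, hv, hcm⟩ := h k' hk
    have hk2 : ι (v⁻¹ * k') ∈ a.aK H := by
      rw [map_mul, map_inv]; exact mul_mem (inv_mem (tf.VK (hmV.2 hv))) hk
    obtain ⟨hz1, hz2⟩ := tf.shift _ hk2 fun u hu => by
      obtain ⟨u', -, rfl⟩ := hX.le (a.cjS_le tf.hy (tf.U2S.le (mem_sup_left hu)))
      rw [← map_mul, ← map_mul, hcm u' hu]
    obtain ⟨z, hz, hze⟩ := hQ.le hz1
    have h1 : H⁻¹ * b * H * (H⁻¹ * ι v * H) ∈ a.aW H :=
      mul_mem (tf.VW (tf.shiftB b hb)) (tf.shiftV _ (hmV.2 hv))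
    obtain ⟨w, -, hwe⟩ := hX.le (hWX h1)
    refine ⟨w, ?_, z, hz, fun g => ?_, ι_inj ?_⟩
    · show ι w ∈ a.aW H
      rw [hwe]; exact h1
    · have := (hz2 (hxX g)).2
      rw [← hze, ← map_commutatorElement] at this
      exact hmV.1 this
    · rw [map_mul, map_commutatorElement, hwe, hze, e, map_mul, map_inv]
      group
  · show Nat.card ↥⁅d.W, d.S⁆ ≤ Nat.card ↥⁅(a.aW H).comap ι, Cfsg.pCore p G⁆
    rw [← card_map_of_injective (f := (ι : G →* Equiv.Perm G)) ι_inj (K := ⁅d.W, d.S⁆), map_commutator, ← hV, ← hS,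
      ← card_cj H ⁅a.V, a.S⁆,
      ← card_map_of_injective (f := (ι : G →* Equiv.Perm G)) ι_inj (K := ⁅(a.aW H).comap ι, Cfsg.pCore p G⁆),
      map_commutator, hcomap hWX, ← hQ]
    exact card_le_of_le tf.RWQ
  · obtain ⟨b, hb, e⟩ := tf.critAll _ hx (fun h => hxQ (hmQ.1 h)) _ (hmV.2 hw)
    obtain ⟨b', -, rfl⟩ := hX.le (hWX (tf.ABW (mem_sup_right hb)))
    exact ⟨b', tf.ABW (mem_sup_right hb), ι_inj (by rw [map_commutatorElement, map_commutatorElement, map_commutatorElement]; exact e)⟩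

section Dist2

variable (e : d.Dist2)

theorem sect_M : d.Sect e.WB e.K e.ZM :=
  ⟨e.nWB, e.nK, e.KZM, e.ZMW, e.inter, e.card_WB, e.card_ZM⟩

theorem lines_M : d.Lines e.WB e.K e.ZM :=
  { d.sect_M e with
    hab := fun a ha b hb => e.WK (e.WQ a ha b (e.WBQ hb)).1
    hQ := fun w hw g hg => e.WK (e.WQ w hw g hg).1
    hfix := fun z hz s hs => e.WK (e.fixZ z hz s hs).1
    hmove := e.move }

theorem exists_rho₂ : ∃ (fr : d.Frame) (ρ : G →* Matrix.SpecialLinearGroup (Fin 2) F),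
    Function.Surjective ρ ∧ Nat' ρ d.W d.C ∧ Nat' ρ e.WB e.K ∧ d.Follows fr ρ := by
  obtain ⟨fr, ρ, h1, h2, h3⟩ := d.exists_rho
  obtain ⟨ρ', -, h2', h3'⟩ := d.natural_of_lines fr (d.lines_M e)
  have heq : ρ' = ρ := by
    have hle : d.S ⊔ cj fr.w₀ d.S ≤ ρ'.eqLocus ρ := by
      refine sup_le (fun s hs => ?_) (fun s hs => ?_)
      · obtain ⟨x, hx⟩ := fr.hS.le (mem_map_of_mem fr.f hs)
        show ρ' s = ρ s
        rw [h3.1 x.toAdd s hs hx.symm, h3'.1 x.toAdd s hs hx.symm]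
      · have : fr.f s ∈ (v (F := F)).range := by
          rw [← fr.hw, mem_cj, show (u (F := F)).range = d.S.map fr.f from fr.hS.symm, ← map_inv, ← map_mul, ← map_mul]
          exact mem_map_of_mem fr.f (mem_cj.1 hs)
        obtain ⟨x, hx⟩ := this
        show ρ' s = ρ s
        rw [h3.2 x.toAdd s hs hx.symm, h3'.2 x.toAdd s hs hx.symm]
    exact MonoidHom.ext fun g => hle (fr.far.ge (mem_top g))
  exact ⟨fr, ρ, h1, h2, heq ▸ h2', h3⟩

theorem WB_pow (hp2 : p ≠ 2) {w : G} (hw : w ∈ e.WB) : w ^ p = 1 := by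
  let T : Subgroup G :=
    { carrier := {w | w ∈ e.WB ∧ w ^ p = 1}
      one_mem' := ⟨one_mem _, one_pow _⟩
      mul_mem' := by
        rintro a b ⟨ha, ha'⟩ ⟨hb, hb'⟩
        refine ⟨mul_mem ha hb, ?_⟩
        have hz := e.WQ b hb a (e.WBQ ha)
        rw [mul_pow_central (z := ⁅b, a⁆) (by rw [commutatorElement_def]; group)
          (mem_center_iff.1 hz.2 a).symm (mem_center_iff.1 hz.2 b).symm p, ha', hb', mul_one, mul_one]
        obtain ⟨j, hj⟩ := hp.out.dvd_choose_self two_ne_zero (lt_of_le_of_ne hp.out.two_le (Ne.symm hp2))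
        rw [hj, pow_mul, d.W_pow hz.1, one_pow]
      inv_mem' := by
        rintro a ⟨ha, ha'⟩
        exact ⟨inv_mem ha, by rw [inv_pow, ha', inv_one]⟩ }
  exact (e.genW T (fun w hw h => ⟨hw, h⟩) hw).2

theorem two_ne_two (e : d.Dist2) : p ≠ 2 := by
  intro hp2
  let T : Subgroup G :=
    { carrier := {w | w ∈ e.WB ∧ w * w ∈ center G}
      one_mem' := ⟨one_mem _, by rw [mul_one]; exact one_mem _⟩
      mul_mem' := by
        rintro a b ⟨ha, ha'⟩ ⟨hb, hb'⟩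
        refine ⟨mul_mem ha hb, ?_⟩
        have hz := (e.WQ b hb a (e.WBQ ha)).2
        rw [show a * b * (a * b) = a * ⁅b, a⁆ * a * (b * b) by rw [commutatorElement_def]; group,
          mem_center_iff.1 hz a, mul_assoc (⁅b, a⁆) a a]
        exact mul_mem (mul_mem hz ha') hb'
      inv_mem' := by
        rintro a ⟨ha, ha'⟩
        exact ⟨inv_mem ha, by rw [← _root_.mul_inv_rev]; exact inv_mem ha'⟩ }
  obtain ⟨a, ha, b, hb, h1, h2⟩ := e.crit
  have haS : a ∈ d.S := e.A2S.le (mem_sup_left ha)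
  have hxW : ⁅a, b⁆ ∈ e.WB := by
    rw [← commutatorElement_inv]; exact inv_mem (e.ZMW (e.move b hb a haS))
  have hsq : ⁅a, b⁆ * ⁅a, b⁆ ∈ center G := (e.genW T (fun w hw h => ⟨hw, by
    rw [← pow_two, ← hp2, h]; exact one_mem _⟩) hxW).2
  have hai : a⁻¹ = a := inv_eq_of_mul_eq_one_right (by rw [← pow_two, ← hp2]; exact e.A2pow a ha)
  refine h2 ⟨h1.1, ?_⟩
  have e1 : a * ⁅a, b⁆ * a⁻¹ = ⁅a, b⁆⁻¹ := by
    have haa : a * a = 1 := by rw [← pow_two, ← hp2]; exact e.A2pow a ha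
    calc a * ⁅a, b⁆ * a⁻¹ = (a * a) * b * a⁻¹ * b⁻¹ * a⁻¹ := by rw [commutatorElement_def]; group
      _ = b * a * b⁻¹ * a⁻¹ := by rw [haa, one_mul]; simp only [hai]
      _ = _ := by rw [commutatorElement_def]; group
  rw [commutatorElement_def a ⁅a, b⁆, e1, ← _root_.mul_inv_rev]
  exact (center G).inv_mem hsq

theorem crit_ne : ∃ a ∈ e.A2, ∃ b ∈ e.WB, ⁅a, ⁅a, b⁆⁆ ≠ 1 := by
  obtain ⟨a, ha, b, hb, -, h⟩ := e.crit
  exact ⟨a, ha, b, hb, fun h' => h (h' ▸ one_mem _)⟩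

variable {fr : d.Frame} {ρ : G →* Matrix.SpecialLinearGroup (Fin 2) F} (hρ : Function.Surjective ρ)
  (hnW : Nat' ρ d.W d.C) (hnM : Nat' ρ e.WB e.K) (hfol : d.Follows fr ρ)

include hfol in
theorem ker_inf_S : d.S ⊓ ρ.ker ≤ Cfsg.pCore p G := by
  intro s hs
  refine d.c.inf_ker_le ⟨hs.1, ?_⟩
  obtain ⟨x, hx⟩ := fr.hS.le (mem_map_of_mem fr.f hs.1)
  have h := (hfol.1 x.toAdd s hs.1 hx.symm).symm.trans (MonoidHom.mem_ker.1 hs.2)
  refine MonoidHom.mem_ker.2 ((fr.ker s).1 ?_)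
  rw [← hx]
  show π (uS x.toAdd) = 1
  rw [h, map_one]

include hnW hfol in
theorem ker_le {T : Subgroup G} (hQ : Cfsg.pCore p G ≤ T)
    (h : ∀ g : G, (orderOf g).Coprime p → ρ g = 1 → g ∈ T) : ρ.ker ≤ T := by
  haveI := d.c.core_normal
  intro g hg
  refine mem_of_parts (fun x hx hcop => h x hcop ?_) (fun x hx hpx => hQ ?_)
  · obtain ⟨i, rfl⟩ := mem_zpowers_iff.1 hx
    rw [map_zpow, MonoidHom.mem_ker.1 hg, _root_.one_zpow]
  · obtain ⟨k, hk⟩ := hpx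
    have hxp : IsPGroup p (zpowers x) := by
      intro z
      obtain ⟨i, hi⟩ := mem_zpowers_iff.1 z.2
      refine ⟨k, Subtype.ext ?_⟩
      show (z : G) ^ p ^ k = 1
      rw [← hi, ← zpow_natCast, ← _root_.zpow_mul, mul_comm, _root_.zpow_mul, zpow_natCast, hk, _root_.one_zpow]
    obtain ⟨P, hP⟩ := hxp.exists_le_sylow
    obtain ⟨c, hc⟩ := MulAction.exists_smul_eq G d.c.S P
    have hxc : x ∈ cj c d.S := by
      have := hP (mem_zpowers x)
      rw [← hc] at this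
      exact this
    have hxk : ρ x = 1 := by
      obtain ⟨i, rfl⟩ := mem_zpowers_iff.1 hx
      rw [map_zpow, MonoidHom.mem_ker.1 hg, _root_.one_zpow]
    have h1 := d.ker_inf_S hfol ⟨mem_cj.1 hxc, MonoidHom.mem_ker.2 (by
      rw [map_mul, map_mul, hxk, mul_one, map_inv, inv_mul_cancel])⟩
    simpa [mul_assoc] using Normal.conj_mem inferInstance _ h1 c

include hnW hnM in
theorem centralize_WB {g : G} (hg : (orderOf g).Coprime p) (h : ρ g = 1) : ∀ x ∈ e.WB, g * x = x * g := by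
  haveI := e.nWB
  haveI := e.nK
  have hK : IsPGroup p e.K := (Cfsg.Lib.Components.pCore_normal_and_isPGroup p).2.to_le
    ((e.KZM.trans e.ZMW).trans e.WBQ)
  refine coprime_centralize hK hg (d.nat_triv hnM h) ?_
  exact coprime_centralize (d.c.S.2.to_le d.W_le_S) hg (fun x hx => e.fixK x hx g) (d.centralize_W hnW hg h)

include hnW hfol in
theorem ker_centralize_W {g : G} (hg : ρ g = 1) : ∀ x ∈ d.W, g * x = x * g := by
  have h := d.ker_le hnW hfol (T := centralizer (d.W : Set G)) d.core_le_centralizer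
    (fun g hg h => mem_centralizer_iff.2 fun x hx => (d.centralize_W hnW hg h x hx).symm)
  exact fun x hx => (mem_centralizer_iff.1 (h (MonoidHom.mem_ker.2 hg)) x hx).symm

include hnW in
theorem inverted {t x : G} (ht : ρ t = negOne) (hx : x ∈ d.W) : t * x * t⁻¹ * x ∈ d.C := by
  obtain ⟨l, hadd, -, hker, hequi⟩ := hnW
  haveI := d.W_normal
  have hc := Normal.conj_mem (inferInstance : d.W.Normal) x hx t
  refine (hker _ (mul_mem hc hx)).1 ?_
  rw [hadd _ hc _ hx, hequi t x hx, ht]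
  show (-1 : Matrix (Fin 2) (Fin 2) F) *ᵥ l x + l x = 0
  rw [Matrix.neg_mulVec, Matrix.one_mulVec, neg_add_cancel]

include hρ hnW hnM hfol in
/-- the elements of `p'`-order fix `Q` modulo the upper module -/
theorem triv₂ (hs : d.Shift e) : Triv p e.WB (Cfsg.pCore p G) := by
  haveI := d.c.core_normal
  haveI := e.nWB
  haveI := d.W_normal
  haveI := d.C_normal
  have hp2 := d.two_ne_two e
  -- a coprime element inverting the modules
  obtain ⟨t, htc, ht⟩ : ∃ t : G, (orderOf t).Coprime p ∧ ρ t = negOne := by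
    obtain ⟨g, hg⟩ := hρ negOne
    obtain ⟨k, m, hm, hkm⟩ := Nat.exists_eq_pow_mul_and_not_dvd (orderOf_pos g).ne' p hp.out.ne_one
    refine ⟨g ^ p ^ k, ?_, ?_⟩
    · rw [orderOf_pow_of_dvd (pow_ne_zero _ hp.out.ne_zero) ⟨m, hkm⟩, hkm,
        Nat.mul_div_cancel_left _ (pow_pos hp.out.pos _)]
      exact ((hp.out.coprime_iff_not_dvd).2 hm).symm
    · rw [map_pow, hg]
      have hodd : Odd (p ^ k) := (hp.out.odd_of_ne_two hp2).pow
      obtain ⟨i, hi⟩ := hodd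
      refine sl_ext ?_
      rw [Matrix.SpecialLinearGroup.coe_pow]
      show (-1 : Matrix (Fin 2) (Fin 2) F) ^ (p ^ k) = -1
      rw [hi, pow_succ, pow_mul, neg_one_sq, one_pow, one_mul]
  have hneg : ∀ g, ρ g * negOne = negOne * ρ g := fun g => sl_ext (by
    rw [cmul, cmul]
    show (ρ g : Matrix (Fin 2) (Fin 2) F) * -1 = -1 * (ρ g : Matrix (Fin 2) (Fin 2) F)
    simp)
  have hn0 : ∀ g, ρ (t * g * t⁻¹ * g⁻¹) = 1 := fun g => by
    rw [map_mul, map_mul, map_mul, map_inv, map_inv, ht, ← hneg, mul_inv_cancel_right, mul_inv_cancel]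
  obtain ⟨h2, hh⟩ : ∃ h j, 2 * h = p * j + 1 := by
    obtain ⟨i, hi⟩ := hp.out.odd_of_ne_two hp2
    exact ⟨i + 1, 1, by omega⟩
  obtain ⟨j, hh⟩ := hh
  have hWp : ∀ w ∈ d.W, w ^ (2 * h2) = w := fun w hw => by
    rw [hh, pow_succ, pow_mul, d.W_pow hw, one_pow, one_mul]
  have hsq : ∀ {z}, z ∈ d.W → z * z ∈ d.C → z ∈ d.C := fun {z} hz h => by
    rw [← hWp z hz, pow_mul, pow_two]
    exact pow_mem h _
  -- fixed elements are central modulo the fixed points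
  have hkappa : ∀ k ∈ e.K, t * k = k * t → ∀ g, ⁅k, g⁆ ∈ d.C := by
    intro k hk htk g
    let T : Subgroup G :=
      { carrier := {g | ⁅k, g⁆ ∈ d.C}
        one_mem' := by simp
        mul_mem' := fun {a b} ha hb => by
          show ⁅k, a * b⁆ ∈ d.C
          rw [d.comm_mul_right]
          exact mul_mem ha (Normal.conj_mem inferInstance _ hb a)
        inv_mem' := fun {a} ha => by
          show ⁅k, a⁻¹⁆ ∈ d.C
          rw [show ⁅k, a⁻¹⁆ = a⁻¹ * ⁅k, a⁆⁻¹ * a⁻¹⁻¹ by simp only [commutatorElement_def]; group]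
          exact Normal.conj_mem inferInstance _ (inv_mem ha) a⁻¹ }
    have hker : ρ.ker ≤ T := d.ker_le hnW hfol
      (fun q hq => e.WQ k (e.ZMW (e.KZM hk)) q hq) (fun g hg h => by
        show ⁅k, g⁆ ∈ d.C
        rw [commutatorElement_eq_one_iff_mul_comm.2 (d.centralize_WB e hnW hnM hg h k (e.ZMW (e.KZM hk))).symm]
        exact one_mem _)
    set v := ⁅k, g⁆
    have hv : v ∈ d.W := e.fixK k hk g
    have h1 : ⁅k, t * g * t⁻¹⁆ = t * v * t⁻¹ := by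
      rw [d.comm_conj, show t * k * t⁻¹ = k by rw [htk, mul_inv_cancel_right]]
    set n₀ := t * g * t⁻¹ * g⁻¹
    have h2 : ⁅k, t * g * t⁻¹⁆ = ⁅k, n₀⁆ * (n₀ * v * n₀⁻¹) := by
      rw [show t * g * t⁻¹ = n₀ * g by simp [n₀], d.comm_mul_right]
    have h3 : n₀ * v * n₀⁻¹ = v := by rw [d.ker_centralize_W hnW hfol (hn0 g) v hv, mul_inv_cancel_right]
    have h4 : t * v * t⁻¹ * v⁻¹ ∈ d.C := by
      rw [← h1, h2, h3, mul_inv_cancel_right]
      exact hker (MonoidHom.mem_ker.2 (hn0 g))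
    refine hsq hv ?_
    have := mul_mem (inv_mem h4) (d.inverted hnW ht hv)
    convert this using 1
    group
  -- decomposition
  have hdecK : ∀ k ∈ e.K, ∃ v ∈ d.W, t * (v⁻¹ * k) = v⁻¹ * k * t := by
    intro k hk
    set c := ⁅t, k⁆
    have hc : c ∈ d.W := by rw [← inv_mem_iff, commutatorElement_inv]; exact e.fixK k hk t
    set v := (c ^ h2)⁻¹
    have hv : v ∈ d.W := inv_mem (pow_mem hc _)
    refine ⟨v, hv, ?_⟩
    have hvc : t * v⁻¹ * t⁻¹ * v⁻¹ ∈ d.C := d.inverted hnW ht (inv_mem hv)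
    set c' := t * v⁻¹ * t⁻¹ * v⁻¹ * (v * c * v)
    have hc'C : c' ∈ d.C := by
      refine mul_mem hvc ?_
      have e1 : v * c * v = 1 := by
        have hcc : Commute v c := ((Commute.refl c).pow_left h2).inv_left
        rw [hcc.eq, mul_assoc]
        show c * (v * v) = 1
        have e2 : v * v = (c ^ (2 * h2))⁻¹ := by rw [two_mul, pow_add, _root_.mul_inv_rev]
        rw [e2, hWp c hc, mul_inv_cancel]
      rw [e1]; exact one_mem _
    have hfix : t * (v⁻¹ * k) * t⁻¹ = c' * (v⁻¹ * k) := by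
      have hvv : Commute v c := ((Commute.refl c).pow_left h2).inv_left
      calc t * (v⁻¹ * k) * t⁻¹ = (t * v⁻¹ * t⁻¹) * (c * k) := by simp only [c, commutatorElement_def]; group
        _ = t * v⁻¹ * t⁻¹ * v⁻¹ * ((v * c) * k) := by group
        _ = _ := by simp only [c']; group
    have hc1 : c' = 1 := coprime_fix (x := v⁻¹ * k) htc hfix (mem_center_iff.1 hc'C.2 t)
      ⟨1, by rw [pow_one]; exact d.W_pow hc'C.1⟩
    rw [hc1, one_mul] at hfix
    calc t * (v⁻¹ * k) = t * (v⁻¹ * k) * t⁻¹ * t := by group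
      _ = _ := by rw [hfix]
  -- the commutators of `S` are inverted
  have hRinv : ∀ g r, r ∈ cj g ⁅d.W, d.S⁆ → r ∈ d.C → r = 1 := by
    have hle : ∀ r ∈ ⁅d.W, d.S⁆, r ∈ d.W ∧ t * r * t⁻¹ = r⁻¹ := by
      let T : Subgroup G :=
        { carrier := {r | r ∈ d.W ∧ t * r * t⁻¹ = r⁻¹}
          one_mem' := ⟨one_mem _, by simp⟩
          mul_mem' := fun {a b} ha hb => ⟨mul_mem ha.1 hb.1, by
            rw [show t * (a * b) * t⁻¹ = (t * a * t⁻¹) * (t * b * t⁻¹) by group, ha.2, hb.2,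
              ← _root_.mul_inv_rev, d.W_comm hb.1 ha.1]⟩
          inv_mem' := fun {a} ha => ⟨inv_mem ha.1, by
            rw [show t * a⁻¹ * t⁻¹ = (t * a * t⁻¹)⁻¹ by group, ha.2]⟩ }
      show ⁅d.W, d.S⁆ ≤ T
      refine commutator_le.2 fun v hv s hs => ⟨d.comm_W hv s, ?_⟩
      set v' := t * v * t⁻¹
      have hv' : v' ∈ d.W := Normal.conj_mem inferInstance v hv t
      set v₁ := v ^ h2 * (v' ^ h2)⁻¹
      have hv₁ : v₁ ∈ d.W := mul_mem (pow_mem hv _) (inv_mem (pow_mem hv' _))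
      have htt : t * v' * t⁻¹ = v := by
        have e1 : ρ (t * t) = 1 := by
          rw [map_mul, ht]; exact sl_ext (by rw [cmul]; show (-1 : Matrix (Fin 2) (Fin 2) F) * -1 = 1; simp)
        have := d.ker_centralize_W hnW hfol e1 v hv
        calc t * v' * t⁻¹ = t * t * v * (t * t)⁻¹ := by simp only [v']; group
          _ = v := by rw [this, mul_inv_cancel_right]
      have h1 : t * v₁ * t⁻¹ = v₁⁻¹ := by
        rw [show t * v₁ * t⁻¹ = (t * v * t⁻¹) ^ h2 * ((t * v' * t⁻¹) ^ h2)⁻¹ by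
          simp only [v₁, conj_pow]; group, htt]
        simp only [v₁, _root_.mul_inv_rev, inv_inv, v']
      have h3 : v₁⁻¹ * v ∈ d.C := by
        set c₀ := v' * v
        have hc₀ : c₀ ∈ d.C := d.inverted hnW ht hv
        have e1 : v' = c₀ * v⁻¹ := by simp [c₀]
        have e2 : v₁ = v * (c₀ ^ h2)⁻¹ := by
          have hcv : Commute c₀ v⁻¹ := (mem_center_iff.1 hc₀.2 v⁻¹).symm
          simp only [v₁]
          rw [e1, hcv.mul_pow, _root_.mul_inv_rev, ← inv_pow v⁻¹, inv_inv, ← mul_assoc, ← pow_add, ← two_mul,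
            hWp v hv]
        rw [e2, show (v * (c₀ ^ h2)⁻¹)⁻¹ * v = c₀ ^ h2 * 1 by group, mul_one]
        exact pow_mem hc₀ _
      have hev : ⁅v, s⁆ = ⁅v₁, s⁆ := by
        have e1 : ⁅v₁⁻¹ * v, s⁆ = 1 := commutatorElement_eq_one_iff_mul_comm.2
          (mem_center_iff.1 h3.2 s).symm
        calc ⁅v, s⁆ = ⁅v₁ * (v₁⁻¹ * v), s⁆ := by rw [mul_inv_cancel_left]
          _ = ⁅v₁, s⁆ * ⁅v₁⁻¹ * v, s⁆ := d.comm_mul_left hv₁ (mul_mem (inv_mem hv₁) hv)
          _ = ⁅v₁, s⁆ := by rw [e1, mul_one]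
      set n₀ := t * s * t⁻¹ * s⁻¹
      have hn : ∀ w ∈ d.W, n₀ * w * n₀⁻¹ = w := fun w hw => by
        rw [d.ker_centralize_W hnW hfol (hn0 s) w hw, mul_inv_cancel_right]
      have e5 : ⁅v₁⁻¹, n₀⁆ = 1 := commutatorElement_eq_one_iff_mul_comm.2
        (d.ker_centralize_W hnW hfol (hn0 s) _ (inv_mem hv₁)).symm
      rw [hev, d.comm_conj, h1, show t * s * t⁻¹ = n₀ * s by simp [n₀], d.comm_mul_right, e5, one_mul,
        hn _ (d.comm_W (inv_mem hv₁) s)]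
      refine eq_inv_of_mul_eq_one_left ?_
      rw [← d.comm_mul_left (inv_mem hv₁) hv₁, inv_mul_cancel, commutatorElement_one_left]
    intro g r hr hrC
    obtain ⟨hW, hi⟩ := hle _ (mem_cj.1 hr)
    have hc : g⁻¹ * r * g = r := by rw [mem_center_iff.1 hrC.2 g⁻¹, inv_mul_cancel_right]
    rw [hc] at hi
    rw [mem_center_iff.1 hrC.2 t, mul_inv_cancel_right] at hi
    have h2r : r * r = 1 := by nth_rw 2 [hi]; exact mul_inv_cancel r
    rw [← hWp r hrC.1, pow_mul, pow_two, h2r, one_pow]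
  -- the shift
  have hQA := hs.QA2 fun k hk => by
    obtain ⟨v, hv, htv⟩ := hdecK k hk
    have hk' : v⁻¹ * k ∈ e.K := mul_mem (inv_mem (e.WK hv)) hk
    refine ⟨v, hv, fun u hu => commutatorElement_eq_one_iff_mul_comm.1 ?_⟩
    exact hRinv _ _ (hs.DU _ hk' u hu) (hkappa _ hk' htv u)
  -- the fixed elements
  let Fix : Subgroup G :=
    { carrier := {z | z ∈ Cfsg.pCore p G ∧ ∀ g, ⁅z, g⁆ ∈ e.WB}
      one_mem' := ⟨one_mem _, fun g => by simp⟩
      mul_mem' := fun {a b} ha hb => ⟨mul_mem ha.1 hb.1, fun g => by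
        rw [show ⁅a * b, g⁆ = (a * ⁅b, g⁆ * a⁻¹) * ⁅a, g⁆ by simp only [commutatorElement_def]; group]
        exact mul_mem (Normal.conj_mem inferInstance _ (hb.2 g) a) (ha.2 g)⟩
      inv_mem' := fun {a} ha => ⟨inv_mem ha.1, fun g => by
        rw [show ⁅a⁻¹, g⁆ = a⁻¹ * ⁅a, g⁆⁻¹ * a⁻¹⁻¹ by simp only [commutatorElement_def]; group]
        exact Normal.conj_mem inferInstance _ (inv_mem (ha.2 g)) a⁻¹⟩ }
  haveI : Fix.Normal := ⟨fun z hz g => ⟨Normal.conj_mem inferInstance _ hz.1 g, fun x => by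
    rw [show ⁅g * z * g⁻¹, x⁆ = g * ⁅z, g⁻¹ * x * g⁆ * g⁻¹ by simp only [commutatorElement_def]; group]
    exact Normal.conj_mem inferInstance _ (hz.2 _) g⟩⟩
  have hWBF : e.WB ≤ Fix := fun w hw => ⟨e.WBQ hw, fun g => by
    rw [commutatorElement_def, mul_assoc, mul_assoc]
    exact mul_mem hw (by simpa [mul_assoc] using Normal.conj_mem (inferInstance : e.WB.Normal) _ (inv_mem hw) g)⟩
  have hFQ : Fix ≤ Cfsg.pCore p G := fun z hz => hz.1
  refine Triv.trans (N₂ := Fix) ((Cfsg.Lib.Components.pCore_normal_and_isPGroup p).2.to_le hFQ)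
    (fun g _ x hx => hx.2 g) ?_
  set N := fixN (Cfsg.pCore p G) Fix
  have hA2N : e.A2 ≤ N := fun a ha q hq => by
    obtain ⟨w, hw, z, hz, hz2, he⟩ := hQA q hq a ha
    rw [← he]
    exact mul_mem (hWBF hw) ⟨hz, fun g => e.ZMW (e.KZM (e.WK (hz2 g)))⟩
  have hA2le : e.A2 ≤ d.S := le_sup_left.trans e.A2S.le
  have hnot : ¬ e.A2 ≤ Cfsg.pCore p G := fun h => by
    have hle := card_le_of_le (e.A2S.ge.trans (sup_le h le_rfl))
    rw [d.card_S] at hle
    exact absurd hle (not_le.2 (lt_mul_of_one_lt_left Nat.card_pos d.one_lt_q))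
  intro g hg
  exact d.c.mem_of_coprime (N := N)
    (fun h => d.c.closure_not_le hA2le hnot ((normalClosure_le_normal hA2N).trans h)) hg

include hρ hnW hnM hfol in
theorem ker_two (hs : d.Shift e) : ρ.ker = Cfsg.pCore p G := by
  haveI := e.nWB
  exact d.ker_eq hnW fun g hg h => coprime_centralize
    ((Cfsg.Lib.Components.pCore_normal_and_isPGroup p).2.to_le e.WBQ) hg
    (fun x hx => d.triv₂ e hρ hnW hnM hfol hs g hg x hx) (d.centralize_WB e hnW hnM hg h)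

include hρ hnW hnM hfol in
/-- only the prime three -/
theorem eq_three : p = 3 := by
  by_contra hp3
  have hp2 := d.two_ne_two e
  haveI := d.W_normal
  haveI := e.nWB
  haveI := d.C_normal
  haveI : CharP F p := charP_of_card_eq_prime_pow d.c.hF
  haveI := d.c.core_normal
  have h2F : (2 : F) ≠ 0 := fun h => by
    have : p ∣ 2 := (CharP.cast_eq_zero_iff F p 2).1 (by exact_mod_cast h)
    exact hp2 ((Nat.prime_dvd_prime_iff_eq hp.out Nat.prime_two).1 this)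
  obtain ⟨δ, hδ⟩ : ∃ δ : Matrix.SpecialLinearGroup (Fin 2) F, (δ : Matrix (Fin 2) (Fin 2) F) = !![2, 0; 0, 2⁻¹] :=
    ⟨⟨!![2, 0; 0, 2⁻¹], by simp [det_fin_two, h2F]⟩, rfl⟩
  obtain ⟨g, hg⟩ := hρ δ
  obtain ⟨k', j, hk'⟩ : ∃ k' j, 2 * k' = p * j + 1 := by
    obtain ⟨i, hi⟩ := hp.out.odd_of_ne_two hp2
    exact ⟨i + 1, 1, by omega⟩
  obtain ⟨a, ha, b, hb, hz, hzC⟩ := e.crit
  have haS : a ∈ d.S := e.A2S.le (mem_sup_left ha)
  -- the image of `a`
  have hrs : ∀ s ∈ d.S, ∃ x, ρ s = uS x := fun s hs => by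
    obtain ⟨x, hx⟩ := fr.hS.le (mem_map_of_mem fr.f hs)
    exact ⟨x.toAdd, hfol.1 x.toAdd s hs hx.symm⟩
  let T : Subgroup G :=
    { carrier := {g | ∀ w ∈ e.WB, ⁅w, g⁆ ∈ d.C}
      one_mem' := fun w _ => by simp
      mul_mem' := fun {a b} ha hb w hw => by
        rw [d.comm_mul_right]
        exact mul_mem (ha w hw) (Normal.conj_mem inferInstance _ (hb w hw) a)
      inv_mem' := fun {a} ha w hw => by
        rw [show ⁅w, a⁻¹⁆ = a⁻¹ * ⁅w, a⁆⁻¹ * a⁻¹⁻¹ by simp only [commutatorElement_def]; group]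
        exact Normal.conj_mem inferInstance _ (inv_mem (ha w hw)) a⁻¹ }
  have hWQker : ∀ w ∈ e.WB, ∀ g, ρ g = 1 → ⁅w, g⁆ ∈ d.C := fun w hw g hg =>
    d.ker_le hnW hfol (T := T) (fun q hq w hw => e.WQ w hw q hq)
      (fun g hg h w hw => by
        rw [commutatorElement_eq_one_iff_mul_comm.2 (d.centralize_WB e hnW hnM hg h w hw).symm]
        exact one_mem _) (MonoidHom.mem_ker.2 hg) w hw
  obtain ⟨x, hx⟩ := hrs a haS
  obtain ⟨q, hqQ, hq⟩ : ∃ q, ρ q = 1 ∧ g * a * g⁻¹ = q * a ^ 4 := by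
    refine ⟨g * a * g⁻¹ * (a ^ 4)⁻¹, ?_, by group⟩
    simp only [map_mul, map_inv, map_pow, hx, hg]
    have e4 : (uS x : Matrix.SpecialLinearGroup (Fin 2) F) ^ 4 = uS (4 * x) := by
      rw [show (4 : F) * x = x + x + x + x by ring, uS_add, uS_add, uS_add]
      simp [pow_succ, mul_assoc]
    rw [e4, mul_inv_eq_one]
    refine mul_inv_eq_iff_eq_mul.2 ?_
    refine sl_ext ?_
    rw [cmul, cmul, coe_uS, coe_uS, hδ]
    ext i j; fin_cases i <;> fin_cases j <;> simp [Matrix.mul_apply, Fin.sum_univ_two] <;> field_simp <;> ring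
  -- the image of `b`
  obtain ⟨s, hsS, hsQ⟩ := SetLike.not_le_iff_exists.1 (show ¬ d.S ≤ Cfsg.pCore p G from fun h => by
    have := card_le_of_le h
    rw [d.card_S] at this
    exact absurd this (not_le.2 (lt_mul_of_one_lt_left Nat.card_pos d.one_lt_q)))
  obtain ⟨xs, hxs⟩ := hrs s hsS
  have hlast : ∀ {W C : Subgroup G} [W.Normal] [C.Normal], Nat' ρ W C → ∃ l : G → (Fin 2 → F),
      (∀ a ∈ W, ∀ b ∈ W, l (a * b) = l a + l b) ∧ (∀ a ∈ W, l a = 0 ↔ a ∈ C) ∧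
      (∀ g, ∀ a ∈ W, l (g * a * g⁻¹) = (ρ g : Matrix (Fin 2) (Fin 2) F) *ᵥ l a) ∧
      (∀ a ∈ W, ∀ n : ℕ, l (a ^ n) = (n : F) • l a) := by
    intro W C _ _ hn
    obtain ⟨l, hadd, -, hker, hequi⟩ := hn
    have h1 : l 1 = 0 := (hker 1 (one_mem _)).2 (one_mem _)
    refine ⟨l, hadd, hker, hequi, fun a ha n => ?_⟩
    induction n with
    | zero => simp [h1]
    | succ n ih => rw [pow_succ, hadd _ (pow_mem ha n) _ ha, ih, Nat.cast_succ, add_smul, one_smul]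
  haveI := e.nK
  obtain ⟨lM, hMadd, hMker, hMequi, hMpow⟩ := hlast hnM
  have hk'F : (2 : F) * (k' : F) = 1 := by
    have := congrArg (Nat.cast (R := F)) hk'
    push_cast at this
    rw [this, CharP.cast_eq_zero F p, zero_mul, zero_add]
  obtain ⟨w, hwZM, hw⟩ : ∃ w ∈ e.ZM, g * b * g⁻¹ = w * b ^ k' := by
    refine ⟨g * b * g⁻¹ * (b ^ k')⁻¹, ?_, by group⟩
    set w := g * b * g⁻¹ * (b ^ k')⁻¹
    have hwW : w ∈ e.WB := mul_mem (Normal.conj_mem inferInstance b hb g) (inv_mem (pow_mem hb _))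
    by_contra hne
    refine hsQ (d.sect_reg (d.sect_M e) hwW hne hsS ?_)
    have h1 : lM (s * w * s⁻¹) = lM w := by
      have e0 : lM w 1 = 0 := by
        have h2 := hMadd w hwW (b ^ k') (pow_mem hb _)
        rw [inv_mul_cancel_right, hMequi g b hb, hg, hδ, hMpow b hb] at h2
        have h3 := congrFun h2 1
        simp [Matrix.mulVec, dotProduct, Fin.sum_univ_two] at h3
        rw [inv_eq_of_mul_eq_one_right hk'F] at h3
        linear_combination -h3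
      rw [hMequi s w hwW, hxs, coe_uS]
      funext i; fin_cases i <;> simp [Matrix.mulVec, dotProduct, Fin.sum_univ_two, e0]
    have hsw : s * w * s⁻¹ ∈ e.WB := Normal.conj_mem inferInstance w hwW s
    have h2 := hMadd _ hsw _ (mul_mem (inv_mem hsw) hwW)
    rw [mul_inv_cancel_left, h1, left_eq_add] at h2
    have h3 := e.nK.conj_mem _ ((hMker _ (mul_mem (inv_mem hsw) hwW)).1 h2) w
    simpa [commutatorElement_def, mul_assoc] using h3
  -- the value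
  set z := ⁅a, ⁅a, b⁆⁆
  have hzC' : ∀ {r}, r ∈ d.C → ∀ h, h * r = r * h := fun hr h => mem_center_iff.1 hr.2 h
  obtain ⟨l, hladd, hlker, hlequi, hlpow⟩ := hlast hnW
  have hgz : (z ^ 2)⁻¹ * (g * z * g⁻¹) ∈ d.C := by
    have hgzW : g * z * g⁻¹ ∈ d.W := Normal.conj_mem inferInstance z hz.1 g
    refine (hlker _ (mul_mem (inv_mem (pow_mem hz.1 2)) hgzW)).1 ?_
    have h0 : l z 1 = 0 := by
      have h1 := hlequi s z hz.1
      rw [d.Z_fix hz hsS, hxs, coe_uS] at h1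
      have h2 := congrFun h1 0
      simp [Matrix.mulVec, dotProduct, Fin.sum_univ_two] at h2
      refine h2.resolve_left fun hxs0 => hsQ ?_
      refine d.ker_inf_S hfol ⟨hsS, MonoidHom.mem_ker.2 ?_⟩
      rw [hxs, hxs0]
      exact sl_ext (by rw [coe_uS, cone]; simp [one_fin_two])
    have h2 := hladd _ (pow_mem hz.1 2) _ (mul_mem (inv_mem (pow_mem hz.1 2)) hgzW)
    rw [mul_inv_cancel_left, hlequi g z hz.1, hg, hδ, hlpow z hz.1] at h2
    refine add_left_cancel (a := ((2 : ℕ) : F) • l z) ?_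
    rw [add_zero, ← h2]
    funext i; fin_cases i <;> simp [Matrix.mulVec, dotProduct, Fin.sum_univ_two, h0]
  -- multilinearity
  have hmoveA : ∀ s ∈ d.S, ∀ w ∈ e.WB, ⁅s, w⁆ ∈ e.ZM := fun s hs w hw => by
    rw [← commutatorElement_inv]; exact inv_mem (e.move w hw s hs)
  have hZMS : e.ZM ≤ d.S := (e.ZMW.trans e.WBQ).trans d.c.core_le
  have hfixA : ∀ x ∈ e.ZM, ∀ s ∈ d.S, ⁅s, x⁆ ∈ d.Z := fun x hx s hs => by
    rw [← commutatorElement_inv]; exact inv_mem (e.fixZ x hx s hs)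
  have hmulx : ∀ s ∈ d.S, ∀ x ∈ e.ZM, ∀ x' ∈ e.ZM, ⁅s, x * x'⁆ = ⁅s, x⁆ * ⁅s, x'⁆ := fun s hs x hx x' hx' => by
    rw [d.comm_mul_right, d.Z_fix (hfixA x' hx' s hs) (hZMS hx)]
  have hpowx : ∀ x ∈ e.ZM, ∀ i : ℕ, ⁅a, x ^ i⁆ = ⁅a, x⁆ ^ i := fun x hx i => by
    induction i with
    | zero => simp
    | succ i ih => rw [pow_succ, hmulx a haS _ (pow_mem hx i) x hx, ih, pow_succ]
  have hpows : ∀ x ∈ e.ZM, ∀ i : ℕ, ⁅a ^ i, x⁆ = ⁅a, x⁆ ^ i := fun x hx i => by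
    induction i with
    | zero => simp
    | succ i ih =>
      rw [show ⁅a ^ (i + 1), x⁆ = a ^ i * ⁅a, x⁆ * (a ^ i)⁻¹ * ⁅a ^ i, x⁆ by
          rw [pow_succ]; simp only [commutatorElement_def]; group,
        d.Z_fix (hfixA x hx a haS) (pow_mem haS i), ih, ← pow_succ']
  have hkill : ∀ c ∈ d.Z, ⁅a, c⁆ = 1 := fun c hc =>
    commutatorElement_eq_one_iff_mul_comm.2 (mem_centralizer_iff.1 hc.2 a haS)
  have hZZM : d.Z ≤ e.ZM := fun c hc => e.KZM (e.WK hc.1)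
  -- modulo `Z`, the inner commutator is linear
  have hinner : ∀ i : ℕ, ∀ b' ∈ e.WB, ⁅a, ⁅a ^ i, b'⁆⁆ = ⁅a, ⁅a, b'⁆⁆ ^ i := by
    intro i b' hb'
    induction i with
    | zero => simp
    | succ i ih =>
      have hx1 : ⁅a ^ i, b'⁆ ∈ e.ZM := hmoveA _ (pow_mem haS i) b' hb'
      have hx2 : ⁅a, b'⁆ ∈ e.ZM := hmoveA a haS b' hb'
      have hs1 : ⁅a, ⁅a ^ i, b'⁆⁆ ∈ d.Z := hfixA _ hx1 a haS
      rw [show ⁅a ^ (i + 1), b'⁆ = ⁅a, ⁅a ^ i, b'⁆⁆ * ⁅a ^ i, b'⁆ * ⁅a, b'⁆ by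
          rw [pow_succ']; simp only [commutatorElement_def]; group,
        hmulx a haS _ (mul_mem (hZZM hs1) hx1) _ hx2, hmulx a haS _ (hZZM hs1) _ hx1, hkill _ hs1, one_mul, ih,
        ← pow_succ]
  have hinnerb : ∀ i : ℕ, ⁅a, ⁅a, b ^ i⁆⁆ = z ^ i := by
    intro i
    induction i with
    | zero => simp
    | succ i ih =>
      have hx : ⁅a, b⁆ ∈ e.ZM := hmoveA a haS b hb
      have hc := e.WQ (b ^ i) (pow_mem hb i) _ (e.WBQ (e.ZMW hx))
      have hx' : ⁅a, b ^ i⁆ ∈ e.ZM := hmoveA a haS _ (pow_mem hb i)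
      have hcZ : ⁅b ^ i, ⁅a, b⁆⁆ ∈ d.Z := d.C_le hc
      rw [show ⁅a, b ^ (i + 1)⁆ = ⁅a, b ^ i⁆ * (⁅b ^ i, ⁅a, b⁆⁆ * ⁅a, b⁆) by
          rw [pow_succ]; simp only [commutatorElement_def]; group,
        hmulx a haS _ hx' _ (mul_mem (hZZM hcZ) hx), hmulx a haS _ (hZZM hcZ) _ hx, hkill _ hcZ, one_mul, ih,
        ← pow_succ]
  have hgval : (z ^ (16 * k'))⁻¹ * (g * z * g⁻¹) ∈ d.C := by
    rw [d.comm_conj, d.comm_conj, hq, hw]
    set a4 := a ^ 4
    have ha4 : a4 ∈ d.S := pow_mem haS 4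
    have hbk : b ^ k' ∈ e.WB := pow_mem hb _
    have hwb : w * b ^ k' ∈ e.WB := mul_mem (e.ZMW hwZM) hbk
    have hy : ⁅a4, w * b ^ k'⁆ = ⁅a4, w⁆ * ⁅a4, b ^ k'⁆ := by
      rw [d.comm_mul_right, show w * ⁅a4, b ^ k'⁆ * w⁻¹ = ⁅a4, b ^ k'⁆ by
        rw [e.ZMab w hwZM _ (hmoveA a4 ha4 _ hbk), mul_inv_cancel_right]]
    have hyZM : ⁅a4, w * b ^ k'⁆ ∈ e.ZM := hmoveA a4 ha4 _ hwb
    set c₁ := ⁅q, w * b ^ k'⁆
    have hc₁ : c₁ ∈ d.C := by
      rw [show c₁ = ⁅w * b ^ k', q⁆⁻¹ from (commutatorElement_inv _ _).symm]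
      exact inv_mem (hWQker _ hwb q hqQ)
    set c₂ := ⁅q, ⁅a4, w * b ^ k'⁆⁆
    have hc₂ : c₂ ∈ d.C := by
      rw [show c₂ = ⁅⁅a4, w * b ^ k'⁆, q⁆⁻¹ from (commutatorElement_inv _ _).symm]
      exact inv_mem (hWQker _ (e.ZMW hyZM) q hqQ)
    have hin : ⁅q * a4, w * b ^ k'⁆ = c₂ * ⁅a4, w * b ^ k'⁆ * c₁ := by
      simp only [c₁, c₂, commutatorElement_def]; group
    set Y := c₂ * ⁅a4, w * b ^ k'⁆ * c₁
    have hY : Y ∈ e.ZM := mul_mem (mul_mem (hZZM (d.C_le hc₂)) hyZM) (hZZM (d.C_le hc₁))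
    have hv : ⁅a, Y⁆ = z ^ (4 * k') := by
      rw [hmulx a haS _ (mul_mem (hZZM (d.C_le hc₂)) hyZM) _ (hZZM (d.C_le hc₁)),
        hmulx a haS _ (hZZM (d.C_le hc₂)) _ hyZM, hkill _ (d.C_le hc₂), hkill _ (d.C_le hc₁), one_mul, mul_one, hy,
        hmulx a haS _ (hmoveA a4 ha4 _ (e.ZMW hwZM)) _ (hmoveA a4 ha4 _ hbk), hkill _ (hfixA w hwZM a4 ha4),
        one_mul, hinner 4 _ hbk, hinnerb k', ← pow_mul, mul_comm]
    rw [hin, show ⁅q * a4, Y⁆ = q * ⁅a4, Y⁆ * q⁻¹ * ⁅q, Y⁆ by simp only [commutatorElement_def]; group,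
      show q * ⁅a4, Y⁆ * q⁻¹ = ⁅a4, Y⁆ by
        rw [d.ker_centralize_W hnW hfol hqQ _ (hfixA Y hY a4 ha4).1, mul_inv_cancel_right], hpows Y hY 4, hv, ← pow_mul,
      show 4 * k' * 4 = 16 * k' by ring, inv_mul_cancel_left, ← commutatorElement_inv]
    exact inv_mem (hWQker Y (e.ZMW hY) q hqQ)
  -- arithmetic
  refine hzC ?_
  have hk16 : 2 ≤ 16 * k' := by
    have : 1 ≤ k' := Nat.one_le_iff_ne_zero.2 fun h => by rw [h] at hk'; simp at hk'
    omega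
  have h3 : z ^ (16 * k' - 2) ∈ d.C := by
    have h4 := mul_mem hgz (inv_mem hgval)
    rw [show (z ^ 2)⁻¹ * (g * z * g⁻¹) * ((z ^ (16 * k'))⁻¹ * (g * z * g⁻¹))⁻¹ = (z ^ 2)⁻¹ * z ^ (16 * k') by
      group] at h4
    rwa [show z ^ (16 * k') = z ^ 2 * z ^ (16 * k' - 2) by rw [← pow_add, Nat.add_sub_cancel' hk16],
      inv_mul_cancel_left] at h4
  have hzp : z ^ p = 1 := d.W_pow hz.1
  have h5 : z ^ 12 ∈ d.C := by
    have h6 := pow_mem h3 2
    rw [← pow_mul, show (16 * k' - 2) * 2 = 16 * (2 * k') - 4 by omega, hk',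
      show 16 * (p * j + 1) - 4 = p * (16 * j) + 12 by
        have : 16 * (p * j + 1) = p * (16 * j) + 16 := by ring
        omega, pow_add, pow_mul, hzp, one_pow, one_mul] at h6
    exact h6
  have hcop : (12 : ℕ).Coprime p := by
    refine ((hp.out.coprime_iff_not_dvd).2 fun h => ?_).symm
    rcases hp.out.dvd_mul.1 (show p ∣ (2 * 2) * 3 from h) with h | h
    · rcases hp.out.dvd_mul.1 h with h | h <;> exact hp2 ((Nat.prime_dvd_prime_iff_eq hp.out Nat.prime_two).1 h)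
    · exact hp3 ((Nat.prime_dvd_prime_iff_eq hp.out Nat.prime_three).1 h)
  have hz1 : z = (z ^ 12) ^ Nat.gcdA 12 p * (z ^ p) ^ Nat.gcdB 12 p := by
    rw [← zpow_natCast z 12, ← zpow_natCast z p, ← _root_.zpow_mul, ← _root_.zpow_mul, ← _root_.zpow_add,
      ← Nat.gcd_eq_gcd_ab, hcop.gcd_eq_one]
    simp
  rw [hz1, hzp, _root_.one_zpow, mul_one]
  exact zpow_mem h5 _

include hρ hnW hnM hfol in
theorem two_factors (hs : d.Shift e) {U W : Subgroup G} [U.Normal] [W.Normal] (hU : U ≤ Cfsg.pCore p G)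
    (hch : Cfsg.IsChiefFactor U W) (hnc : ¬ ⁅U, (⊤ : Subgroup G)⁆ ≤ W) : Nat' ρ U W := by
  haveI := d.C_normal
  haveI := d.W_normal
  haveI := d.c.core_normal
  haveI := e.nK
  haveI := e.nWB
  have hUS := hU.trans d.c.core_le
  have h1 : U ⊓ d.C ≤ W := d.factor_skip hch hUS hnc d.triv_C (by rw [inf_bot_eq]; exact bot_le)
  refine (d.factor_nat hρ hnW inf_le_left hch h1).elim (fun h2 => ?_) id
  have h3 : U ⊓ e.K ≤ W := d.factor_skip hch hUS hnc (fun g _ x hx => e.fixK x hx g) h2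
  refine (d.factor_nat hρ hnM (e.KZM.trans e.ZMW) hch h3).resolve_left fun h4 => ?_
  have h5 := d.factor_skip hch hUS hnc (d.triv₂ e hρ hnW hnM hfol hs) h4
  rw [inf_eq_left.2 hU] at h5
  exact not_le_of_gt hch.1 h5

include hρ hnW hnM hfol in
theorem two_chain (hs : d.Shift e) : ∃ U₁ W₁ U₂ W₂ : Subgroup G, W₁ ≤ U₁ ∧ U₁ ≤ W₂ ∧ W₂ ≤ U₂ ∧ U₂ ≤ (Cfsg.pCore p G) ∧
    Cfsg.IsChiefFactor U₁ W₁ ∧ Cfsg.IsChiefFactor U₂ W₂ ∧ ¬ ⁅U₁, (⊤ : Subgroup G)⁆ ≤ W₁ ∧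
    ¬ ⁅U₂, (⊤ : Subgroup G)⁆ ≤ W₂ ∧ (∃ k : ℕ, Cfsg.iterCommutator W₁ ⊤ k = ⊥) ∧
    (∃ k : ℕ, Cfsg.iterCommutator W₂ ⊤ k ≤ U₁) ∧ (∃ k : ℕ, Cfsg.iterCommutator (Cfsg.pCore p G) ⊤ k ≤ U₂) := by
  haveI := d.C_normal
  haveI := d.W_normal
  haveI := d.c.core_normal
  haveI := e.nK
  haveI := e.nWB
  obtain ⟨h1, h2⟩ := hnW.chief hρ inf_le_left
  obtain ⟨h3, h4⟩ := hnM.chief hρ (e.KZM.trans e.ZMW)
  refine ⟨d.W, d.C, e.WB, e.K, inf_le_left, e.WK, e.KZM.trans e.ZMW, e.WBQ, h1, h3, h2, h4, ?_,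
    d.hyper (((e.KZM.trans e.ZMW).trans e.WBQ).trans d.c.core_le) e.WK (fun g _ x hx => e.fixK x hx g),
    d.hyper d.c.core_le e.WBQ (d.triv₂ e hρ hnW hnM hfol hs)⟩
  obtain ⟨k, hk⟩ := d.hyper (inf_le_left.trans d.W_le_S) bot_le d.triv_C
  exact ⟨k, le_bot_iff.1 hk⟩

theorem mem_S₂ {s : G} (hs : s ∈ d.S) : ∃ a ∈ e.A2, ∃ w ∈ e.WB, ∃ k ∈ e.D, a * (w * k) = s := by
  haveI := d.c.core_normal
  rw [← e.A2S, ← SetLike.mem_coe, coe_mul_of_left_le_normalizer_right _ _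
    (fun y _ => (normalizer_eq_top (H := Cfsg.pCore p G)).ge (mem_top y))] at hs
  obtain ⟨a, ha, q, hq, rfl⟩ := hs
  obtain ⟨w, hw, k, hk, rfl⟩ := e.decQ q hq
  exact ⟨a, ha, w, hw, k, hk, rfl⟩

/-- class three and exponent nine -/
theorem two_structure (hd : NoChar d.c) (e : d.Dist2) (hp3 : p = 3) : d.S.lowerCentralSeries 3 = ⊥ ∧ d.S.lowerCentralSeries 2 ≠ ⊥ ∧
    Monoid.exponent ↥d.S = 9 := by
  haveI := d.c.core_normal
  haveI := e.nD
  haveI := e.nWB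
  haveI := d.C_normal
  have hp2 := d.two_ne_two e
  have hA2le : e.A2 ≤ d.S := le_sup_left.trans e.A2S.le
  have hDS : e.D ≤ d.S := e.DQ.trans d.c.core_le
  have hWS : e.WB ≤ d.S := e.WBQ.trans d.c.core_le
  have hZMS : e.ZM ≤ d.S := e.ZMW.trans hWS
  have hZZM : d.Z ≤ e.ZM := fun c hc => e.KZM (e.WK hc.1)
  have hnorm : ∀ P : Subgroup G, (∀ g : G, cj g P ≤ P) → P.Normal := fun P h =>
    ⟨fun x hx g => h g (conj_mem_cj hx)⟩
  have hDcj : ∀ g, cj g e.D = e.D := fun g => cj_eq_of_mem ((normalizer_eq_top (H := e.D)).ge (mem_top g))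
  haveI hnD' : (phi p e.D).Normal := hnorm _ fun g => by rw [cj, map_phi]; exact (congrArg (phi p) (hDcj g)).le
  -- `S` normalizes the line
  have hZMn : d.S ≤ normalizer (e.ZM : Set G) := le_normalizer_of_forall fun s hs => by
    rintro _ ⟨x, hx, rfl⟩
    show s * x * s⁻¹ ∈ e.ZM
    rw [show s * x * s⁻¹ = ⁅x, s⁆⁻¹ * x by simp only [commutatorElement_def]; group]
    exact mul_mem (hZZM (inv_mem (e.fixZ x hx s hs))) hx
  -- the Frattini subgroup
  set N₀ := e.ZM ⊔ phi p e.D with hN₀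
  have hN₀n : d.S ≤ normalizer (N₀ : Set G) := le_normalizer_of_forall fun s hs => by
    rw [hN₀, cj_sup, cj_eq_of_mem (hZMn hs), cj_eq_of_mem ((normalizer_eq_top (H := phi p e.D)).ge (mem_top s))]
  set N : Subgroup ↥d.S := N₀.subgroupOf d.S with hN
  haveI : N.Normal := normal_subgroupOf_of_le_normalizer hN₀n
  set q := QuotientGroup.mk' N
  have hqc : ∀ (x z : ↥d.S), ⁅(x : G), (z : G)⁆ ∈ N₀ → q x * q z = q z * q x := fun x z h => by
    rw [← commutatorElement_eq_one_iff_mul_comm, ← map_commutatorElement]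
    exact (QuotientGroup.eq_one_iff _).2 (mem_subgroupOf.2 h)
  have hAW : ∀ a ∈ e.A2, ∀ w ∈ e.WB, ⁅a, w⁆ ∈ N₀ := fun a ha w hw => by
    rw [← commutatorElement_inv]; exact inv_mem (mem_sup_left (e.move w hw a (hA2le ha)))
  have hAD : ∀ a ∈ e.A2, ∀ k ∈ e.D, ⁅a, k⁆ ∈ N₀ := fun a ha k hk => by
    rw [← commutatorElement_inv]; exact inv_mem (mem_sup_left (hZZM (e.DA2 k hk a ha)))
  have hquot : ∀ s ∈ d.S, ∀ t ∈ d.S, ⁅s, t⁆ ∈ N₀ ∧ s ^ p ∈ N₀ := by
    intro s hs t ht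
    obtain ⟨a, ha, w, hw, k, hk, rfl⟩ := d.mem_S₂ e hs
    obtain ⟨a', ha', w', hw', k', hk', rfl⟩ := d.mem_S₂ e ht
    let A' : ↥d.S := ⟨a, hA2le ha⟩
    let W' : ↥d.S := ⟨w, hWS hw⟩
    let K' : ↥d.S := ⟨k, hDS hk⟩
    let A₂' : ↥d.S := ⟨a', hA2le ha'⟩
    let W₂' : ↥d.S := ⟨w', hWS hw'⟩
    let K₂' : ↥d.S := ⟨k', hDS hk'⟩
    have c1 : Commute (q A') (q A₂') := hqc _ _ (by
      rw [commutatorElement_eq_one_iff_mul_comm.2 (e.A2ab a ha a' ha')]; exact one_mem _)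
    have c2 : Commute (q A') (q W₂') := hqc _ _ (hAW a ha w' hw')
    have c3 : Commute (q A') (q K₂') := hqc _ _ (hAD a ha k' hk')
    have c4 : Commute (q W') (q A₂') := (show Commute (q A₂') (q W') from hqc _ _ (hAW a' ha' w hw)).symm
    have c5 : Commute (q W') (q W₂') := hqc _ _ (mem_sup_left (hZZM (d.C_le (e.WQ w hw w' (e.WBQ hw')))))
    have c6 : Commute (q W') (q K₂') := hqc _ _ (mem_sup_left (hZZM (d.C_le (e.WQ w hw k' (e.DQ hk')))))
    have c7 : Commute (q K') (q A₂') := hqc _ _ (mem_sup_left (hZZM (e.DA2 k hk a' ha')))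
    have c8 : Commute (q K') (q W₂') := hqc _ _ (by
      rw [commutatorElement_eq_one_iff_mul_comm.2 (e.DW k hk w' hw')]; exact one_mem _)
    have c9 : Commute (q K') (q K₂') := hqc _ _ (mem_sup_right (mem_phi_comm hk hk'))
    have hc : Commute (q (A' * (W' * K'))) (q (A₂' * (W₂' * K₂'))) := by
      simp only [map_mul]
      exact (c1.mul_right (c2.mul_right c3)).mul_left ((c4.mul_right (c5.mul_right c6)).mul_left
        (c7.mul_right (c8.mul_right c9)))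
    refine ⟨?_, ?_⟩
    · have h := commutatorElement_eq_one_iff_mul_comm.2 hc.eq
      rw [← map_commutatorElement] at h
      exact mem_subgroupOf.1 ((QuotientGroup.eq_one_iff _).1 h)
    · have d1 : Commute (q A') (q W') := hqc _ _ (hAW a ha w hw)
      have d2 : Commute (q A') (q K') := hqc _ _ (hAD a ha k hk)
      have d3 : Commute (q W') (q K') := hqc _ _ (mem_sup_left (hZZM (d.C_le (e.WQ w hw k (e.DQ hk)))))
      have eK : q K' ^ p = 1 := by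
        rw [← map_pow]
        exact (QuotientGroup.eq_one_iff _).2 (mem_subgroupOf.2 (mem_sup_right (mem_phi_pow hk)))
      have eA : q A' ^ p = 1 := by
        rw [← map_pow, show A' ^ p = 1 from Subtype.ext (e.A2pow a ha), map_one]
      have eW : q W' ^ p = 1 := by
        rw [← map_pow, show W' ^ p = 1 from Subtype.ext (d.WB_pow e hp2 hw), map_one]
      have h : q ((A' * (W' * K')) ^ p) = 1 := by
        rw [map_pow, map_mul, map_mul, (d1.mul_right d2).mul_pow, d3.mul_pow, eA, eW, eK, one_mul, one_mul]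
      exact mem_subgroupOf.1 ((QuotientGroup.eq_one_iff _).1 h)
  have hphiS : phi p d.S ≤ N₀ := by
    refine sup_le (commutator_le.2 fun s hs t ht => (hquot s hs t ht).1) ((closure_le _).2 ?_)
    rintro _ ⟨s, hs, rfl⟩
    exact (hquot s hs s hs).2
  have hN₀mem : ∀ x ∈ N₀, ∃ z ∈ e.ZM, ∃ f ∈ phi p e.D, z * f = x := fun x hx => by
    rw [hN₀, ← SetLike.mem_coe, coe_mul_of_left_le_normalizer_right _ _
      (fun y _ => (normalizer_eq_top (H := phi p e.D)).ge (mem_top y))] at hx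
    exact hx
  have hphiD : phi p e.D ≤ phi p d.S := phi_mono hDS
  -- the commutators of the Frattini subgroup
  have hcommeq : ⁅phi p d.S, phi p d.S⁆ = ⁅phi p e.D, phi p e.D⁆ := by
    refine le_antisymm (commutator_le.2 fun x hx y hy => ?_) (commutator_mono hphiD hphiD)
    obtain ⟨z, hz, f, hf, rfl⟩ := hN₀mem x (hphiS hx)
    obtain ⟨z', hz', f', hf', rfl⟩ := hN₀mem y (hphiS hy)
    have a1 : Commute f z' := e.DW f (phi_le _ hf) z' (e.ZMW hz')
    have a2 : Commute z f' := (show Commute f' z from e.DW f' (phi_le _ hf') z (e.ZMW hz)).symm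
    have a3 : Commute z z' := e.ZMab z hz z' hz'
    have a4 : Commute z f := (show Commute f z from e.DW f (phi_le _ hf) z (e.ZMW hz)).symm
    have a5 : Commute z' f' := (show Commute f' z' from e.DW f' (phi_le _ hf') z' (e.ZMW hz')).symm
    have e1 : ⁅z * f, z' * f'⁆ = ⁅f, f'⁆ :=
      calc ⁅z * f, z' * f'⁆ = z * (f * (z' * f')) * f⁻¹ * z⁻¹ * f'⁻¹ * z'⁻¹ := by
            simp only [commutatorElement_def]; group
        _ = (z * z') * (f * f') * f⁻¹ * z⁻¹ * f'⁻¹ * z'⁻¹ := by rw [← mul_assoc f z' f', a1.eq]; group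
        _ = z' * (z * (f * f' * f⁻¹)) * z⁻¹ * f'⁻¹ * z'⁻¹ := by rw [a3.eq]; group
        _ = z' * ((f * f' * f⁻¹) * z) * z⁻¹ * f'⁻¹ * z'⁻¹ := by
            rw [((a4.mul_right a2).mul_right a4.inv_right).eq]
        _ = z' * ⁅f, f'⁆ * z'⁻¹ := by simp only [commutatorElement_def]; group
        _ = ⁅f, f'⁆ := by
            have hff : Commute z' ⁅f, f'⁆ := by
              rw [commutatorElement_def]
              exact (((a1.symm.mul_right a5).mul_right a1.symm.inv_right)).mul_right a5.inv_right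
            rw [hff.eq, mul_inv_cancel_right]
    rw [e1]
    exact commutator_mem_commutator hf hf'
  have hpweq : pw p (phi p d.S) = pw p (phi p e.D) := by
    refine le_antisymm ((closure_le _).2 ?_) (closure_mono (Set.image_mono hphiD))
    rintro _ ⟨x, hx, rfl⟩
    obtain ⟨z, hz, f, hf, rfl⟩ := hN₀mem x (hphiS hx)
    show (z * f) ^ p ∈ pw p (phi p e.D)
    rw [(show Commute f z from e.DW f (phi_le _ hf) z (e.ZMW hz)).symm.mul_pow, d.WB_pow e hp2 (e.ZMW hz), one_mul]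
    exact pw_mem hf
  have hpp : pw p (phi p d.S) = ⊥ := by
    haveI : (pw p (phi p (⊤ : Subgroup ↥d.S))).Characteristic := characteristic_iff_map_eq.2 fun φ => by
      rw [map_pw, map_phi, map_top_of_surjective _ φ.surjective]
    have hmap : (pw p (phi p (⊤ : Subgroup ↥d.S))).map d.S.subtype = pw p (phi p d.S) := by
      rw [map_pw, map_phi, d.top_map]
    have hn : (pw p (phi p e.D)).Normal := hnorm _ fun g => by
      rw [cj, map_pw, map_phi]; exact (congrArg (fun P => pw p (phi p P)) (hDcj g)).le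
    rw [← hmap, d.char_bot hd (T := pw p (phi p (⊤ : Subgroup ↥d.S))) (by rw [hmap, hpweq]; exact hn),
      Subgroup.map_bot]
  -- class three
  haveI hnG : (⁅⁅e.D, e.D⁆, e.D⁆).Normal := inferInstance
  haveI hnG4 : (⁅⁅⁅e.D, e.D⁆, e.D⁆, e.D⁆).Normal := inferInstance
  have hDA2' : ∀ f ∈ ⁅e.D, e.D⁆, ∀ a ∈ e.A2, f * a = a * f := by
    intro f hf a ha
    have hle : ⁅e.D, e.D⁆ ≤ centralizer ({a} : Set G) := commutator_le.2 fun x hx y hy => by
      refine mem_centralizer_singleton_iff.2 ?_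
      have hx' : ∀ {x}, x ∈ e.D → ∃ c ∈ d.Z, a * x * a⁻¹ = c * x := fun {x} hx =>
        ⟨⁅x, a⁆⁻¹, inv_mem (e.DA2 x hx a ha), by rw [commutatorElement_def]; group⟩
      obtain ⟨c, hc, e1⟩ := hx' hx
      obtain ⟨c', hc', e2⟩ := hx' hy
      have hxy : ⁅x, y⁆ ∈ d.S := d.S.mul_mem (d.S.mul_mem (d.S.mul_mem (hDS hx) (hDS hy)) (d.S.inv_mem (hDS hx))) (d.S.inv_mem (hDS hy))
      have hfx : a * ⁅x, y⁆ * a⁻¹ = ⁅x, y⁆ := by
        rw [d.comm_conj, e1, e2, show ⁅c * x, c' * y⁆ =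
          c * (x * c' * x⁻¹) * (⁅x, y⁆ * (y * c⁻¹ * y⁻¹) * ⁅x, y⁆⁻¹) * (⁅x, y⁆ * c'⁻¹ * ⁅x, y⁆⁻¹) * ⁅x, y⁆ by
            simp only [commutatorElement_def]; group,
          d.Z_fix hc' (hDS hx), d.Z_fix (inv_mem hc) (hDS hy), d.Z_fix (inv_mem hc) hxy,
          d.Z_fix (inv_mem hc') hxy, show c * c' = c' * c from d.W_comm hc.1 hc'.1]
        group
      calc ⁅x, y⁆ * a = a * ⁅x, y⁆ * a⁻¹ * a := by rw [hfx]
        _ = a * ⁅x, y⁆ := by group
    exact mem_centralizer_singleton_iff.1 (hle hf)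
  -- a commutator with `S` of a derived element
  have hder : ∀ (P : Subgroup G) [P.Normal] (f : G), f ∈ ⁅e.D, e.D⁆ → (∀ k ∈ e.D, ⁅f, k⁆ ∈ P) →
      ∀ s ∈ d.S, ⁅f, s⁆ ∈ P := by
    intro P _ f hf hP s hs
    obtain ⟨a, ha, w, hw, k, hk, rfl⟩ := d.mem_S₂ e hs
    have hfD : f ∈ e.D := commutator_le_left e.D e.D hf
    have h1 : ⁅f, a⁆ = 1 := commutatorElement_eq_one_iff_mul_comm.2 (hDA2' f hf a ha)
    have h2 : ⁅f, w⁆ = 1 := commutatorElement_eq_one_iff_mul_comm.2 (e.DW f hfD w hw)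
    rw [d.comm_mul_right, d.comm_mul_right, h1, h2, one_mul, one_mul]
    exact Normal.conj_mem inferInstance _ (Normal.conj_mem inferInstance _ (hP k hk) w) a
  set N₁ := e.ZM ⊔ ⁅e.D, e.D⁆
  have hlcs2 : ⁅⁅d.S, d.S⁆, d.S⁆ ≤ ⁅⁅e.D, e.D⁆, e.D⁆ ⊔ d.Z := by
    have hS' : ⁅d.S, d.S⁆ ≤ N₁ := by
      have hN₁n : d.S ≤ normalizer (N₁ : Set G) := le_normalizer_of_forall fun s hs => by
        simp only [N₁]
        rw [cj_sup, cj_eq_of_mem (hZMn hs), cj_eq_of_mem ((normalizer_eq_top (H := ⁅e.D, e.D⁆)).ge (mem_top s))]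
      set N' : Subgroup ↥d.S := N₁.subgroupOf d.S
      haveI : N'.Normal := normal_subgroupOf_of_le_normalizer hN₁n
      refine commutator_le.2 fun s hs t ht => ?_
      obtain ⟨a, ha, w, hw, k, hk, rfl⟩ := d.mem_S₂ e hs
      obtain ⟨a', ha', w', hw', k', hk', rfl⟩ := d.mem_S₂ e ht
      set r := QuotientGroup.mk' N'
      have hrc : ∀ (x z : ↥d.S), ⁅(x : G), (z : G)⁆ ∈ N₁ → r x * r z = r z * r x := fun x z h => by
        rw [← commutatorElement_eq_one_iff_mul_comm, ← map_commutatorElement]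
        exact (QuotientGroup.eq_one_iff _).2 (mem_subgroupOf.2 h)
      have hAW' : ∀ a ∈ e.A2, ∀ w ∈ e.WB, ⁅a, w⁆ ∈ N₁ := fun a ha w hw => by
        rw [← commutatorElement_inv]; exact inv_mem (mem_sup_left (e.move w hw a (hA2le ha)))
      have hAD' : ∀ a ∈ e.A2, ∀ k ∈ e.D, ⁅a, k⁆ ∈ N₁ := fun a ha k hk => by
        rw [← commutatorElement_inv]; exact inv_mem (mem_sup_left (hZZM (e.DA2 k hk a ha)))
      let A' : ↥d.S := ⟨a, hA2le ha⟩
      let W' : ↥d.S := ⟨w, hWS hw⟩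
      let K' : ↥d.S := ⟨k, hDS hk⟩
      let A₂' : ↥d.S := ⟨a', hA2le ha'⟩
      let W₂' : ↥d.S := ⟨w', hWS hw'⟩
      let K₂' : ↥d.S := ⟨k', hDS hk'⟩
      have c1 : Commute (r A') (r A₂') := hrc _ _ (by
        rw [commutatorElement_eq_one_iff_mul_comm.2 (e.A2ab a ha a' ha')]; exact one_mem _)
      have c2 : Commute (r A') (r W₂') := hrc _ _ (hAW' a ha w' hw')
      have c3 : Commute (r A') (r K₂') := hrc _ _ (hAD' a ha k' hk')
      have c4 : Commute (r W') (r A₂') := (show Commute (r A₂') (r W') from hrc _ _ (hAW' a' ha' w hw)).symm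
      have c5 : Commute (r W') (r W₂') := hrc _ _ (mem_sup_left (hZZM (d.C_le (e.WQ w hw w' (e.WBQ hw')))))
      have c6 : Commute (r W') (r K₂') := hrc _ _ (mem_sup_left (hZZM (d.C_le (e.WQ w hw k' (e.DQ hk')))))
      have c7 : Commute (r K') (r A₂') := hrc _ _ (mem_sup_left (hZZM (e.DA2 k hk a' ha')))
      have c8 : Commute (r K') (r W₂') := hrc _ _ (by
        rw [commutatorElement_eq_one_iff_mul_comm.2 (e.DW k hk w' hw')]; exact one_mem _)
      have c9 : Commute (r K') (r K₂') := hrc _ _ (mem_sup_right (commutator_mem_commutator hk hk'))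
      have hc : Commute (r (A' * (W' * K'))) (r (A₂' * (W₂' * K₂'))) := by
        simp only [map_mul]
        exact (c1.mul_right (c2.mul_right c3)).mul_left ((c4.mul_right (c5.mul_right c6)).mul_left
          (c7.mul_right (c8.mul_right c9)))
      have h := commutatorElement_eq_one_iff_mul_comm.2 hc.eq
      rw [← map_commutatorElement] at h
      exact mem_subgroupOf.1 ((QuotientGroup.eq_one_iff _).1 h)
    refine (commutator_mono hS' le_rfl).trans (commutator_le.2 fun x hx s hs => ?_)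
    simp only [N₁] at hx
    rw [← SetLike.mem_coe, coe_mul_of_left_le_normalizer_right _ _
      (fun y _ => (normalizer_eq_top (H := ⁅e.D, e.D⁆)).ge (mem_top y))] at hx
    obtain ⟨z, hz, f, hf, rfl⟩ := hx
    rw [show ⁅z * f, s⁆ = (z * ⁅f, s⁆ * z⁻¹) * ⁅z, s⁆ by simp only [commutatorElement_def]; group]
    exact mul_mem (mem_sup_left (hnG.conj_mem _ (hder _ f hf (fun k hk => commutator_mem_commutator hf hk) s hs) z))
      (mem_sup_right (e.fixZ z hz s hs))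
  have hclass : d.S.lowerCentralSeries 3 = ⊥ := by
    have heq : ⁅⁅⁅d.S, d.S⁆, d.S⁆, d.S⁆ = ⁅⁅⁅e.D, e.D⁆, e.D⁆, e.D⁆ := by
      refine le_antisymm ((commutator_mono hlcs2 le_rfl).trans (commutator_le.2 fun x hx s hs => ?_))
        (commutator_mono (commutator_mono (commutator_mono hDS hDS) hDS) hDS)
      rw [← SetLike.mem_coe, coe_mul_of_right_le_normalizer_left _ _
        (fun y _ => (normalizer_eq_top (H := ⁅⁅e.D, e.D⁆, e.D⁆)).ge (mem_top y))] at hx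
      obtain ⟨f, hf, z, hz, rfl⟩ := hx
      rw [show ⁅f * z, s⁆ = (f * ⁅z, s⁆ * f⁻¹) * ⁅f, s⁆ by simp only [commutatorElement_def]; group,
        commutatorElement_eq_one_iff_mul_comm.2 (mem_centralizer_iff.1 hz.2 s hs).symm, mul_one, mul_inv_cancel,
        one_mul]
      exact hder _ f (commutator_le_left ⁅e.D, e.D⁆ e.D hf) (fun k hk => commutator_mem_commutator hf hk) s hs
    haveI : (⁅⁅⁅(⊤ : Subgroup ↥d.S), (⊤ : Subgroup ↥d.S)⁆, (⊤ : Subgroup ↥d.S)⁆, (⊤ : Subgroup ↥d.S)⁆).Characteristic :=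
      inferInstance
    have hmap : (⁅⁅⁅(⊤ : Subgroup ↥d.S), (⊤ : Subgroup ↥d.S)⁆, (⊤ : Subgroup ↥d.S)⁆, (⊤ : Subgroup ↥d.S)⁆).map d.S.subtype =
        ⁅⁅⁅d.S, d.S⁆, d.S⁆, d.S⁆ := by
      rw [map_commutator, map_commutator, map_commutator, d.top_map]
    show ⁅⁅⁅d.S, d.S⁆, d.S⁆, d.S⁆ = ⊥
    rw [← hmap, d.char_bot hd (T := ⁅⁅⁅(⊤ : Subgroup ↥d.S), (⊤ : Subgroup ↥d.S)⁆, (⊤ : Subgroup ↥d.S)⁆, (⊤ : Subgroup ↥d.S)⁆)
      (by rw [hmap, heq]; exact hnG4), Subgroup.map_bot]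
  obtain ⟨a, ha, b, hb, hne⟩ := d.crit_ne e
  refine ⟨hclass, fun h => hne ?_, ?_⟩
  · have h1 : ⁅⁅a, b⁆, a⁆ ∈ ⁅⁅d.S, d.S⁆, d.S⁆ :=
      commutator_mem_commutator (commutator_mem_commutator (hA2le ha) (hWS hb)) (hA2le ha)
    rw [show ⁅⁅d.S, d.S⁆, d.S⁆ = ⊥ from h, mem_bot] at h1
    rw [← commutatorElement_inv, h1, inv_one]
  · subst hp3
    have h9 : Monoid.exponent ↥d.S ∣ 3 ^ 2 := Monoid.exponent_dvd_of_forall_pow_eq_one fun x => Subtype.ext (by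
      show (x : G) ^ (3 * 3) = 1
      rw [pow_mul]
      exact mem_bot.1 (hpp ▸ pw_mem (mem_phi_pow x.2)))
    obtain ⟨k, hk, e9⟩ := (Nat.dvd_prime_pow Nat.prime_three).1 h9
    rcases (show k ≤ 1 ∨ k = 2 by omega) with hk1 | rfl
    · exfalso
      have hcube : ∀ x : ↥d.S, x ^ 3 = 1 := fun x => by
        refine orderOf_dvd_iff_pow_eq_one.1 ((Monoid.order_dvd_exponent x).trans ?_)
        rw [e9]
        exact (pow_dvd_pow 3 hk1).trans (by norm_num)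
      exact hne (congrArg Subtype.val (engel_three hcube ⟨a, hA2le ha⟩ ⟨b, hWS hb⟩))
    · exact e9

end Dist2

end Sit

end Cfsg.Lib.BGN.P
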